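import Mathlib
import Groth.Prelude.Def_FlatMod2
import Groth.Prelude.Def_FDesc
import Groth.Agent.H7.DvrLenDefs
import Groth.Agent.H8.SuppClosed
import Groth.Agent.H8.PullbackFinType

/-!
# (FIN) for helper7's S4980 squad: finitely many maximal points of the support on a fibre
-/

set_option autoImplicit false
set_option linter.style.haveILetI false
universe u
open CategoryTheory CategoryTheory.Limits AlgebraicGeometry TopologicalSpace Opposite
open IsLocalRing

namespace Groth.Agent.H68.DvrLen_FIN

open Groth.Agent.H7.DvrLen (MaxSupp)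

/-- In a Noetherian quasi-sober space, a closed set has finitely many points which are maximal
under generization inside it. -/
theorem finite_maximal_points {W : Type*} [TopologicalSpace W] [NoetherianSpace W] [QuasiSober W]
    {Z : Set W} (hZ : IsClosed Z) :
    {v : W | v ∈ Z ∧ ∀ w ∈ Z, w ⤳ v → w = v}.Finite := by
  classical
  obtain ⟨S, hSfin, hScl, hSirr, hSU⟩ :=
    NoetherianSpace.exists_finite_set_isClosed_irreducible hZ
  -- a generic point for each member of `S`
  have hgen : ∀ t : S, ∃ g : W, IsGenericPoint g (t : Set W) := fun t =>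
    QuasiSober.sober (hSirr t.1 t.2) (hScl t.1 t.2)
  choose g hg using hgen
  haveI : Finite S := hSfin.to_subtype
  refine (Set.finite_range g).subset ?_
  rintro v ⟨hvZ, hvmax⟩
  rw [hSU] at hvZ
  obtain ⟨t, htS, hvt⟩ := Set.mem_sUnion.mp hvZ
  refine ⟨⟨t, htS⟩, ?_⟩
  have h1 : g ⟨t, htS⟩ ∈ Z := by
    rw [hSU]
    exact Set.mem_sUnion.mpr ⟨t, htS, (hg ⟨t, htS⟩).mem⟩
  have h2 : g ⟨t, htS⟩ ⤳ v := by
    rw [specializes_iff_mem_closure, (hg ⟨t, htS⟩).def]
    exact hvt
  exact hvmax _ h1 h2

theorem finite_maxSupp_fibre {A : Type u} [CommRing A] [IsNoetherianRing A] {X : Scheme.{u}}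
    (f : X ⟶ Spec (CommRingCat.of A)) [IsProper f] (F : X.Modules) (hF : Coh.IsCoh F)
    (s : ↥(Spec (CommRingCat.of A))) :
    Finite {v : ↥(f.fiber s) // MaxSupp ((Scheme.Modules.pullback (f.fiberι s)).obj F) v} := by
  -- the fibre is a Noetherian scheme
  haveI : LocallyOfFiniteType (f.fiberToSpecResidueField s) :=
    MorphismProperty.pullback_snd _ _ inferInstance
  haveI : IsLocallyNoetherian (f.fiber s) :=
    LocallyOfFiniteType.isLocallyNoetherian (f.fiberToSpecResidueField s)
  haveI : IsNoetherian (f.fiber s) := { }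
  -- the support is closed
  haveI : F.IsQuasicoherent := hF.1
  haveI : SheafOfModules.IsFiniteType (R := X.ringCatSheaf) F := hF.2
  haveI := Groth.Agent.H8.isFiniteType_pullback (f.fiberι s) F
  have hcl := Groth.Agent.H8.isClosed_support_of_isFiniteType
    ((Scheme.Modules.pullback (f.fiberι s)).obj F)
  have hfin := finite_maximal_points hcl
  refine (hfin.subset ?_).to_subtype
  rintro v ⟨hv1, hv2⟩
  refine ⟨not_subsingleton_iff_nontrivial.mpr hv1, ?_⟩
  intro w hw hwv
  exact hv2 w (not_subsingleton_iff_nontrivial.mp hw) (specializes_iff_mem_closure.mp hwv)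

end Groth.Agent.H68.DvrLen_FIN
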