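import Mathlib

/-!
# (G1) for helper7's S4980 squad: a point specializes into the closed fibre of a proper
scheme over a DVR, to a maximal point of `closure {x'} ∩ closed fibre`
-/

set_option autoImplicit false
set_option linter.style.haveILetI false
universe u
open CategoryTheory CategoryTheory.Limits AlgebraicGeometry TopologicalSpace Opposite
open IsLocalRing

namespace Groth.Agent.H68.DvrLen_G1

/-- In a quasi-sober T0 space, every point `t` of a closed set `T` is a specialization of a point
`x ∈ T` which is maximal in `T` under generization. -/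
theorem exists_maximal_generization {X : Type*} [TopologicalSpace X] [QuasiSober X] [T0Space X]
    {T : Set X} (hT : IsClosed T) {t : X} (ht : t ∈ T) :
    ∃ x ∈ T, x ⤳ t ∧ ∀ w ∈ T, w ⤳ x → w = x := by
  haveI : QuasiSober T := hT.isClosedEmbedding_subtypeVal.quasiSober
  let t' : T := ⟨t, ht⟩
  have hZirr : IsIrreducible (irreducibleComponent t') := isIrreducible_irreducibleComponent
  have hZcl : IsClosed (irreducibleComponent t') := isClosed_irreducibleComponent
  obtain ⟨g, hg⟩ := QuasiSober.sober hZirr hZcl
  refine ⟨g.1, g.2, ?_, ?_⟩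
  · rw [← subtype_specializes_iff g t', specializes_iff_mem_closure, hg.def]
    exact mem_irreducibleComponent
  · intro w hwT hw
    let w' : T := ⟨w, hwT⟩
    have hsp : w' ⤳ g := (subtype_specializes_iff w' g).mpr hw
    have h3 : irreducibleComponent t' ⊆ closure {w'} := by
      rw [← hg.def]
      exact specializes_iff_closure_subset.mp hsp
    have h4 : closure {w'} = irreducibleComponent t' :=
      eq_irreducibleComponent isIrreducible_singleton.closure.isPreirreducible h3
    have h5 : w' = g := IsGenericPoint.eq (h4 : IsGenericPoint w' _) hg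
    exact congrArg Subtype.val h5

theorem exists_specialization_closedFibre {A : Type u} [CommRing A] [IsDomain A]
    [IsDiscreteValuationRing A] {X : Scheme.{u}} (f : X ⟶ Spec (CommRingCat.of A)) [IsProper f]
    (x' : X) :
    ∃ x : X, f x = closedPoint A ∧ x' ⤳ x ∧
      ∀ w : X, x' ⤳ w → w ⤳ x → f w = closedPoint A → w = x := by
  have hcl : IsClosed ({closedPoint A} : Set (PrimeSpectrum A)) :=
    IsLocalRing.isClosed_singleton_closedPoint (R := A)
  have hTcl : IsClosed (closure {x'} ∩ f ⁻¹' {closedPoint A}) :=
    isClosed_closure.inter (hcl.preimage f.continuous)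
  have h1 : IsClosed (f '' closure {x'}) := f.isClosedMap _ isClosed_closure
  have h2 : closedPoint A ∈ f '' closure {x'} :=
    (IsLocalRing.specializes_closedPoint (f x')).mem_closed h1 ⟨x', subset_closure rfl, rfl⟩
  obtain ⟨t, ht1, ht2⟩ := h2
  obtain ⟨x, hxT, -, hxmax⟩ := exists_maximal_generization hTcl (t := t) ⟨ht1, ht2⟩
  refine ⟨x, hxT.2, specializes_iff_mem_closure.mpr hxT.1, ?_⟩
  intro w hw1 hw2 hw3
  exact hxmax w ⟨specializes_iff_mem_closure.mp hw1, hw3⟩ hw2

end Groth.Agent.H68.DvrLen_G1
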