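import Mathlib

/-!
# Algebra for (GZ): the length of a localization of a localization
-/

set_option autoImplicit false
set_option linter.style.haveILetI false
universe u

namespace Groth.Agent.H68.DvrLen_GZ

/-- two localizations of the same module at the same prime, over two models of the localized
ring, have the same length. -/
theorem length_eq_of_isLocalizedModule
    {B : Type u} [CommRing B] (q : Ideal B) [q.IsPrime]
    {N : Type u} [AddCommGroup N] [Module B N]
    {S₂ : Type u} [CommRing S₂] [Algebra B S₂] [IsLocalization.AtPrime S₂ q]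
    {M₂ : Type u} [AddCommGroup M₂] [Module B M₂] [Module S₂ M₂] [IsScalarTower B S₂ M₂]
    (ℓ₂ : N →ₗ[B] M₂) [IsLocalizedModule q.primeCompl ℓ₂]
    {T : Type u} [CommRing T] [Algebra B T] [IsLocalization.AtPrime T q]
    {M₃ : Type u} [AddCommGroup M₃] [Module B M₃] [Module T M₃] [IsScalarTower B T M₃]
    (ℓ₃ : N →ₗ[B] M₃) [IsLocalizedModule q.primeCompl ℓ₃] :
    Module.length S₂ M₂ = Module.length T M₃ := by
  let σ : S₂ ≃ₐ[B] T := IsLocalization.algEquiv q.primeCompl S₂ T
  let e : M₂ ≃ₗ[B] M₃ := IsLocalizedModule.linearEquiv q.primeCompl ℓ₂ ℓ₃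
  letI : Algebra T S₂ := (σ.symm : T →+* S₂).toAlgebra
  letI : Module T M₂ := Module.compHom M₂ (σ.symm : T →+* S₂)
  haveI : IsScalarTower T S₂ M₂ := IsScalarTower.of_algebraMap_smul fun r m => rfl
  have h1 : Module.length T M₂ = Module.length S₂ M₂ :=
    Module.length_eq_of_surjective (S := T) (R := S₂) (M := M₂) σ.symm.surjective
  haveI : IsScalarTower B T M₂ := IsScalarTower.of_algebraMap_smul fun b m => by
    show σ.symm (algebraMap B T b) • m = b • m
    rw [AlgEquiv.commutes, algebraMap_smul]
  let e' : M₂ ≃ₗ[T] M₃ := e.extendScalarsOfIsLocalization q.primeCompl T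
  rw [← h1]
  exact e'.length_eq

/-- The length of the localization at `p` of the localization at `P`, in terms of the
localization at `q = p ∩ B`. -/
theorem length_localizedModule_eq
    {B : Type u} [CommRing B] (P q : Ideal B) [P.IsPrime] [q.IsPrime]
    {N : Type u} [AddCommGroup N] [Module B N]
    {S₁ : Type u} [CommRing S₁] [Algebra B S₁] [IsLocalization.AtPrime S₁ P]
    {M₁ : Type u} [AddCommGroup M₁] [Module B M₁] [Module S₁ M₁] [IsScalarTower B S₁ M₁]
    (ℓ₁ : N →ₗ[B] M₁) [IsLocalizedModule P.primeCompl ℓ₁]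
    (p : Ideal S₁) [p.IsPrime] (hp : p.comap (algebraMap B S₁) = q)
    {S₂ : Type u} [CommRing S₂] [Algebra B S₂] [IsLocalization.AtPrime S₂ q]
    {M₂ : Type u} [AddCommGroup M₂] [Module B M₂] [Module S₂ M₂] [IsScalarTower B S₂ M₂]
    (ℓ₂ : N →ₗ[B] M₂) [IsLocalizedModule q.primeCompl ℓ₂] :
    Module.length S₂ M₂ =
      Module.length (Localization.AtPrime p) (LocalizedModule p.primeCompl M₁) := by
  subst hp
  haveI hT : IsLocalization.AtPrime (Localization.AtPrime p) (p.comap (algebraMap B S₁)) :=
    IsLocalization.isLocalization_isLocalization_atPrime_isLocalization P.primeCompl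
      (Localization.AtPrime p) p
  have hb1 : IsBaseChange S₁ ℓ₁ := IsLocalizedModule.isBaseChange P.primeCompl S₁ ℓ₁
  have hb2 : IsBaseChange (Localization.AtPrime p) (LocalizedModule.mkLinearMap p.primeCompl M₁) :=
    IsLocalizedModule.isBaseChange p.primeCompl (Localization.AtPrime p) _
  have hb3 := IsBaseChange.comp hb1 hb2
  haveI : IsLocalizedModule (p.comap (algebraMap B S₁)).primeCompl
      (((LocalizedModule.mkLinearMap p.primeCompl M₁).restrictScalars B).comp ℓ₁) :=
    (isLocalizedModule_iff_isBaseChange (p.comap (algebraMap B S₁)).primeCompl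
      (Localization.AtPrime p) _).mpr hb3
  exact length_eq_of_isLocalizedModule (p.comap (algebraMap B S₁)) ℓ₂
    (((LocalizedModule.mkLinearMap p.primeCompl M₁).restrictScalars B).comp ℓ₁)

end Groth.Agent.H68.DvrLen_GZ
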