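import Mathlib
import Groth.Prelude.Def_FlatMod2
import Groth.Prelude.Def_FDesc
import Groth.Agent.H8.QCohStalk
import Groth.Agent.H68.DvrLen_GZalg

/-!
# (GZ) for helper7's S4980 squad: the stalk at a generization is the localization of the stalk
-/

set_option autoImplicit false
set_option linter.style.haveILetI false
universe u
open CategoryTheory CategoryTheory.Limits AlgebraicGeometry TopologicalSpace Opposite
open IsLocalRing

namespace Groth.Agent.H68.DvrLen_GZ

theorem length_stalk_fromSpecStalk (X : Scheme.{u}) (F : X.Modules) [F.IsQuasicoherent] (x : X)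
    (p : PrimeSpectrum (X.presheaf.stalk x)) :
    Module.length (X.presheaf.stalk ((X.fromSpecStalk x) p))
        (F.presheaf.stalk ((X.fromSpecStalk x) p)) =
      Module.length (Localization.AtPrime p.asIdeal)
        (LocalizedModule p.asIdeal.primeCompl (F.presheaf.stalk x)) := by
  obtain ⟨U, hU, hxU, -⟩ := Opens.isBasis_iff_nbhd.mp X.isBasis_affineOpens
    (show x ∈ (⊤ : X.Opens) from trivial)
  have hyx : (X.fromSpecStalk x) p ⤳ x := by
    have : (X.fromSpecStalk x) p ∈ Set.range (X.fromSpecStalk x) := ⟨p, rfl⟩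
    rw [Scheme.range_fromSpecStalk] at this
    exact this
  have hyU : (X.fromSpecStalk x) p ∈ U := hyx.mem_open U.2 hxU
  -- structures at `x`
  letI := X.presheaf.algebra_section_stalk ⟨x, hxU⟩
  haveI := hU.isLocalization_stalk ⟨x, hxU⟩
  letI := Groth.Agent.H8.moduleSectionStalk F x hxU
  haveI := Groth.Agent.H8.isScalarTower_sectionStalk F x hxU
  haveI := Groth.Agent.H8.isLocalizedModule_germₗ F hU x hxU
  -- structures at `y`
  letI := X.presheaf.algebra_section_stalk ⟨(X.fromSpecStalk x) p, hyU⟩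
  haveI := hU.isLocalization_stalk ⟨(X.fromSpecStalk x) p, hyU⟩
  letI := Groth.Agent.H8.moduleSectionStalk F ((X.fromSpecStalk x) p) hyU
  haveI := Groth.Agent.H8.isScalarTower_sectionStalk F ((X.fromSpecStalk x) p) hyU
  haveI := Groth.Agent.H8.isLocalizedModule_germₗ F hU ((X.fromSpecStalk x) p) hyU
  -- the prime of `y`
  have hp : p.asIdeal.comap (algebraMap Γ(X, U) (X.presheaf.stalk x)) =
      (hU.primeIdealOf ⟨(X.fromSpecStalk x) p, hyU⟩).asIdeal := by
    have h1 : hU.fromSpec (Spec.map (X.presheaf.germ U x hxU) p) = (X.fromSpecStalk x) p := by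
      rw [← hU.fromSpecStalk_eq_fromSpecStalk hxU]
      rfl
    have h2 : hU.fromSpec (hU.primeIdealOf ⟨(X.fromSpecStalk x) p, hyU⟩) =
        (X.fromSpecStalk x) p := hU.fromSpec_primeIdealOf ⟨_, hyU⟩
    have h3 : Spec.map (X.presheaf.germ U x hxU) p =
        hU.primeIdealOf ⟨(X.fromSpecStalk x) p, hyU⟩ :=
      hU.fromSpec.isOpenEmbedding.injective (h1.trans h2.symm)
    rw [← h3]
    rfl
  exact length_localizedModule_eq (hU.primeIdealOf ⟨x, hxU⟩).asIdeal
    (hU.primeIdealOf ⟨(X.fromSpecStalk x) p, hyU⟩).asIdeal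
    (Groth.Agent.H8.germₗ F x hxU) p.asIdeal hp
    (Groth.Agent.H8.germₗ F ((X.fromSpecStalk x) p) hyU)

end Groth.Agent.H68.DvrLen_GZ
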