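import Mathlib

set_option autoImplicit false
open CategoryTheory CategoryTheory.Limits AlgebraicGeometry TensorProduct
universe u

namespace Groth.Agent.H68.FlatLoc

/-- Flatness descends along a faithfully flat ring map on the target. -/
theorem flat_of_comp_faithfullyFlat (A B C : Type u) [CommRing A] [CommRing B] [CommRing C]
    [Algebra A B] [Algebra B C] [Algebra A C] [IsScalarTower A B C]
    [Module.Flat A C] [Module.FaithfullyFlat B C] : Module.Flat A B := by
  rw [Module.Flat.iff_lTensor_preserves_injective_linearMap]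
  intro N P _ _ _ _ f hf
  have h1 : Function.Injective (f.lTensor C) :=
    Module.Flat.lTensor_preserves_injective_linearMap f hf
  have key : ∀ z : C ⊗[B] (B ⊗[A] N),
      AlgebraTensorModule.cancelBaseChange A B C C P (((f.baseChange B).lTensor C) z) =
        (f.lTensor C) (AlgebraTensorModule.cancelBaseChange A B C C N z) := by
    intro z
    induction z using TensorProduct.induction_on with
    | zero => simp
    | tmul c w =>
      induction w using TensorProduct.induction_on with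
      | zero => simp
      | tmul b n => simp
      | add w₁ w₂ h₁ h₂ => simp only [tmul_add, map_add, h₁, h₂]
    | add z₁ z₂ h₁ h₂ => simp only [map_add, h₁, h₂]
  have h2 : Function.Injective ((f.baseChange B).lTensor C) := by
    intro z z' hzz
    have := congrArg (AlgebraTensorModule.cancelBaseChange A B C C P) hzz
    rw [key, key] at this
    exact (AlgebraTensorModule.cancelBaseChange A B C C N).injective (h1 this)
  have h3 : Function.Injective (f.baseChange B) :=
    (Module.FaithfullyFlat.lTensor_injective_iff_injective B C (f.baseChange B)).mp h2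
  intro w w' hww
  apply h3
  simpa [LinearMap.baseChange_eq_ltensor] using hww

/-- If `p` and `p ≫ f` are flat, then `f` is flat at every point in the image of `p`. -/
theorem flat_stalkMap_of_comp {U X Y : Scheme.{u}} (p : U ⟶ X) (f : X ⟶ Y) [Flat p]
    [Flat (p ≫ f)] (t : U) : (f.stalkMap (p t)).hom.Flat := by
  have h1 : ((p.stalkMap t).hom.comp (f.stalkMap (p t)).hom).Flat := by
    have h := Flat.stalkMap (p ≫ f) t
    rw [Scheme.Hom.stalkMap_comp] at h
    exact h
  have h2 : (p.stalkMap t).hom.Flat := Flat.stalkMap p t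
  letI alg1 : Algebra (Y.presheaf.stalk (f (p t))) (X.presheaf.stalk (p t)) :=
    (f.stalkMap (p t)).hom.toAlgebra
  letI alg2 : Algebra (X.presheaf.stalk (p t)) (U.presheaf.stalk t) := (p.stalkMap t).hom.toAlgebra
  letI alg3 : Algebra (Y.presheaf.stalk (f (p t))) (U.presheaf.stalk t) :=
    ((p.stalkMap t).hom.comp (f.stalkMap (p t)).hom).toAlgebra
  haveI : IsScalarTower (Y.presheaf.stalk (f (p t))) (X.presheaf.stalk (p t))
      (U.presheaf.stalk t) := IsScalarTower.of_algebraMap_eq' rfl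
  haveI : Module.Flat (Y.presheaf.stalk (f (p t))) (U.presheaf.stalk t) := h1
  haveI : Module.Flat (X.presheaf.stalk (p t)) (U.presheaf.stalk t) := h2
  haveI : Module.FaithfullyFlat (X.presheaf.stalk (p t)) (U.presheaf.stalk t) :=
    @Module.FaithfullyFlat.of_flat_of_isLocalHom _ _ _ _ _ _ _ h2 (p.toLRSHom.prop t)
  exact flat_of_comp_faithfullyFlat (Y.presheaf.stalk (f (p t))) (X.presheaf.stalk (p t))
    (U.presheaf.stalk t)

/-- Lemma B: flatness can be checked flat-locally. -/
theorem flat_of_family {X Y : Scheme.{u}} (f : X ⟶ Y) {ι : Type u} {Y' : ι → Scheme.{u}}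
    (g : ∀ a, Y' a ⟶ Y) (U : ∀ a, (pullback f (g a)).Opens) (hg : ∀ a, Flat (g a))
    (hcov : ∀ x : X, ∃ a, x ∈ (pullback.fst f (g a)).base '' (U a : Set ↥(pullback f (g a))))
    (hU : ∀ a, Flat ((U a).ι ≫ pullback.snd f (g a))) : Flat f := by
  refine Flat.of_stalkMap f (fun x => ?_)
  obtain ⟨a, w, hw, hx⟩ := hcov x
  haveI := hg a
  haveI := hU a
  have hw' : w ∈ Set.range (U a).ι := by rw [Scheme.Opens.range_ι]; exact hw
  obtain ⟨t, rfl⟩ := hw'
  haveI hpf : Flat (((U a).ι ≫ pullback.fst f (g a)) ≫ f) := by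
    have e : ((U a).ι ≫ pullback.fst f (g a)) ≫ f =
        ((U a).ι ≫ pullback.snd f (g a)) ≫ g a := by
      rw [Category.assoc, Category.assoc, pullback.condition]
    rw [e]; infer_instance
  have hx' : ((U a).ι ≫ pullback.fst f (g a)) t = x := hx
  subst hx'
  exact flat_stalkMap_of_comp ((U a).ι ≫ pullback.fst f (g a)) f t

/-- Uniqueness of lifts, checked flat-locally. -/
theorem hom_ext_of_family {X Y : Scheme.{u}} (f : X ⟶ Y) {ι : Type u} {Y' : ι → Scheme.{u}}
    (g : ∀ a, Y' a ⟶ Y) (U : ∀ a, (pullback f (g a)).Opens) (hg : ∀ a, Flat (g a))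
    (hcov : ∀ x : X, ∃ a, x ∈ (pullback.fst f (g a)).base '' (U a : Set ↥(pullback f (g a))))
    (hU : ∀ a, Mono ((U a).ι ≫ pullback.snd f (g a)))
    {Z' Z : Scheme.{u}} (i : Z' ⟶ Z) (hi : Function.Surjective i.base) (g₁ g₂ : Z ⟶ X)
    (q : Z ⟶ Y) (hq₁ : g₁ ≫ f = q) (hq₂ : g₂ ≫ f = q) (hig : i ≫ g₁ = i ≫ g₂) : g₁ = g₂ := by
  let G₁ : ∀ a, pullback q (g a) ⟶ pullback f (g a) := fun a =>
    pullback.lift (pullback.fst q (g a) ≫ g₁) (pullback.snd q (g a))
      (by rw [Category.assoc, hq₁, pullback.condition])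
  let G₂ : ∀ a, pullback q (g a) ⟶ pullback f (g a) := fun a =>
    pullback.lift (pullback.fst q (g a) ≫ g₂) (pullback.snd q (g a))
      (by rw [Category.assoc, hq₂, pullback.condition])
  have hG₁f : ∀ a, G₁ a ≫ pullback.fst f (g a) = pullback.fst q (g a) ≫ g₁ :=
    fun a => pullback.lift_fst _ _ _
  have hG₂f : ∀ a, G₂ a ≫ pullback.fst f (g a) = pullback.fst q (g a) ≫ g₂ :=
    fun a => pullback.lift_fst _ _ _
  have hG₁s : ∀ a, G₁ a ≫ pullback.snd f (g a) = pullback.snd q (g a) :=
    fun a => pullback.lift_snd _ _ _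
  have hG₂s : ∀ a, G₂ a ≫ pullback.snd f (g a) = pullback.snd q (g a) :=
    fun a => pullback.lift_snd _ _ _
  let N : ∀ a, (pullback q (g a)).Opens := fun a => (G₁ a) ⁻¹ᵁ (U a) ⊓ (G₂ a) ⁻¹ᵁ (U a)
  have hN : ∀ a (t : ↥(pullback q (g a))), t ∈ N a ↔
      (G₁ a).base t ∈ U a ∧ (G₂ a).base t ∈ U a := fun a t => Iff.rfl
  let F : ∀ a, ((N a : (pullback q (g a)).Opens) : Scheme.{u}) ⟶ Z :=
    fun a => (N a).ι ≫ pullback.fst q (g a)
  have claim1 : ∀ a, F a ≫ g₁ = F a ≫ g₂ := by
    intro a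
    haveI := hU a
    have hmem : ∀ t : ↥((N a : (pullback q (g a)).Opens) : Scheme.{u}), (N a).ι.base t ∈ N a := by
      intro t
      have := Set.mem_range_self (f := (N a).ι) t
      rwa [Scheme.Opens.range_ι] at this
    have hr₁ : Set.range ((N a).ι ≫ G₁ a) ⊆ Set.range (U a).ι := by
      rw [Scheme.Opens.range_ι]
      rintro _ ⟨t, rfl⟩
      exact ((hN a _).mp (hmem t)).1
    have hr₂ : Set.range ((N a).ι ≫ G₂ a) ⊆ Set.range (U a).ι := by
      rw [Scheme.Opens.range_ι]
      rintro _ ⟨t, rfl⟩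
      exact ((hN a _).mp (hmem t)).2
    have e₁ : IsOpenImmersion.lift (U a).ι ((N a).ι ≫ G₁ a) hr₁ ≫ (U a).ι = (N a).ι ≫ G₁ a :=
      IsOpenImmersion.lift_fac _ _ _
    have e₂ : IsOpenImmersion.lift (U a).ι ((N a).ι ≫ G₂ a) hr₂ ≫ (U a).ι = (N a).ι ≫ G₂ a :=
      IsOpenImmersion.lift_fac _ _ _
    have e : IsOpenImmersion.lift (U a).ι ((N a).ι ≫ G₁ a) hr₁ =
        IsOpenImmersion.lift (U a).ι ((N a).ι ≫ G₂ a) hr₂ := by
      rw [← cancel_mono ((U a).ι ≫ pullback.snd f (g a))]
      rw [← Category.assoc, ← Category.assoc, e₁, e₂, Category.assoc, Category.assoc, hG₁s, hG₂s]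
    have e' : (N a).ι ≫ G₁ a = (N a).ι ≫ G₂ a := by rw [← e₁, ← e₂, e]
    have e'' := congrArg (· ≫ pullback.fst f (g a)) e'
    simp only [Category.assoc, hG₁f, hG₂f] at e''
    simpa only [F, Category.assoc] using e''
  have claim2 : ∀ z : Z, ∃ a, ∃ t : ↥(pullback q (g a)), t ∈ N a ∧
      (pullback.fst q (g a)).base t = z := by
    intro z
    obtain ⟨z', rfl⟩ := hi z
    obtain ⟨a, w, hwU, hwx⟩ := hcov (g₁.base (i.base z'))
    let i' : pullback (i ≫ q) (g a) ⟶ pullback q (g a) :=
      pullback.lift (pullback.fst (i ≫ q) (g a) ≫ i) (pullback.snd (i ≫ q) (g a))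
        (by rw [Category.assoc, pullback.condition])
    have hi'f : i' ≫ pullback.fst q (g a) = pullback.fst (i ≫ q) (g a) ≫ i :=
      pullback.lift_fst _ _ _
    have hi's : i' ≫ pullback.snd q (g a) = pullback.snd (i ≫ q) (g a) :=
      pullback.lift_snd _ _ _
    have hi'₁₂ : i' ≫ G₁ a = i' ≫ G₂ a := by
      apply pullback.hom_ext
      · rw [Category.assoc, Category.assoc, hG₁f, hG₂f, ← Category.assoc, ← Category.assoc, hi'f,
          Category.assoc, Category.assoc, hig]
      · rw [Category.assoc, Category.assoc, hG₁s, hG₂s]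
    have hpb : IsPullback (i' ≫ G₁ a) (pullback.fst (i ≫ q) (g a)) (pullback.fst f (g a))
        (i ≫ g₁) := by
      refine IsPullback.of_right ?_ ?_ (IsPullback.of_hasPullback f (g a)).flip
      · have e1 : (i' ≫ G₁ a) ≫ pullback.snd f (g a) = pullback.snd (i ≫ q) (g a) := by
          rw [Category.assoc, hG₁s, hi's]
        have e2 : (i ≫ g₁) ≫ f = i ≫ q := by rw [Category.assoc, hq₁]
        rw [e1, e2]
        exact (IsPullback.of_hasPullback (i ≫ q) (g a)).flip
      · rw [Category.assoc, hG₁f, ← Category.assoc, hi'f, Category.assoc]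
    obtain ⟨t', ht'₁, ht'₂⟩ := Scheme.exists_preimage_of_isPullback hpb w z' hwx
    refine ⟨a, i'.base t', (hN a _).mpr ⟨?_, ?_⟩, ?_⟩
    · have h : (G₁ a).base (i'.base t') = w := ht'₁
      rw [h]; exact hwU
    · have h : (G₂ a).base (i'.base t') = w := by
        have h' : (i' ≫ G₂ a).base t' = w := by rw [← hi'₁₂]; exact ht'₁
        exact h'
      rw [h]; exact hwU
    · have h : (i' ≫ pullback.fst q (g a)).base t' = i.base z' := by
        rw [hi'f]
        show i.base ((pullback.fst (i ≫ q) (g a)).base t') = i.base z'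
        rw [ht'₂]
      exact h
  haveI : ∀ a, Flat (F a) := fun a => by
    haveI := hg a
    dsimp only [F]; infer_instance
  haveI : Flat (Sigma.desc F) := inferInstance
  haveI : Surjective (Sigma.desc F) := ⟨fun z => by
    obtain ⟨a, t, htN, htz⟩ := claim2 z
    have ht : t ∈ Set.range (N a).ι := by rw [Scheme.Opens.range_ι]; exact htN
    obtain ⟨t₀, ht₀⟩ := ht
    refine ⟨(Sigma.ι (fun a => ((N a : (pullback q (g a)).Opens) : Scheme.{u})) a).base t₀, ?_⟩
    have h1 : Sigma.ι (fun a => ((N a : (pullback q (g a)).Opens) : Scheme.{u})) a ≫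
        Sigma.desc F = F a := Sigma.ι_desc _ _
    have h2 : (Sigma.ι (fun a => ((N a : (pullback q (g a)).Opens) : Scheme.{u})) a ≫
        Sigma.desc F).base t₀ = z := by
      rw [h1]
      show (pullback.fst q (g a)).base ((N a).ι.base t₀) = z
      have ht₀' : (N a).ι.base t₀ = t := ht₀
      rw [ht₀']; exact htz
    exact h2⟩
  haveI : Epi (Sigma.desc F) := Flat.epi_of_flat_of_surjective (Sigma.desc F)
  rw [← cancel_epi (Sigma.desc F)]
  refine Sigma.hom_ext _ _ (fun a => ?_)
  rw [Sigma.ι_desc_assoc, Sigma.ι_desc_assoc]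
  exact claim1 a

/-- Lemma A: formal unramifiedness can be checked flat-locally (with monomorphic charts). -/
theorem formallyUnramified_of_family {X Y : Scheme.{u}} (f : X ⟶ Y) {ι : Type u}
    {Y' : ι → Scheme.{u}}
    (g : ∀ a, Y' a ⟶ Y) (U : ∀ a, (pullback f (g a)).Opens) (hg : ∀ a, Flat (g a))
    (hcov : ∀ x : X, ∃ a, x ∈ (pullback.fst f (g a)).base '' (U a : Set ↥(pullback f (g a))))
    (hU : ∀ a, Mono ((U a).ι ≫ pullback.snd f (g a))) : FormallyUnramified f := by
  refine FormallyUnramified.of_hom_ext f (fun R S φ hφ hker g₁ g₂ hig hgf => ?_)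
  have hsurj : Function.Surjective (Spec.map φ).base := by
    intro z
    have hz : z ∈ Set.range (PrimeSpectrum.comap φ.hom) := by
      rw [range_comap_of_surjective _ _ hφ]
      intro r hr
      have h2 : r ^ 2 ∈ (RingHom.ker φ.hom) ^ 2 := Ideal.pow_mem_pow hr 2
      rw [hker] at h2
      have h0 : r ^ 2 = 0 := by simpa using h2
      exact z.isPrime.mem_of_pow_mem 2 (h0 ▸ z.asIdeal.zero_mem)
    obtain ⟨z', hz'⟩ := hz
    exact ⟨z', hz'⟩
  exact hom_ext_of_family f g U hg hcov hU (Spec.map φ) hsurj g₁ g₂ (g₁ ≫ f) rfl hgf.symm hig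

/-- Local structure: an unramified morphism locally of finite type is, near every point,
a closed subscheme of an étale scheme over the base. -/
theorem exists_etale_closedImmersion {X Y : Scheme.{u}} (f : X ⟶ Y) [LocallyOfFiniteType f]
    [FormallyUnramified f] (x : X) :
    ∃ (Y' : Scheme.{u}) (g : Y' ⟶ Y) (U : (pullback f g).Opens), Etale g ∧
      x ∈ (pullback.fst f g).base '' (U : Set ↥(pullback f g)) ∧
      IsClosedImmersion (U.ι ≫ pullback.snd f g) := by
  obtain ⟨_, ⟨V, hV, rfl⟩, hxV, -⟩ :=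
    Y.isBasis_affineOpens.exists_subset_of_mem_open (Set.mem_univ (f.base x)) isOpen_univ
  obtain ⟨_, ⟨W, hW, rfl⟩, hxW, hWV : W ≤ f ⁻¹ᵁ V⟩ :=
    X.isBasis_affineOpens.exists_subset_of_mem_open hxV (f ⁻¹ᵁ V).isOpen
  have hft : (f.appLE V W hWV).hom.FiniteType := f.finiteType_appLE hV hW hWV
  have hun : (f.appLE V W hWV).hom.FormallyUnramified := f.formallyUnramified_appLE hV hW hWV
  letI := (f.appLE V W hWV).hom.toAlgebra
  haveI : Algebra.FiniteType Γ(Y, V) Γ(X, W) := hft
  haveI : Algebra.FormallyUnramified Γ(Y, V) Γ(X, W) := hun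
  let Q := hW.primeIdealOf ⟨x, hxW⟩
  haveI : Algebra.IsUnramifiedAt Γ(Y, V) Q.asIdeal := by
    haveI : Algebra.FormallyUnramified Γ(X, W) (Localization.AtPrime Q.asIdeal) :=
      Algebra.FormallyUnramified.of_isLocalization Q.asIdeal.primeCompl
    exact Algebra.FormallyUnramified.comp Γ(Y, V) Γ(X, W) _
  obtain ⟨h, hhQ, P, φ', hφ'⟩ :=
    Algebra.IsUnramifiedAt.exists_hasStandardEtaleSurjectionOn (R := Γ(Y, V)) Q.asIdeal
  let gA : Spec (CommRingCat.of P.Ring) ⟶ Y :=
    Spec.map (CommRingCat.ofHom (algebraMap Γ(Y, V) P.Ring)) ≫ hV.fromSpec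
  haveI : Etale gA := by
    haveI : Etale (Spec.map (CommRingCat.ofHom (algebraMap Γ(Y, V) P.Ring))) := by
      rw [HasRingHomProperty.Spec_iff (P := @Etale)]
      exact RingHom.etale_algebraMap.mpr inferInstance
    dsimp only [gA]; infer_instance
  let j : Spec (CommRingCat.of (Localization.Away h)) ⟶ X :=
    Spec.map (CommRingCat.ofHom (algebraMap Γ(X, W) (Localization.Away h))) ≫ hW.fromSpec
  haveI : IsOpenImmersion j := by
    dsimp only [j]; infer_instance
  let c : Spec (CommRingCat.of (Localization.Away h)) ⟶ Spec (CommRingCat.of P.Ring) :=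
    Spec.map (CommRingCat.ofHom φ'.toRingHom)
  haveI : IsClosedImmersion c := IsClosedImmersion.spec_of_surjective _ hφ'
  have hring : CommRingCat.ofHom (algebraMap Γ(Y, V) P.Ring) ≫ CommRingCat.ofHom φ'.toRingHom =
      f.appLE V W hWV ≫ CommRingCat.ofHom (algebraMap Γ(X, W) (Localization.Away h)) := by
    ext r
    show φ' (algebraMap Γ(Y, V) P.Ring r) =
      algebraMap Γ(X, W) (Localization.Away h) ((f.appLE V W hWV).hom r)
    rw [φ'.commutes]
    exact IsScalarTower.algebraMap_apply Γ(Y, V) Γ(X, W) (Localization.Away h) r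
  have hcomm : j ≫ f = c ≫ gA := by
    show (Spec.map _ ≫ hW.fromSpec) ≫ f = Spec.map _ ≫ (Spec.map _ ≫ hV.fromSpec)
    rw [Category.assoc, ← hV.SpecMap_appLE_fromSpec f hW hWV, ← Spec.map_comp_assoc,
      ← Spec.map_comp_assoc, hring]
  let Γg : Spec (CommRingCat.of (Localization.Away h)) ⟶ pullback f gA := pullback.lift j c hcomm
  have hΓ₁ : Γg ≫ pullback.fst f gA = j := pullback.lift_fst _ _ _
  have hΓ₂ : Γg ≫ pullback.snd f gA = c := pullback.lift_snd _ _ _
  haveI : Mono Γg := mono_of_mono_fac hΓ₁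
  haveI : Etale Γg := by
    haveI : Etale (Γg ≫ pullback.fst f gA) := by rw [hΓ₁]; infer_instance
    exact Etale.of_comp (f := Γg) (g := pullback.fst f gA)
  haveI : Flat Γg := (Etale.iff_flat_and_formallyUnramified.mp inferInstance).1
  haveI : LocallyOfFinitePresentation Γg :=
    (Etale.iff_flat_and_formallyUnramified.mp inferInstance).2.2
  haveI : IsOpenImmersion Γg := IsOpenImmersion.of_flat_of_mono Γg
  refine ⟨Spec (CommRingCat.of P.Ring), gA, Γg.opensRange, inferInstance, ?_, ?_⟩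
  · have hQ : Q ∈ (PrimeSpectrum.basicOpen h : Set (PrimeSpectrum Γ(X, W))) := hhQ
    rw [← PrimeSpectrum.localization_away_comap_range (Localization.Away h) h] at hQ
    obtain ⟨p, hp⟩ := hQ
    refine ⟨Γg.base p, ⟨p, rfl⟩, ?_⟩
    have h1 : (Γg ≫ pullback.fst f gA).base p = x := by
      rw [hΓ₁]
      show hW.fromSpec.base
        ((Spec.map (CommRingCat.ofHom (algebraMap Γ(X, W) (Localization.Away h)))).base p) = x
      have h2 : (Spec.map (CommRingCat.ofHom
          (algebraMap Γ(X, W) (Localization.Away h)))).base p = Q := hp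
      rw [h2]; exact hW.fromSpec_primeIdealOf ⟨x, hxW⟩
    exact h1
  · have h1 : Γg.opensRange.ι ≫ pullback.snd f gA = Γg.isoOpensRange.inv ≫ c := by
      rw [← hΓ₂, ← Category.assoc, Scheme.Hom.isoOpensRange_inv_comp]
    rw [h1]; infer_instance

end Groth.Agent.H68.FlatLoc
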