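import Mathlib
import Groth.Prelude.Def_FEt
import Groth.Prelude.Def_CAlg

/-!
# Depth at least two implies the punctured spectrum is connected

Elementary (no sheaves, no Noetherian hypothesis): if `a, b` lie in the maximal ideal of a local ring
`R`, `a` is a non-zero-divisor and `b` is a non-zero-divisor modulo `a`, then the punctured spectrum
of `R` is connected (`connectedSpace_puncturedSpec`).  Also: `2 ≤ LocCoh.depth A A` gives a weakly
regular sequence of length `≥ 2` in the maximal ideal (`exists_weaklyRegular_of_depth`), and such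
sequences are transported along flat local homomorphisms (`map_weaklyRegular`).
-/

set_option autoImplicit false
universe u

open IsLocalRing

namespace Groth.Agent.H68.DepthConn

section Alg

variable {R : Type u} [CommRing R]

theorem pow_nzd {a : R} (ha : ∀ z, a * z = 0 → z = 0) (i : ℕ) : ∀ z, a ^ i * z = 0 → z = 0 := by
  induction i with
  | zero => intro z hz; simpa using hz
  | succ i ih =>
    intro z hz
    apply ih
    apply ha
    rw [← mul_assoc, ← pow_succ']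
    exact hz

theorem dvd_of_pow_dvd_mul {a b : R} (ha : ∀ z, a * z = 0 → z = 0)
    (hb : ∀ z, a ∣ b * z → a ∣ z) (i : ℕ) : ∀ z, a ^ i ∣ b * z → a ^ i ∣ z := by
  induction i with
  | zero => intro z _; simp
  | succ i ih =>
    intro z hz
    have h1 : a ∣ b * z := dvd_trans (dvd_pow_self a (Nat.succ_ne_zero i)) hz
    obtain ⟨z', rfl⟩ := hb z h1
    obtain ⟨c, hc⟩ := hz
    have h2 : a * (b * z' - a ^ i * c) = 0 := by
      have : a * (b * z' - a ^ i * c) = b * (a * z') - a ^ (i + 1) * c := by ring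
      rw [this, hc, sub_self]
    have h3 : b * z' = a ^ i * c := sub_eq_zero.mp (ha _ h2)
    obtain ⟨d, rfl⟩ := ih z' ⟨c, h3⟩
    exact ⟨d, by ring⟩

theorem dvd_of_pow_dvd_pow_mul {a b : R} (ha : ∀ z, a * z = 0 → z = 0)
    (hb : ∀ z, a ∣ b * z → a ∣ z) (i j : ℕ) : ∀ z, a ^ i ∣ b ^ j * z → a ^ i ∣ z := by
  induction j with
  | zero => intro z hz; simpa using hz
  | succ j ih =>
    intro z hz
    apply ih
    apply dvd_of_pow_dvd_mul ha hb i
    rw [← mul_assoc, ← pow_succ']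
    exact hz

theorem mem_of_notMem_of_mem_vanishingIdeal_compl {U : Set (PrimeSpectrum R)} {g : R}
    (hg : g ∈ PrimeSpectrum.vanishingIdeal Uᶜ) (p : PrimeSpectrum R) (hp : g ∉ p.asIdeal) :
    p ∈ U := by
  by_contra hpU
  exact hp ((PrimeSpectrum.mem_vanishingIdeal _ _).mp hg p hpU)

theorem exists_mem_vanishingIdeal_compl {U : Set (PrimeSpectrum R)} (hU : IsOpen U)
    {p₀ : PrimeSpectrum R} (hp₀ : p₀ ∈ U) :
    ∃ g ∈ PrimeSpectrum.vanishingIdeal Uᶜ, g ∉ p₀.asIdeal := by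
  have hz : PrimeSpectrum.zeroLocus (PrimeSpectrum.vanishingIdeal Uᶜ : Set R) = Uᶜ := by
    rw [PrimeSpectrum.zeroLocus_vanishingIdeal_eq_closure, hU.isClosed_compl.closure_eq]
  have h1 : p₀ ∉ PrimeSpectrum.zeroLocus (PrimeSpectrum.vanishingIdeal Uᶜ : Set R) := by
    rw [hz]
    exact fun h => h hp₀
  rw [PrimeSpectrum.mem_zeroLocus, Set.not_subset] at h1
  obtain ⟨g, hgI, hgp⟩ := h1
  exact ⟨g, hgI, hgp⟩

theorem empty_of_disjoint_basic {a : R} (ha : ∀ z, a * z = 0 → z = 0)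
    {U : Set (PrimeSpectrum R)} (hU : IsOpen U)
    (h : ∀ P : PrimeSpectrum R, a ∉ P.asIdeal → P ∈ U → False) : U = ∅ := by
  rw [Set.eq_empty_iff_forall_notMem]
  intro p₀ hp₀
  obtain ⟨g, hgI, hgp⟩ := exists_mem_vanishingIdeal_compl hU hp₀
  have hnil : IsNilpotent (g * a) := by
    rw [← mem_nilradical, nilradical_eq_sInf, Ideal.mem_sInf]
    intro J hJ
    by_contra hga
    have hg' : g ∉ J := fun h' => hga (J.mul_mem_right _ h')
    have ha' : a ∉ J := fun h' => hga (J.mul_mem_left _ h')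
    exact h ⟨J, hJ⟩ ha' (mem_of_notMem_of_mem_vanishingIdeal_compl hgI ⟨J, hJ⟩ hg')
  obtain ⟨M, hM⟩ := hnil
  rw [mul_pow, mul_comm] at hM
  have hgM : g ^ M = 0 := pow_nzd ha M _ hM
  apply hgp
  exact p₀.isPrime.mem_of_pow_mem M (by rw [hgM]; exact zero_mem _)

end Alg

section Local

variable {R : Type u} [CommRing R] [IsLocalRing R]

theorem exists_pow_eq_add (U₁ U₂ : Set (PrimeSpectrum R)) (hU₁ : IsOpen U₁) (hU₂ : IsOpen U₂)
    (hcov : ∀ p : PrimeSpectrum R, p ≠ closedPoint R → p ∈ U₁ ∪ U₂) (c : R)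
    (hc : c ∈ maximalIdeal R) :
    ∃ (n : ℕ) (u₁ u₂ : R), c ^ n = u₁ + u₂ ∧
      (∀ p : PrimeSpectrum R, u₁ ∉ p.asIdeal → p ∈ U₁) ∧
      (∀ p : PrimeSpectrum R, u₂ ∉ p.asIdeal → p ∈ U₂) := by
  have hrad : c ∈ (PrimeSpectrum.vanishingIdeal U₁ᶜ ⊔ PrimeSpectrum.vanishingIdeal U₂ᶜ).radical := by
    rw [← PrimeSpectrum.vanishingIdeal_zeroLocus_eq_radical, PrimeSpectrum.mem_vanishingIdeal]
    intro p hp
    rw [PrimeSpectrum.mem_zeroLocus] at hp
    have hp1 : PrimeSpectrum.vanishingIdeal U₁ᶜ ≤ p.asIdeal :=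
      fun x hx => hp (Ideal.mem_sup_left hx)
    have hp2 : PrimeSpectrum.vanishingIdeal U₂ᶜ ≤ p.asIdeal :=
      fun x hx => hp (Ideal.mem_sup_right hx)
    have h1 : p ∉ U₁ := by
      intro h
      obtain ⟨g, hg, hgp⟩ := exists_mem_vanishingIdeal_compl hU₁ h
      exact hgp (hp1 hg)
    have h2 : p ∉ U₂ := by
      intro h
      obtain ⟨g, hg, hgp⟩ := exists_mem_vanishingIdeal_compl hU₂ h
      exact hgp (hp2 hg)
    have h3 : p = closedPoint R := by
      by_contra hne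
      rcases hcov p hne with h | h
      · exact h1 h
      · exact h2 h
    rw [h3]
    exact hc
  obtain ⟨n, hn⟩ := hrad
  obtain ⟨u₁, hu₁, u₂, hu₂, hsum⟩ := Submodule.mem_sup.mp hn
  exact ⟨n, u₁, u₂, hsum.symm, mem_of_notMem_of_mem_vanishingIdeal_compl hu₁,
    mem_of_notMem_of_mem_vanishingIdeal_compl hu₂⟩

theorem punctured_split (a b : R) (ham : a ∈ maximalIdeal R)
    (hbm : b ∈ maximalIdeal R) (ha : ∀ z, a * z = 0 → z = 0) (hb : ∀ z, a ∣ b * z → a ∣ z)
    (U₁ U₂ : Set (PrimeSpectrum R)) (hU₁ : IsOpen U₁) (hU₂ : IsOpen U₂) (hdisj : U₁ ∩ U₂ = ∅)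
    (hcov : ∀ p : PrimeSpectrum R, p ≠ closedPoint R → p ∈ U₁ ∪ U₂) : U₁ = ∅ ∨ U₂ = ∅ := by
  obtain ⟨n, u₁, u₂, hau, hu₁, hu₂⟩ := exists_pow_eq_add U₁ U₂ hU₁ hU₂ hcov a ham
  obtain ⟨k, v₁, v₂, hbv, hv₁, hv₂⟩ := exists_pow_eq_add U₁ U₂ hU₁ hU₂ hcov b hbm
  have hnil : ∀ x y : R, (∀ p : PrimeSpectrum R, x ∉ p.asIdeal → p ∈ U₁) →
      (∀ p : PrimeSpectrum R, y ∉ p.asIdeal → p ∈ U₂) → IsNilpotent (x * y) := by
    intro x y hx hy
    rw [← mem_nilradical, nilradical_eq_sInf, Ideal.mem_sInf]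
    intro J hJ
    by_contra hxy
    have hx' : x ∉ J := fun h => hxy (J.mul_mem_right _ h)
    have hy' : y ∉ J := fun h => hxy (J.mul_mem_left _ h)
    have : (⟨J, hJ⟩ : PrimeSpectrum R) ∈ U₁ ∩ U₂ := ⟨hx _ hx', hy _ hy'⟩
    rw [hdisj] at this
    exact this
  obtain ⟨N₁, hN₁⟩ := hnil u₁ u₂ hu₁ hu₂
  obtain ⟨N₂, hN₂⟩ := hnil u₁ v₂ hu₁ hv₂
  obtain ⟨N₃, hN₃⟩ := hnil v₁ u₂ hv₁ hu₂
  obtain ⟨N, hN⟩ : ∃ N : ℕ, N = N₁ + N₂ + N₃ + 1 := ⟨_, rfl⟩
  have hNpos : N ≠ 0 := by omega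
  have h12 : (u₁ * u₂) ^ N = 0 := pow_eq_zero_of_le (by omega) hN₁
  have h1v : (u₁ * v₂) ^ N = 0 := pow_eq_zero_of_le (by omega) hN₂
  have hv2 : (v₁ * u₂) ^ N = 0 := pow_eq_zero_of_le (by omega) hN₃
  have hexp : ∀ x y : R, ∃ p q : R, (x + y) ^ (2 * N) = p * x ^ N + q * y ^ N := by
    intro x y
    have hmem : (x + y) ^ (2 * N) ∈ Ideal.span {x ^ N, y ^ N} := by
      apply Ideal.add_pow_mem_of_pow_mem_of_le (m := N) (n := N)
      · exact Ideal.subset_span (by simp)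
      · exact Ideal.subset_span (by simp)
      · omega
    obtain ⟨p, q, hpq⟩ := Ideal.mem_span_pair.mp hmem
    exact ⟨p, q, hpq.symm⟩
  obtain ⟨p, q, hpq⟩ := hexp u₁ u₂
  obtain ⟨r, s, hrs⟩ := hexp v₁ v₂
  have ha' : a ^ (n * (2 * N)) = p * u₁ ^ N + q * u₂ ^ N := by rw [pow_mul, hau, hpq]
  have hb' : b ^ (k * (2 * N)) = r * v₁ ^ N + s * v₂ ^ N := by rw [pow_mul, hbv, hrs]
  have hz1 : (p * u₁ ^ N) * (q * u₂ ^ N) = 0 := by
    have : (p * u₁ ^ N) * (q * u₂ ^ N) = p * q * (u₁ * u₂) ^ N := by ring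
    rw [this, h12, mul_zero]
  have hz2 : (p * u₁ ^ N) * (s * v₂ ^ N) = 0 := by
    have : (p * u₁ ^ N) * (s * v₂ ^ N) = p * s * (u₁ * v₂) ^ N := by ring
    rw [this, h1v, mul_zero]
  have hz3 : (r * v₁ ^ N) * (q * u₂ ^ N) = 0 := by
    have : (r * v₁ ^ N) * (q * u₂ ^ N) = r * q * (v₁ * u₂) ^ N := by ring
    rw [this, hv2, mul_zero]
  have hkey : b ^ (k * (2 * N)) * (p * u₁ ^ N) = a ^ (n * (2 * N)) * (r * v₁ ^ N) := by
    rw [ha', hb']
    have e1 : (r * v₁ ^ N + s * v₂ ^ N) * (p * u₁ ^ N) =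
        r * v₁ ^ N * (p * u₁ ^ N) + (p * u₁ ^ N) * (s * v₂ ^ N) := by ring
    have e2 : (p * u₁ ^ N + q * u₂ ^ N) * (r * v₁ ^ N) =
        r * v₁ ^ N * (p * u₁ ^ N) + (r * v₁ ^ N) * (q * u₂ ^ N) := by ring
    rw [e1, e2, hz2, hz3]
  have hdvd : a ^ (n * (2 * N)) ∣ p * u₁ ^ N :=
    dvd_of_pow_dvd_pow_mul ha hb _ (k * (2 * N)) _ ⟨r * v₁ ^ N, hkey⟩
  obtain ⟨c, hc⟩ := hdvd
  have hnzd := pow_nzd ha (n * (2 * N))
  have hq : q * u₂ ^ N = a ^ (n * (2 * N)) * (1 - c) := by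
    have : q * u₂ ^ N = a ^ (n * (2 * N)) - p * u₁ ^ N := by rw [ha']; ring
    rw [this, hc]
    ring
  have hcc : c * (1 - c) = 0 := by
    apply hnzd
    apply hnzd
    have : a ^ (n * (2 * N)) * (a ^ (n * (2 * N)) * (c * (1 - c))) =
        (p * u₁ ^ N) * (q * u₂ ^ N) := by
      rw [hc, hq]
      ring
    rw [this, hz1]
  rcases IsLocalRing.isUnit_or_isUnit_one_sub_self c with hcu | hcu
  · right
    have h1c : 1 - c = 0 := (hcu.mul_right_eq_zero).mp hcc
    have hq0 : q * u₂ ^ N = 0 := by rw [hq, h1c, mul_zero]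
    have hDa : ∀ P : PrimeSpectrum R, a ∉ P.asIdeal → P ∈ U₁ := by
      intro P hP
      apply hu₁
      intro hu
      apply hP
      have hmem : a ^ (n * (2 * N)) ∈ P.asIdeal := by
        rw [ha', hq0, add_zero]
        exact P.asIdeal.mul_mem_left _ (P.asIdeal.pow_mem_of_mem hu N (Nat.pos_of_ne_zero hNpos))
      exact P.isPrime.mem_of_pow_mem _ hmem
    refine empty_of_disjoint_basic ha hU₂ (fun P hP hPU => ?_)
    have : P ∈ U₁ ∩ U₂ := ⟨hDa P hP, hPU⟩
    rw [hdisj] at this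
    exact this
  · left
    have hc0 : c = 0 := (hcu.mul_left_eq_zero).mp hcc
    have hp0 : p * u₁ ^ N = 0 := by rw [hc, hc0, mul_zero]
    have hDa : ∀ P : PrimeSpectrum R, a ∉ P.asIdeal → P ∈ U₂ := by
      intro P hP
      apply hu₂
      intro hu
      apply hP
      have hmem : a ^ (n * (2 * N)) ∈ P.asIdeal := by
        rw [ha', hp0, zero_add]
        exact P.asIdeal.mul_mem_left _ (P.asIdeal.pow_mem_of_mem hu N (Nat.pos_of_ne_zero hNpos))
      exact P.isPrime.mem_of_pow_mem _ hmem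
    refine empty_of_disjoint_basic ha hU₁ (fun P hP hPU => ?_)
    have : P ∈ U₁ ∩ U₂ := ⟨hPU, hDa P hP⟩
    rw [hdisj] at this
    exact this

theorem isConnected_punctured (a b : R) (ham : a ∈ maximalIdeal R) (hbm : b ∈ maximalIdeal R)
    (ha : ∀ z, a * z = 0 → z = 0) (hb : ∀ z, a ∣ b * z → a ∣ z) :
    IsConnected ({closedPoint R}ᶜ : Set (PrimeSpectrum R)) := by
  have hs : IsOpen ({closedPoint R}ᶜ : Set (PrimeSpectrum R)) :=
    (isClosed_singleton_closedPoint (R := R)).isOpen_compl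
  refine ⟨?_, ?_⟩
  · by_contra hempty
    rw [Set.not_nonempty_iff_eq_empty] at hempty
    have hnil : IsNilpotent a := by
      rw [← mem_nilradical, nilradical_eq_sInf, Ideal.mem_sInf]
      intro J hJ
      by_contra haJ
      have hmem : (⟨J, hJ⟩ : PrimeSpectrum R) ∈ ({closedPoint R}ᶜ : Set (PrimeSpectrum R)) := by
        intro h
        have h' : (⟨J, hJ⟩ : PrimeSpectrum R) = closedPoint R := h
        apply haJ
        have hJm : J = maximalIdeal R := congrArg PrimeSpectrum.asIdeal h'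
        rw [hJm]
        exact ham
      rw [hempty] at hmem
      exact hmem
    obtain ⟨M, hM⟩ := hnil
    have h10 : (1 : R) = 0 := pow_nzd ha M 1 (by rw [mul_one]; exact hM)
    exact one_ne_zero h10
  · rw [isPreconnected_iff_subset_of_disjoint]
    intro u v hu hv huv hdis
    have hsplit := punctured_split a b ham hbm ha hb ({closedPoint R}ᶜ ∩ u) ({closedPoint R}ᶜ ∩ v)
      (hs.inter hu) (hs.inter hv)
      (by
        rw [← hdis]
        ext p
        simp only [Set.mem_inter_iff]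
        tauto)
      (by
        intro p hp
        have hp' : p ∈ ({closedPoint R}ᶜ : Set (PrimeSpectrum R)) := hp
        rcases huv hp' with h1 | h1
        · exact Or.inl ⟨hp', h1⟩
        · exact Or.inr ⟨hp', h1⟩)
    rcases hsplit with h | h
    · right
      intro p hp
      rcases huv hp with h1 | h1
      · exfalso
        have : p ∈ ({closedPoint R}ᶜ ∩ u : Set (PrimeSpectrum R)) := ⟨hp, h1⟩
        rw [h] at this
        exact this
      · exact h1
    · left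
      intro p hp
      rcases huv hp with h1 | h1
      · exact h1
      · exfalso
        have : p ∈ ({closedPoint R}ᶜ ∩ v : Set (PrimeSpectrum R)) := ⟨hp, h1⟩
        rw [h] at this
        exact this

/-- a regular sequence of length two in the maximal ideal makes the punctured spectrum connected -/
theorem connectedSpace_puncturedSpec (R : Type u) [CommRing R] [IsLocalRing R] (a b : R)
    (ham : a ∈ maximalIdeal R) (hbm : b ∈ maximalIdeal R) (ha : ∀ z, a * z = 0 → z = 0)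
    (hb : ∀ z, a ∣ b * z → a ∣ z) :
    ConnectedSpace ↥(FEt.puncturedSpec R : AlgebraicGeometry.Scheme.{u}) := by
  haveI : ConnectedSpace ↥({closedPoint R}ᶜ : Set (PrimeSpectrum R)) :=
    Subtype.connectedSpace (isConnected_punctured a b ham hbm ha hb)
  exact this

end Local

section Depth

open RingTheory.Sequence

theorem exists_weaklyRegular_of_depth (A : Type u) [CommRing A] [IsLocalRing A]
    (hA : (2 : ℕ∞) ≤ LocCoh.depth A A) :
    ∃ rs : List A, IsWeaklyRegular A rs ∧ (∀ r ∈ rs, r ∈ maximalIdeal A) ∧ 2 ≤ rs.length := by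
  by_contra hcon
  push Not at hcon
  have hne : ¬ (maximalIdeal A • (⊤ : Submodule A A) = ⊤) := by
    intro h
    have hle : maximalIdeal A • (⊤ : Submodule A A) ≤ (maximalIdeal A : Submodule A A) := by
      rw [Submodule.smul_le]
      intro r hr n _
      exact Ideal.mul_mem_right n _ hr
    rw [h] at hle
    exact (maximalIdeal.isMaximal A).ne_top (top_le_iff.mp hle)
  have hle : LocCoh.depth A A ≤ 1 := by
    unfold LocCoh.depth LocCoh.idealDepth
    rw [if_neg hne]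
    refine iSup₂_le fun rs hrs => ?_
    have h2 := hcon rs hrs.1 hrs.2
    have h3 : rs.length ≤ 1 := by omega
    exact_mod_cast h3
  have h21 : (2 : ℕ∞) ≤ 1 := hA.trans hle
  have h21' : ((2 : ℕ) : ℕ∞) ≤ ((1 : ℕ) : ℕ∞) := by exact_mod_cast h21
  exact absurd (Nat.cast_le.mp h21') (by norm_num)

theorem map_weaklyRegular {A R : Type u} [CommRing A] [CommRing R] [IsLocalRing A] [IsLocalRing R]
    [Algebra A R] [Module.Flat A R] [IsLocalHom (algebraMap A R)]
    {rs : List A} (h1 : IsWeaklyRegular A rs) (h2 : ∀ r ∈ rs, r ∈ maximalIdeal A)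
    (h3 : 2 ≤ rs.length) :
    IsWeaklyRegular R (rs.map (algebraMap A R)) ∧
      (∀ r ∈ rs.map (algebraMap A R), r ∈ maximalIdeal R) ∧
      2 ≤ (rs.map (algebraMap A R)).length := by
  refine ⟨h1.of_flat, ?_, by rw [List.length_map]; exact h3⟩
  intro r hr
  obtain ⟨r₀, hr₀, rfl⟩ := List.mem_map.mp hr
  have h := h2 r₀ hr₀
  rw [mem_maximalIdeal, mem_nonunits_iff] at h ⊢
  exact fun hu => h (isUnit_of_map_unit (algebraMap A R) r₀ hu)

theorem connectedSpace_of_weaklyRegular (R : Type u) [CommRing R] [IsLocalRing R] {rs : List R}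
    (h1 : IsWeaklyRegular R rs) (h2 : ∀ r ∈ rs, r ∈ maximalIdeal R) (h3 : 2 ≤ rs.length) :
    ConnectedSpace ↥(FEt.puncturedSpec R : AlgebraicGeometry.Scheme.{u}) := by
  obtain ⟨a, b, rest, rfl⟩ : ∃ a b rest, rs = a :: b :: rest := by
    match rs, h3 with
    | a :: b :: rest, _ => exact ⟨a, b, rest, rfl⟩
    | [_], h => simp at h
    | [], h => simp at h
  rw [isWeaklyRegular_cons_iff] at h1
  obtain ⟨hareg, h1'⟩ := h1
  rw [isWeaklyRegular_cons_iff] at h1'
  obtain ⟨hbreg, -⟩ := h1'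
  refine connectedSpace_puncturedSpec R a b (h2 a (by simp)) (h2 b (by simp)) ?_ ?_
  · intro z hz
    exact hareg (show a • z = a • (0 : R) by rw [smul_zero, smul_eq_mul, hz])
  · intro z hz
    have h0 : (Submodule.Quotient.mk (b * z) : QuotSMulTop a R) = 0 := by
      rw [Submodule.Quotient.mk_eq_zero]
      obtain ⟨c, hc⟩ := hz
      exact (Submodule.mem_smul_pointwise_iff_exists _ _ _).mpr ⟨c, trivial, by rw [smul_eq_mul, hc]⟩
    have h1 : b • (Submodule.Quotient.mk z : QuotSMulTop a R) = b • (0 : QuotSMulTop a R) := by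
      rw [smul_zero, ← Submodule.Quotient.mk_smul, smul_eq_mul]
      exact h0
    have h2' := hbreg h1
    rw [Submodule.Quotient.mk_eq_zero] at h2'
    obtain ⟨c, -, hc⟩ := (Submodule.mem_smul_pointwise_iff_exists _ _ _).mp h2'
    exact ⟨c, by rw [← hc, smul_eq_mul]⟩

/-- depth at least two, transported along a flat local homomorphism, makes the punctured spectrum of
the target connected -/
theorem connectedSpace_of_depth_of_flat (A R : Type u) [CommRing A] [CommRing R] [IsLocalRing A]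
    [IsLocalRing R] [Algebra A R] [Module.Flat A R] [IsLocalHom (algebraMap A R)]
    (hA : (2 : ℕ∞) ≤ LocCoh.depth A A) :
    ConnectedSpace ↥(FEt.puncturedSpec R : AlgebraicGeometry.Scheme.{u}) := by
  obtain ⟨rs, h1, h2, h3⟩ := exists_weaklyRegular_of_depth A hA
  obtain ⟨h1', h2', h3'⟩ := map_weaklyRegular (R := R) h1 h2 h3
  exact connectedSpace_of_weaklyRegular R h1' h2' h3'

end Depth

end Groth.Agent.H68.DepthConn
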