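import Mathlib
import Groth.Agent.H68.DepthConn

/-!
# Algebraic Hartogs lemma on affine schemes

`bijective_res`: on an affine scheme `Y`, if `a, b ∈ Γ(Y, ⊤)` with `a` a non-zero-divisor and `b` a
non-zero-divisor modulo `a`, then for every open `T ⊇ D(a) ∪ D(b)` the restriction
`Γ(Y, ⊤) → Γ(Y, T)` is bijective.  `bijective_appTop`: the same for an open immersion with range `T`.
-/

set_option autoImplicit false
universe u

open AlgebraicGeometry CategoryTheory TopologicalSpace Opposite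

namespace Groth.Agent.H68.Hartogs

open Groth.Agent.H68.DepthConn

variable {Y : Scheme.{u}}

/-- restriction of sections -/
noncomputable abbrev res (W' W : Y.Opens) (h : W ≤ W') : Γ(Y, W') →+* Γ(Y, W) :=
  (Y.presheaf.map (homOfLE h).op).hom

theorem res_res {W₁ W₂ W₃ : Y.Opens} (h₁ : W₁ ≤ W₂) (h₂ : W₂ ≤ W₃) (s : Γ(Y, W₃)) :
    res W₂ W₁ h₁ (res W₃ W₂ h₂ s) = res W₃ W₁ (h₁.trans h₂) s := by
  change (Y.presheaf.map (homOfLE h₂).op ≫ Y.presheaf.map (homOfLE h₁).op).hom s = _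
  rw [← Functor.map_comp]
  rfl

theorem res_eq_zero_imp [IsAffine Y] (f z : Γ(Y, ⊤))
    (h : res ⊤ (Y.basicOpen f) le_top z = 0) : ∃ N : ℕ, f ^ N * z = 0 := by
  have h' : algebraMap Γ(Y, ⊤) Γ(Y, Y.basicOpen f) z = 0 := h
  obtain ⟨⟨_, N, rfl⟩, hN⟩ :=
    (IsLocalization.map_eq_zero_iff (Submonoid.powers f) Γ(Y, Y.basicOpen f) z).mp h'
  exact ⟨N, hN⟩

theorem isUnit_res [IsAffine Y] (f : Γ(Y, ⊤)) : IsUnit (res ⊤ (Y.basicOpen f) le_top f) :=
  IsLocalization.Away.algebraMap_isUnit (S := Γ(Y, Y.basicOpen f)) f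

theorem exists_res_eq [IsAffine Y] (f : Γ(Y, ⊤)) (t : Γ(Y, Y.basicOpen f)) :
    ∃ (n : ℕ) (x : Γ(Y, ⊤)),
      t * (res ⊤ (Y.basicOpen f) le_top f) ^ n = res ⊤ (Y.basicOpen f) le_top x :=
  IsLocalization.Away.surj f t

theorem eq_zero_of_res_basicOpen_eq_zero [IsAffine Y] (a : Γ(Y, ⊤))
    (ha : ∀ z, a * z = 0 → z = 0) (T : Y.Opens) (haT : Y.basicOpen a ≤ T)
    (u : Γ(Y, T)) (hu : res T (Y.basicOpen a) haT u = 0) : u = 0 := by
  refine TopCat.Sheaf.eq_of_locally_eq' Y.sheaf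
    (fun i : {f : Γ(Y, ⊤) // Y.basicOpen f ≤ T} => Y.basicOpen i.1) T
    (fun i => homOfLE i.2) ?_ u 0 ?_
  · intro y hy
    obtain ⟨f, hfT, hyf⟩ := (isAffineOpen_top Y).exists_basicOpen_le ⟨y, hy⟩ trivial
    exact Opens.mem_iSup.mpr ⟨⟨f, hfT⟩, hyf⟩
  · rintro ⟨f, hf⟩
    rw [map_zero]
    change res T (Y.basicOpen f) hf u = 0
    obtain ⟨n, y, hy⟩ := exists_res_eq f (res T (Y.basicOpen f) hf u)
    have hW1 : Y.basicOpen (a * f) ≤ Y.basicOpen a := by
      rw [Scheme.basicOpen_mul]; exact inf_le_left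
    have hW2 : Y.basicOpen (a * f) ≤ Y.basicOpen f := by
      rw [Scheme.basicOpen_mul]; exact inf_le_right
    have h0 : res T (Y.basicOpen (a * f)) (hW1.trans haT) u = 0 := by
      rw [← res_res hW1 haT, hu, map_zero]
    have h1 : res ⊤ (Y.basicOpen (a * f)) le_top y = 0 := by
      have := congrArg (res (Y.basicOpen f) (Y.basicOpen (a * f)) hW2) hy
      rw [map_mul, map_pow, res_res, res_res, res_res] at this
      rw [← this]
      have h0' : res T (Y.basicOpen (a * f)) (hW2.trans hf) u = 0 := h0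
      rw [h0', zero_mul]
    obtain ⟨N, hN⟩ := res_eq_zero_imp (a * f) y h1
    have h2 : f ^ N * y = 0 := by
      apply pow_nzd ha N
      rw [← mul_assoc, ← mul_pow]
      exact hN
    have h3 : res ⊤ (Y.basicOpen f) le_top y = 0 := by
      have := congrArg (res ⊤ (Y.basicOpen f) le_top) h2
      rw [map_mul, map_pow, map_zero] at this
      exact ((isUnit_res f).pow N).mul_right_eq_zero.mp this
    rw [h3] at hy
    exact ((isUnit_res f).pow n).mul_left_eq_zero.mp hy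

theorem exists_extension [IsAffine Y] (a b : Γ(Y, ⊤)) (ha : ∀ z, a * z = 0 → z = 0)
    (hb : ∀ z, a ∣ b * z → a ∣ z) (T : Y.Opens) (haT : Y.basicOpen a ≤ T)
    (hbT : Y.basicOpen b ≤ T) (t : Γ(Y, T)) :
    ∃ x : Γ(Y, ⊤), res T (Y.basicOpen a) haT t = res ⊤ (Y.basicOpen a) le_top x := by
  obtain ⟨n, x₀, hx₀⟩ := exists_res_eq a (res T (Y.basicOpen a) haT t)
  obtain ⟨k, y, hy⟩ := exists_res_eq b (res T (Y.basicOpen b) hbT t)
  have hW1 : Y.basicOpen (a * b) ≤ Y.basicOpen a := by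
    rw [Scheme.basicOpen_mul]; exact inf_le_left
  have hW2 : Y.basicOpen (a * b) ≤ Y.basicOpen b := by
    rw [Scheme.basicOpen_mul]; exact inf_le_right
  have e1 := congrArg (res (Y.basicOpen a) (Y.basicOpen (a * b)) hW1) hx₀
  have e2 := congrArg (res (Y.basicOpen b) (Y.basicOpen (a * b)) hW2) hy
  rw [map_mul, map_pow, res_res, res_res, res_res] at e1 e2
  have e2' : res T (Y.basicOpen (a * b)) (hW1.trans haT) t *
      res ⊤ (Y.basicOpen (a * b)) le_top b ^ k = res ⊤ (Y.basicOpen (a * b)) le_top y := e2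
  have e1' : res T (Y.basicOpen (a * b)) (hW1.trans haT) t *
      res ⊤ (Y.basicOpen (a * b)) le_top a ^ n = res ⊤ (Y.basicOpen (a * b)) le_top x₀ := e1
  have e3 : res ⊤ (Y.basicOpen (a * b)) le_top (b ^ k * x₀ - a ^ n * y) = 0 := by
    rw [map_sub, map_mul, map_mul, map_pow, map_pow, ← e1', ← e2']
    ring
  obtain ⟨N, hN⟩ := res_eq_zero_imp (a * b) _ e3
  have e4 : b ^ N * (b ^ k * x₀ - a ^ n * y) = 0 := by
    apply pow_nzd ha N
    rw [← mul_assoc, ← mul_pow]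
    exact hN
  have e5 : a ^ n ∣ b ^ (N + k) * x₀ := ⟨b ^ N * y, by linear_combination e4⟩
  obtain ⟨x, rfl⟩ := dvd_of_pow_dvd_pow_mul ha hb n (N + k) x₀ e5
  refine ⟨x, ?_⟩
  rw [map_mul, map_pow, mul_comm] at hx₀
  exact ((isUnit_res a).pow n).mul_left_cancel hx₀

/-- algebraic Hartogs lemma -/
theorem bijective_res [IsAffine Y] (a b : Γ(Y, ⊤)) (ha : ∀ z, a * z = 0 → z = 0)
    (hb : ∀ z, a ∣ b * z → a ∣ z) (T : Y.Opens) (haT : Y.basicOpen a ≤ T)
    (hbT : Y.basicOpen b ≤ T) : Function.Bijective (res ⊤ T le_top) := by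
  constructor
  · rw [injective_iff_map_eq_zero]
    intro z hz
    have h1 : res ⊤ (Y.basicOpen a) le_top z = 0 := by
      rw [← res_res haT le_top, hz, map_zero]
    obtain ⟨N, hN⟩ := res_eq_zero_imp a z h1
    exact pow_nzd ha N z hN
  · intro t
    obtain ⟨x, hx⟩ := exists_extension a b ha hb T haT hbT t
    refine ⟨x, ?_⟩
    have h0 : t - res ⊤ T le_top x = 0 := by
      apply eq_zero_of_res_basicOpen_eq_zero a ha T haT
      rw [map_sub, res_res, hx, sub_self]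
    exact (sub_eq_zero.mp h0).symm

/-- Hartogs for an open immersion into an affine scheme -/
theorem bijective_appTop {P : Scheme.{u}} [IsAffine Y] (j : P ⟶ Y) [IsOpenImmersion j]
    (a b : Γ(Y, ⊤)) (ha : ∀ z, a * z = 0 → z = 0) (hb : ∀ z, a ∣ b * z → a ∣ z)
    (haT : Y.basicOpen a ≤ j.opensRange) (hbT : Y.basicOpen b ≤ j.opensRange) :
    Function.Bijective j.appTop.hom := by
  have haT' : Y.basicOpen a ≤ j ''ᵁ ⊤ := by rw [Scheme.Hom.image_top_eq_opensRange]; exact haT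
  have hbT' : Y.basicOpen b ≤ j ''ᵁ ⊤ := by rw [Scheme.Hom.image_top_eq_opensRange]; exact hbT
  have hres := bijective_res a b ha hb (j ''ᵁ ⊤) haT' hbT'
  have hfac : j.appTop = Y.presheaf.map (homOfLE (le_top : j ''ᵁ ⊤ ≤ ⊤)).op ≫ (j.appIso ⊤).hom := by
    rw [Scheme.Hom.appIso_hom', Scheme.Hom.map_appLE, Scheme.Hom.appTop, Scheme.Hom.app_eq_appLE]
    rfl
  rw [hfac, CommRingCat.hom_comp, RingHom.coe_comp]
  exact (ConcreteCategory.bijective_of_isIso (j.appIso ⊤).hom).comp hres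

open RingTheory.Sequence in
theorem regular_pair_of_weaklyRegular {R : Type u} [CommRing R] {a b : R} {rest : List R}
    (h1 : IsWeaklyRegular R (a :: b :: rest)) :
    (∀ z, a * z = 0 → z = 0) ∧ (∀ z, a ∣ b * z → a ∣ z) := by
  rw [isWeaklyRegular_cons_iff] at h1
  obtain ⟨hareg, h1'⟩ := h1
  rw [isWeaklyRegular_cons_iff] at h1'
  obtain ⟨hbreg, -⟩ := h1'
  refine ⟨?_, ?_⟩
  · intro z hz
    exact hareg (show a • z = a • (0 : R) by rw [smul_zero, smul_eq_mul, hz])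
  · intro z hz
    have h0 : (Submodule.Quotient.mk (b * z) : QuotSMulTop a R) = 0 := by
      rw [Submodule.Quotient.mk_eq_zero]
      obtain ⟨c, hc⟩ := hz
      exact (Submodule.mem_smul_pointwise_iff_exists _ _ _).mpr
        ⟨c, trivial, by rw [smul_eq_mul, hc]⟩
    have h1 : b • (Submodule.Quotient.mk z : QuotSMulTop a R) = b • (0 : QuotSMulTop a R) := by
      rw [smul_zero, ← Submodule.Quotient.mk_smul, smul_eq_mul]
      exact h0
    have h2' := hbreg h1
    rw [Submodule.Quotient.mk_eq_zero] at h2'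
    obtain ⟨c, -, hc⟩ := (Submodule.mem_smul_pointwise_iff_exists _ _ _).mp h2'
    exact ⟨c, by rw [← hc, smul_eq_mul]⟩

end Groth.Agent.H68.Hartogs
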