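import Mathlib
import Groth.Prelude.Def_SGA1

/-!
Helper library on quotients of schemes by finite groups (`SGA1.IsQuot`) (helper68).
-/

set_option autoImplicit false
universe u
open CategoryTheory AlgebraicGeometry
open scoped Pointwise

namespace Groth.Agent.H68.Quot

section General

variable {X Y : Scheme.{u}}

/-- The prime ideal of sections over `U` vanishing at `x ∈ U`. -/
noncomputable def primeAt (U : X.Opens) (x : X) (hx : x ∈ U) : Ideal Γ(X, U) :=
  RingHom.ker (X.evaluation U x hx).hom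

instance primeAt_isPrime (U : X.Opens) (x : X) (hx : x ∈ U) : (primeAt U x hx).IsPrime :=
  RingHom.ker_isPrime _

theorem mem_primeAt_iff {U : X.Opens} {x : X} (hx : x ∈ U) (s : Γ(X, U)) :
    s ∈ primeAt U x hx ↔ x ∉ X.basicOpen s :=
  X.evaluation_eq_zero_iff_notMem_basicOpen x hx s

theorem primeAt_congr {U : X.Opens} {x x' : X} (h : x = x') (hx : x ∈ U) (hx' : x' ∈ U) :
    primeAt U x hx = primeAt U x' hx' := by
  subst h; rfl

theorem comap_primeAt (f : X ⟶ Y) (U : Y.Opens) (V : X.Opens) (e : V ≤ f ⁻¹ᵁ U) (x : X)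
    (hx : x ∈ V) :
    (primeAt V x hx).comap (f.appLE U V e).hom = primeAt U (f.base x) (e hx) := by
  ext s
  rw [Ideal.mem_comap, mem_primeAt_iff, mem_primeAt_iff]
  have h := Scheme.basicOpen_appLE f V U e s
  constructor
  · intro h1 h2
    apply h1
    show x ∈ X.basicOpen ((f.appLE U V e) s)
    rw [h]
    exact ⟨hx, h2⟩
  · intro h1 h2
    have h2' : x ∈ X.basicOpen ((f.appLE U V e) s) := h2
    rw [h] at h2'
    exact h1 h2'.2

theorem eq_of_primeAt_eq {U : X.Opens} (hU : IsAffineOpen U) {x x' : X} (hx : x ∈ U) (hx' : x' ∈ U)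
    (h : primeAt U x hx = primeAt U x' hx') : x = x' := by
  have key : ∀ {a b : X} (ha : a ∈ U) (hb : b ∈ U), primeAt U a ha = primeAt U b hb →
      ∀ O : Set X, IsOpen O → a ∈ O → b ∈ O := by
    intro a b ha hb hab O hO haO
    obtain ⟨s, hs1, hs2⟩ := hU.exists_basicOpen_le (V := ⟨O, hO⟩) ⟨a, haO⟩ ha
    have hsa : s ∉ primeAt U a ha := fun hc => (mem_primeAt_iff ha s).1 hc hs2
    rw [hab, mem_primeAt_iff hb s, not_not] at hsa
    exact hs1 hsa
  exact (inseparable_iff_forall_isOpen.2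
    fun O hO => ⟨key hx hx' h O hO, key hx' hx h.symm O hO⟩).eq

theorem exists_evaluation_div {U : X.Opens} (hU : IsAffineOpen U) (x : X) (hx : x ∈ U)
    (z : X.residueField x) :
    ∃ a s : Γ(X, U), (X.evaluation U x hx).hom s ≠ 0 ∧
      z * (X.evaluation U x hx).hom s = (X.evaluation U x hx).hom a := by
  obtain ⟨w, rfl⟩ := X.residue_surjective x z
  letI : Algebra Γ(X, U) (X.presheaf.stalk x) :=
    TopCat.Presheaf.algebra_section_stalk X.presheaf ⟨x, hx⟩
  have : IsLocalization.AtPrime (X.presheaf.stalk x) (hU.primeIdealOf ⟨x, hx⟩).asIdeal :=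
    hU.isLocalization_stalk ⟨x, hx⟩
  obtain ⟨⟨a, s⟩, h⟩ := IsLocalization.surj (hU.primeIdealOf ⟨x, hx⟩).asIdeal.primeCompl w
  have hu : IsUnit (algebraMap Γ(X, U) (X.presheaf.stalk x) s) :=
    IsLocalization.map_units (X.presheaf.stalk x) s
  refine ⟨a, s, ?_, ?_⟩
  · exact (hu.map (X.residue x).hom).ne_zero
  · have := congrArg (X.residue x).hom h
    rw [map_mul] at this
    exact this

theorem evaluation_congr {U : X.Opens} {x x' : X} (e : x' = x) (hx : x ∈ U) (hx' : x' ∈ U)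
    (b : Γ(X, U)) :
    (X.residueFieldCongr e).inv.hom ((X.evaluation U x hx).hom b) = (X.evaluation U x' hx').hom b := by
  subst e
  simp

theorem evaluation_res {U V : X.Opens} (e : V ≤ U) (x : X) (hx : x ∈ V) (b : Γ(X, U)) :
    (X.evaluation V x hx).hom ((X.presheaf.map (homOfLE e).op).hom b) =
      (X.evaluation U x (e hx)).hom b := by
  have h : X.presheaf.map (homOfLE e).op ≫ X.evaluation V x hx = X.evaluation U x (e hx) := by
    rw [Scheme.evaluation, ← Category.assoc, TopCat.Presheaf.germ_res]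
    rfl
  exact congrArg (fun k => k.hom b) h

theorem id_appLE_self (V : X.Opens) (e : V ≤ (𝟙 X : X ⟶ X) ⁻¹ᵁ V) (b : Γ(X, V)) :
    ((𝟙 X : X ⟶ X).appLE V V e).hom b = b := by
  have h : (𝟙 X : X ⟶ X).appLE V V e = 𝟙 _ := by
    rw [Scheme.Hom.appLE, Scheme.Hom.id_app]
    exact (Category.id_comp _).trans (X.presheaf.map_id _)
  rw [h]
  rfl

end General

section Quot

variable {X Y : Scheme.{u}} {G : Type u} [Group G] {ρ : G →* Aut X} {p : X ⟶ Y}

/-- Sections of `O_X` over `p⁻¹U`, as a type synonym carrying the `G`-action and the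
`Γ(Y, U)`-algebra structure. -/
def SecX (_hp : SGA1.IsQuot ρ p) (U : Y.Opens) : Type u := Γ(X, p ⁻¹ᵁ U)

variable (hp : SGA1.IsQuot ρ p) (U : Y.Opens)

noncomputable instance : CommRing (SecX hp U) := inferInstanceAs (CommRing Γ(X, p ⁻¹ᵁ U))

/-- The endomorphism of `Γ(X, p⁻¹U)` induced by `g`. -/
noncomputable def sig (g : G) : SecX hp U →+* SecX hp U :=
  ((ρ g).hom.appLE (p ⁻¹ᵁ U) (p ⁻¹ᵁ U) (SGA1.preimage_le_of_inv ρ p hp.inv g U)).hom

theorem sig_eq_of_hom_eq (g : G) (f : X ⟶ X) (hf : (ρ g).hom = f) :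
    sig hp U g = (f.appLE (p ⁻¹ᵁ U) (p ⁻¹ᵁ U)
      (hf ▸ SGA1.preimage_le_of_inv ρ p hp.inv g U)).hom := by
  subst hf; rfl

theorem sig_one (b : SecX hp U) : sig hp U 1 b = b := by
  rw [sig_eq_of_hom_eq hp U 1 (𝟙 X) (by rw [map_one]; rfl)]
  exact id_appLE_self _ _ b

theorem sig_mul (g h : G) (b : SecX hp U) : sig hp U (g * h) b = sig hp U h (sig hp U g b) := by
  have key := Scheme.Hom.appLE_comp_appLE (ρ h).hom (ρ g).hom (p ⁻¹ᵁ U) (p ⁻¹ᵁ U) (p ⁻¹ᵁ U)
    (SGA1.preimage_le_of_inv ρ p hp.inv g U) (SGA1.preimage_le_of_inv ρ p hp.inv h U)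
  rw [sig_eq_of_hom_eq hp U (g * h) ((ρ h).hom ≫ (ρ g).hom) (by rw [map_mul]; rfl), ← key]
  rfl

noncomputable instance : MulSemiringAction G (SecX hp U) where
  smul g b := sig hp U g⁻¹ b
  one_smul b := by
    show sig hp U (1 : G)⁻¹ b = b
    rw [inv_one, sig_one]
  mul_smul g h b := by
    show sig hp U (g * h)⁻¹ b = sig hp U g⁻¹ (sig hp U h⁻¹ b)
    rw [mul_inv_rev, sig_mul]
  smul_zero g := map_zero _
  smul_add g a b := map_add _ a b
  smul_one g := map_one _
  smul_mul g a b := map_mul _ a b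

theorem smul_def (g : G) (b : SecX hp U) : g • b = sig hp U g⁻¹ b := rfl

noncomputable instance : Algebra Γ(Y, U) (SecX hp U) :=
  RingHom.toAlgebra (show Γ(Y, U) →+* SecX hp U from (p.app U).hom)

theorem algebraMap_def (a : Γ(Y, U)) :
    algebraMap Γ(Y, U) (SecX hp U) a = (p.app U).hom a := rfl

theorem sig_algebraMap (g : G) (a : Γ(Y, U)) :
    sig hp U g (algebraMap Γ(Y, U) (SecX hp U) a) = algebraMap Γ(Y, U) (SecX hp U) a :=
  (hp.range_iff U _).1 ⟨a, rfl⟩ g

instance : SMulCommClass G Γ(Y, U) (SecX hp U) where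
  smul_comm g a b := by
    rw [Algebra.smul_def, Algebra.smul_def, smul_mul', smul_def hp U g (algebraMap _ _ a),
      sig_algebraMap]

instance : Algebra.IsInvariant Γ(Y, U) (SecX hp U) G where
  isInvariant b hb := by
    obtain ⟨a, ha⟩ := (hp.range_iff U b).2 (fun g => by
      have := hb g⁻¹
      rw [smul_def, inv_inv] at this
      exact this)
    exact ⟨a, ha⟩

instance : FaithfulSMul Γ(Y, U) (SecX hp U) :=
  (faithfulSMul_iff_algebraMap_injective _ _).2 (hp.injective U)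

include hp in
theorem isIntegral_app [Finite G] : (p.app U).hom.IsIntegral := by
  have h := Algebra.IsInvariant.isIntegral Γ(Y, U) (SecX hp U) G
  intro b
  exact h.isIntegral b

include hp in
theorem isIntegralHom [Finite G] : IsIntegralHom p :=
  { toIsAffineHom := hp.affine
    isIntegral_app := fun U _ => isIntegral_app hp U }

/-- The prime of `SecX hp U` of sections vanishing at `x ∈ p⁻¹U`. -/
noncomputable def primeAtS (x : X) (hx : x ∈ p ⁻¹ᵁ U) : Ideal (SecX hp U) :=
  primeAt (p ⁻¹ᵁ U) x hx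

instance (x : X) (hx : x ∈ p ⁻¹ᵁ U) : (primeAtS hp U x hx).IsPrime :=
  primeAt_isPrime _ _ _

include hp in
theorem mem_of_mem (g : G) (x : X) (hx : x ∈ p ⁻¹ᵁ U) : (ρ g).hom.base x ∈ p ⁻¹ᵁ U :=
  SGA1.preimage_le_of_inv ρ p hp.inv g U hx

theorem smul_primeAtS (g : G) (x : X) (hx : x ∈ p ⁻¹ᵁ U) :
    g • primeAtS hp U x hx = primeAtS hp U ((ρ g).hom.base x) (mem_of_mem hp U g x hx) := by
  ext b
  rw [Ideal.mem_pointwise_smul_iff_inv_smul_mem, smul_def, inv_inv]
  have h := comap_primeAt (ρ g).hom (p ⁻¹ᵁ U) (p ⁻¹ᵁ U)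
    (SGA1.preimage_le_of_inv ρ p hp.inv g U) x hx
  show _ ↔ b ∈ primeAt (p ⁻¹ᵁ U) ((ρ g).hom.base x) _
  rw [← h]
  rfl

theorem under_primeAtS (x : X) (hx : x ∈ p ⁻¹ᵁ U) :
    (primeAtS hp U x hx).under Γ(Y, U) = primeAt U (p.base x) hx := by
  have h := comap_primeAt p U (p ⁻¹ᵁ U) le_rfl x hx
  rw [← h]
  ext a
  rw [Ideal.under_def, Ideal.mem_comap, Ideal.mem_comap, Scheme.Hom.appLE_eq_app]
  rfl

include hp in
/-- Fibres of a quotient map are orbits. -/
theorem exists_smul_eq_of_map_eq [Finite G] (x x' : X) (h : p.base x = p.base x') :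
    ∃ g : G, (ρ g).hom.base x = x' := by
  obtain ⟨U, hU, hyU, -⟩ := exists_isAffineOpen_mem_and_subset (x := p.base x) (U := ⊤) trivial
  have hx : x ∈ p ⁻¹ᵁ U := hyU
  have hx' : x' ∈ p ⁻¹ᵁ U := by
    show p.base x' ∈ U
    rw [← h]; exact hyU
  have hPQ : (primeAtS hp U x hx).under Γ(Y, U) = (primeAtS hp U x' hx').under Γ(Y, U) := by
    rw [under_primeAtS, under_primeAtS]
    exact primeAt_congr h _ _
  obtain ⟨g, hg⟩ := Algebra.IsInvariant.exists_smul_of_under_eq Γ(Y, U) (SecX hp U) G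
    (primeAtS hp U x hx) (primeAtS hp U x' hx') hPQ
  refine ⟨g, ?_⟩
  rw [smul_primeAtS] at hg
  exact (eq_of_primeAt_eq (hp.affine.isAffine_preimage U hU) _ _ hg).symm

include hp in
theorem isSchemeTheoreticallyDominant : IsSchemeTheoreticallyDominant p := by
  have := hp.affine
  refine ⟨?_⟩
  rw [eq_bot_iff, Scheme.IdealSheafData.le_def]
  intro U
  rw [Scheme.Hom.ker_apply, Scheme.IdealSheafData.ideal_bot]
  intro a ha
  exact hp.injective U.1 (by rw [RingHom.mem_ker.1 ha, map_zero])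

include hp in
theorem surjective [Finite G] : Function.Surjective p.base := by
  have := hp.affine
  have : IsIntegralHom p := isIntegralHom hp
  have : IsSchemeTheoreticallyDominant p := isSchemeTheoreticallyDominant hp
  have : IsDominant p := inferInstance
  exact (surjective_of_isDominant_of_isClosed_range p p.isClosedMap.isClosed_range).surj

include hp in
theorem isQuotientMap [Finite G] : Topology.IsQuotientMap p.base := by
  have : IsIntegralHom p := isIntegralHom hp
  exact p.isClosedMap.isQuotientMap p.continuous (surjective hp)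

end Quot

end Groth.Agent.H68.Quot
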