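import Mathlib
import Groth.Prelude.Def_FEt

/-!
# Fully faithfulness of restriction of finite étale covers from a clopen-lifting property

`ClopenBij j`: for every finite étale `W ⟶ X`, clopen subsets of `W ×_X X'` are uniquely
preimages of clopen subsets of `W`.  Then `FEt.restrict j` is full and faithful.
-/

set_option autoImplicit false
universe u

namespace Groth.Agent.H68.FEtFF

open CategoryTheory CategoryTheory.Limits AlgebraicGeometry

/-- clopen subsets lift uniquely along the projection `W ×_X X' ⟶ W` for all finite étale `W/X` -/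
structure ClopenBij {X' X : Scheme.{u}} (j : X' ⟶ X) : Prop where
  inj : ∀ (W : FEt.Cat X) (T : Set W.left), IsClopen T →
    (pullback.fst W.hom j) ⁻¹' T = Set.univ → T = Set.univ
  surj : ∀ (W : FEt.Cat X) (T' : Set ↥(pullback W.hom j)), IsClopen T' →
    ∃ T : Set W.left, IsClopen T ∧ (pullback.fst W.hom j) ⁻¹' T = T'

set_option backward.isDefEq.respectTransparency false in
/-- equalizers into an unramified scheme are open immersions -/
theorem isOpenImmersion_equalizer_ι_left {S : Scheme.{u}} {X Y : Over S}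
    [FormallyUnramified Y.hom] [LocallyOfFiniteType Y.hom]
    (f g : X ⟶ Y) : IsOpenImmersion (equalizer.ι f g).left := by
  refine MorphismProperty.of_isPullback (P := @IsOpenImmersion)
    ((Limits.isPullback_equalizer_prod f g).map (Over.forget _)).flip ?_
  rw [← MorphismProperty.cancel_right_of_respectsIso @IsOpenImmersion _
    (Over.prodLeftIsoPullback Y Y).hom]
  convert! (inferInstance : IsOpenImmersion (pullback.diagonal Y.hom))
  ext1 <;> simp [← Over.comp_left]

theorem section_isOpenImmersion {X Y : Scheme.{u}} (s : Y ⟶ X) (f : X ⟶ Y) [Etale f]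
    (h : s ≫ f = 𝟙 Y) : IsOpenImmersion s := by
  haveI : Etale (s ≫ f) := by rw [h]; infer_instance
  haveI : Etale s := Etale.of_comp (f := s) f
  haveI : Mono s := mono_of_mono_fac h
  exact IsOpenImmersion.of_flat_of_mono s

theorem restrict_map_left_fst {X' X : Scheme.{u}} (j : X' ⟶ X) {Y Z : FEt.Cat X} (g : Y ⟶ Z) :
    ((FEt.restrict j).map g).left ≫ pullback.fst Z.hom j = pullback.fst Y.hom j ≫ g.left :=
  pullback.lift_fst _ _ _

theorem restrict_map_left_snd {X' X : Scheme.{u}} (j : X' ⟶ X) {Y Z : FEt.Cat X} (g : Y ⟶ Z) :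
    ((FEt.restrict j).map g).left ≫ pullback.snd Z.hom j = pullback.snd Y.hom j :=
  pullback.lift_snd _ _ _

theorem faithful {X' X : Scheme.{u}} (j : X' ⟶ X) (H : ClopenBij j) :
    (FEt.restrict j).Faithful := by
  refine ⟨fun {Y Z} g h hgh => ?_⟩
  have h1 : pullback.fst Y.hom j ≫ g.left = pullback.fst Y.hom j ≫ h.left := by
    have := congr($(hgh).left ≫ pullback.fst Z.hom j)
    rwa [restrict_map_left_fst, restrict_map_left_fst] at this
  haveI : IsFinite Z.hom := Z.prop.1
  haveI : Etale Z.hom := Z.prop.2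
  have hg : g.left ≫ Z.hom = Y.hom := MorphismProperty.Over.w g
  have hh : h.left ≫ Z.hom = Y.hom := MorphismProperty.Over.w h
  let V' : Over X := Over.mk Y.hom
  let Z' : Over X := Over.mk Z.hom
  let a' : V' ⟶ Z' := Over.homMk g.left hg
  let b' : V' ⟶ Z' := Over.homMk h.left hh
  haveI : FormallyUnramified Z'.hom := (inferInstance : FormallyUnramified Z.hom)
  haveI : LocallyOfFiniteType Z'.hom := (inferInstance : LocallyOfFiniteType Z.hom)
  haveI : IsSeparated Z'.hom := (inferInstance : IsSeparated Z.hom)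
  haveI := isOpenImmersion_equalizer_ι_left a' b'
  haveI : IsClosedImmersion (equalizer.ι a' b').left := inferInstance
  have hcl : IsClopen (Set.range (equalizer.ι a' b').left) :=
    ⟨(equalizer.ι a' b').left.isClosedEmbedding.isClosed_range,
      (equalizer.ι a' b').left.isOpenEmbedding.isOpen_range⟩
  have hpre : (pullback.fst Y.hom j) ⁻¹' (Set.range (equalizer.ι a' b').left) = Set.univ := by
    rw [Set.eq_univ_iff_forall]
    intro y'
    let P' : Over X := Over.mk (pullback.fst Y.hom j ≫ Y.hom)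
    let ι' : P' ⟶ V' := Over.homMk (pullback.fst Y.hom j)
    have hι' : ι' ≫ a' = ι' ≫ b' := by ext1; exact h1
    refine ⟨(equalizer.lift ι' hι').left y', ?_⟩
    rw [← Scheme.Hom.comp_apply, ← Over.comp_left, equalizer.lift_ι]
    rfl
  have huniv := H.inj Y _ hcl hpre
  haveI : Surjective (equalizer.ι a' b').left := ⟨Set.range_eq_univ.mp huniv⟩
  haveI : IsIso (equalizer.ι a' b').left :=
    (isIso_iff_isOpenImmersion_and_surjective _).mpr ⟨inferInstance, inferInstance⟩
  apply MorphismProperty.Over.Hom.ext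
  rw [← cancel_epi (equalizer.ι a' b').left]
  exact congr($(equalizer.condition a' b').left)

theorem full {X' X : Scheme.{u}} (j : X' ⟶ X) (H : ClopenBij j) :
    (FEt.restrict j).Full := by
  refine ⟨fun {Y Z} φ => ?_⟩
  haveI : IsFinite Y.hom := Y.prop.1
  haveI : Etale Y.hom := Y.prop.2
  haveI : IsFinite Z.hom := Z.prop.1
  haveI : Etale Z.hom := Z.prop.2
  obtain ⟨φl, hφl⟩ : ∃ φl : pullback Y.hom j ⟶ pullback Z.hom j, φl = φ.left := ⟨φ.left, rfl⟩
  have hφ : φl ≫ pullback.snd Z.hom j = pullback.snd Y.hom j := by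
    rw [hφl]; exact MorphismProperty.Over.w φ
  -- the fibre product `W = Y ×_X Z` and the graph of `φ`
  obtain ⟨W, pr₁, pr₂, hW1, hW2, hfin, het, γ₀, hγ₀1, hγ₀2⟩ : ∃ (W : FEt.Cat X)
      (pr₁ : W.left ⟶ Y.left) (pr₂ : W.left ⟶ Z.left), pr₁ ≫ Y.hom = W.hom ∧
      pr₂ ≫ Z.hom = W.hom ∧ IsFinite pr₁ ∧ Etale pr₁ ∧
      ∃ γ₀ : pullback Y.hom j ⟶ W.left, γ₀ ≫ pr₁ = pullback.fst Y.hom j ∧
        γ₀ ≫ pr₂ = φl ≫ pullback.fst Z.hom j := by
    refine ⟨MorphismProperty.Over.mk ⊤ (pullback.fst Y.hom Z.hom ≫ Y.hom)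
      ⟨inferInstance, inferInstance⟩, pullback.fst Y.hom Z.hom, pullback.snd Y.hom Z.hom, rfl,
      pullback.condition.symm, (inferInstance : IsFinite (pullback.fst Y.hom Z.hom)),
      (inferInstance : Etale (pullback.fst Y.hom Z.hom)),
      pullback.lift (pullback.fst Y.hom j) (φl ≫ pullback.fst Z.hom j) ?_,
      pullback.lift_fst _ _ _, pullback.lift_snd _ _ _⟩
    rw [pullback.condition, Category.assoc, pullback.condition, ← Category.assoc, hφ]
  haveI := hfin
  haveI := het
  haveI : IsFinite W.hom := W.prop.1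
  haveI : Etale W.hom := W.prop.2
  obtain ⟨γ, hγ1, hγ2⟩ : ∃ γ : pullback Y.hom j ⟶ pullback W.hom j,
      γ ≫ pullback.fst W.hom j = γ₀ ∧ γ ≫ pullback.snd W.hom j = pullback.snd Y.hom j := by
    refine ⟨pullback.lift γ₀ (pullback.snd Y.hom j) ?_, pullback.lift_fst _ _ _,
      pullback.lift_snd _ _ _⟩
    rw [← hW1, ← Category.assoc, hγ₀1, pullback.condition]
  obtain ⟨q', hq'1, hq'2⟩ : ∃ q' : pullback W.hom j ⟶ pullback Y.hom j,
      q' ≫ pullback.fst Y.hom j = pullback.fst W.hom j ≫ pr₁ ∧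
      q' ≫ pullback.snd Y.hom j = pullback.snd W.hom j := by
    refine ⟨pullback.lift (pullback.fst W.hom j ≫ pr₁) (pullback.snd W.hom j) ?_,
      pullback.lift_fst _ _ _, pullback.lift_snd _ _ _⟩
    rw [Category.assoc, hW1, pullback.condition]
  have hγq : γ ≫ q' = 𝟙 _ := by
    apply pullback.hom_ext
    · rw [Category.assoc, hq'1, ← Category.assoc, hγ1, hγ₀1, Category.id_comp]
    · rw [Category.assoc, hq'2, hγ2, Category.id_comp]
  haveI : Etale (q' ≫ pullback.snd Y.hom j) := by rw [hq'2]; infer_instance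
  haveI : Etale q' := Etale.of_comp (f := q') (pullback.snd Y.hom j)
  haveI : IsSeparated (q' ≫ pullback.snd Y.hom j) := by rw [hq'2]; infer_instance
  haveI : IsSeparated q' := IsSeparated.of_comp q' (pullback.snd Y.hom j)
  haveI : IsOpenImmersion γ := section_isOpenImmersion γ q' hγq
  haveI : IsClosedImmersion (γ ≫ q') := by rw [hγq]; infer_instance
  haveI : IsClosedImmersion γ := IsClosedImmersion.of_comp γ q'
  have hΓ : IsClopen (Set.range γ) :=
    ⟨γ.isClosedEmbedding.isClosed_range, γ.isOpenEmbedding.isOpen_range⟩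
  obtain ⟨T, hT, hTΓ⟩ := H.surj W _ hΓ
  -- the clopen subscheme `T` of `W`
  obtain ⟨TO, hTO⟩ : ∃ TO : W.left.Opens, (TO : Set W.left) = T := ⟨⟨T, hT.isOpen⟩, rfl⟩
  have hrι : Set.range TO.ι = T := by rw [Scheme.Opens.range_ι, hTO]
  haveI : IsClosedImmersion TO.ι :=
    IsClosedImmersion.of_isPreimmersion _ (by rw [hrι]; exact hT.isClosed)
  obtain ⟨t, ht⟩ : ∃ t : (TO : Scheme.{u}) ⟶ Y.left, t = TO.ι ≫ pr₁ := ⟨_, rfl⟩
  haveI : IsFinite t := by rw [ht]; infer_instance
  haveI : Etale t := by rw [ht]; infer_instance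
  have hmemT : ∀ y' : ↥(pullback Y.hom j), γ₀ y' ∈ T := by
    intro y'
    have : γ y' ∈ (pullback.fst W.hom j) ⁻¹' T := by rw [hTΓ]; exact ⟨y', rfl⟩
    rw [← hγ1, Scheme.Hom.comp_apply]
    exact this
  obtain ⟨c, hc⟩ : ∃ c : pullback Y.hom j ⟶ (TO : Scheme.{u}), c ≫ TO.ι = γ₀ := by
    refine ⟨IsOpenImmersion.lift TO.ι γ₀ ?_, IsOpenImmersion.lift_fac _ _ _⟩
    rintro _ ⟨y', rfl⟩
    rw [hrι]
    exact hmemT y'
  have hct : c ≫ t = pullback.fst Y.hom j := by
    rw [ht, ← Category.assoc, hc, hγ₀1]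
  -- `t` is surjective
  haveI hsurj : Surjective t := by
    have hR : IsClopen (Set.range t) := ⟨t.isClosedMap.isClosed_range, t.isOpenMap.isOpen_range⟩
    have hpre : (pullback.fst Y.hom j) ⁻¹' (Set.range t) = Set.univ := by
      rw [Set.eq_univ_iff_forall]
      intro y'
      refine ⟨c y', ?_⟩
      rw [← Scheme.Hom.comp_apply, hct]
    exact ⟨Set.range_eq_univ.mp (H.inj Y _ hR hpre)⟩
  -- `t` is a monomorphism
  haveI hmono : Mono t := by
    obtain ⟨V, f₁, f₂, hV, hcond, Δ, hΔ1, hΔ2, hΔo, hΔc, hiso⟩ : ∃ (V : FEt.Cat X)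
        (f₁ f₂ : V.left ⟶ (TO : Scheme.{u})), f₁ ≫ t ≫ Y.hom = V.hom ∧ f₁ ≫ t = f₂ ≫ t ∧
        ∃ Δ : (TO : Scheme.{u}) ⟶ V.left, (∀ {A : Scheme.{u}} (m : A ⟶ V.left),
          m ≫ f₁ = m ≫ f₂ → m = (m ≫ f₁) ≫ Δ) ∧ True ∧ IsOpenImmersion Δ ∧
          IsClosedImmersion Δ ∧ (IsIso Δ → Mono t) := by
      refine ⟨MorphismProperty.Over.mk ⊤ (pullback.fst t t ≫ t ≫ Y.hom)
        ⟨inferInstance, inferInstance⟩, pullback.fst t t, pullback.snd t t, rfl,
        pullback.condition, pullback.diagonal t, ?_, trivial,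
        (inferInstance : IsOpenImmersion (pullback.diagonal t)),
        (inferInstance : IsClosedImmersion (pullback.diagonal t)),
        fun h => (pullback.isIso_diagonal_iff t).mp h⟩
      intro A m hm
      refine pullback.hom_ext (f := t) (g := t) ?_ ?_
      · erw [Category.assoc, pullback.diagonal_fst, Category.comp_id]
        rfl
      · erw [Category.assoc, pullback.diagonal_snd, Category.comp_id]
        exact hm.symm
    haveI := hΔo
    haveI := hΔc
    apply hiso
    have hΔ : IsClopen (Set.range Δ) :=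
      ⟨Δ.isClosedEmbedding.isClosed_range, Δ.isOpenEmbedding.isOpen_range⟩
    have hab : pullback.fst V.hom j ≫ f₁ = pullback.fst V.hom j ≫ f₂ := by
      rw [← cancel_mono TO.ι]
      obtain ⟨a', ha'1, ha'2⟩ : ∃ a' : pullback V.hom j ⟶ pullback W.hom j,
          a' ≫ pullback.fst W.hom j = (pullback.fst V.hom j ≫ f₁) ≫ TO.ι ∧
          a' ≫ pullback.snd W.hom j = pullback.snd V.hom j := by
        refine ⟨pullback.lift ((pullback.fst V.hom j ≫ f₁) ≫ TO.ι)
          (pullback.snd V.hom j) ?_, pullback.lift_fst _ _ _, pullback.lift_snd _ _ _⟩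
        rw [← pullback.condition, ← hV, ← hW1, ht]
        simp only [Category.assoc]
      obtain ⟨b', hb'1, hb'2⟩ : ∃ b' : pullback V.hom j ⟶ pullback W.hom j,
          b' ≫ pullback.fst W.hom j = (pullback.fst V.hom j ≫ f₂) ≫ TO.ι ∧
          b' ≫ pullback.snd W.hom j = pullback.snd V.hom j := by
        refine ⟨pullback.lift ((pullback.fst V.hom j ≫ f₂) ≫ TO.ι)
          (pullback.snd V.hom j) ?_, pullback.lift_fst _ _ _, pullback.lift_snd _ _ _⟩
        rw [← pullback.condition, ← hV, ← hW1, ← Category.assoc f₁, hcond, ht]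
        simp only [Category.assoc]
      have hrange : ∀ (m : pullback V.hom j ⟶ pullback W.hom j)
          (n : pullback V.hom j ⟶ (TO : Scheme.{u})),
          m ≫ pullback.fst W.hom j = n ≫ TO.ι → ∃ m' : pullback V.hom j ⟶ pullback Y.hom j,
            m' ≫ γ = m := by
        intro m n hmn
        refine ⟨IsOpenImmersion.lift γ m ?_, IsOpenImmersion.lift_fac _ _ _⟩
        rintro _ ⟨v, rfl⟩
        rw [← hTΓ, Set.mem_preimage, ← Scheme.Hom.comp_apply, hmn, Scheme.Hom.comp_apply, ← hrι]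
        exact ⟨_, rfl⟩
      obtain ⟨a2, ha2⟩ := hrange a' _ ha'1
      obtain ⟨b2, hb2⟩ := hrange b' _ hb'1
      have hq : a' ≫ q' = b' ≫ q' := by
        apply pullback.hom_ext
        · rw [Category.assoc, Category.assoc, hq'1, ← Category.assoc, ← Category.assoc, ha'1, hb'1]
          simp only [Category.assoc]
          rw [← ht, hcond]
        · rw [Category.assoc, Category.assoc, hq'2, ha'2, hb'2]
      have ha2b2 : a2 = b2 := by
        have e1 : a2 = a' ≫ q' := by rw [← ha2, Category.assoc, hγq, Category.comp_id]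
        have e2 : b2 = b' ≫ q' := by rw [← hb2, Category.assoc, hγq, Category.comp_id]
        rw [e1, e2, hq]
      have : a' = b' := by rw [← ha2, ← hb2, ha2b2]
      rw [← ha'1, ← hb'1, this]
    have hfac := hΔ1 (pullback.fst V.hom j) hab
    have hpre : (pullback.fst V.hom j) ⁻¹' (Set.range Δ) = Set.univ := by
      rw [Set.eq_univ_iff_forall]
      intro v
      refine ⟨(pullback.fst V.hom j ≫ f₁) v, ?_⟩
      rw [← Scheme.Hom.comp_apply, ← hfac]
    haveI : Surjective Δ := ⟨Set.range_eq_univ.mp (H.inj V _ hΔ hpre)⟩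
    exact (isIso_iff_isOpenImmersion_and_surjective _).mpr ⟨inferInstance, inferInstance⟩
  haveI : IsOpenImmersion t := IsOpenImmersion.of_flat_of_mono t
  haveI : IsIso t := (isIso_iff_isOpenImmersion_and_surjective _).mpr ⟨inferInstance, inferInstance⟩
  -- the extension
  have hw : (inv t ≫ TO.ι ≫ pr₂) ≫ Z.hom = Y.hom := by
    rw [Category.assoc, Category.assoc, hW2, ← hW1, IsIso.inv_comp_eq, ht, Category.assoc]
  refine ⟨MorphismProperty.Over.homMk (inv t ≫ TO.ι ≫ pr₂) hw trivial, ?_⟩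
  apply MorphismProperty.Over.Hom.ext
  refine pullback.hom_ext (f := Z.hom) (g := j) ?_ ?_
  · refine (restrict_map_left_fst j _).trans ?_
    rw [← hφl]
    show pullback.fst Y.hom j ≫ inv t ≫ TO.ι ≫ pr₂ = φl ≫ _
    have hc' : pullback.fst Y.hom j ≫ inv t = c := by
      rw [← hct, Category.assoc, IsIso.hom_inv_id, Category.comp_id]
    rw [← Category.assoc, hc', ← Category.assoc, hc, hγ₀2]
  · refine (restrict_map_left_snd j _).trans ?_
    rw [← hφl]
    exact hφ.symm

theorem full_faithful {X' X : Scheme.{u}} (j : X' ⟶ X) (H : ClopenBij j) :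
    (FEt.restrict j).Full ∧ (FEt.restrict j).Faithful := ⟨full j H, faithful j H⟩

end Groth.Agent.H68.FEtFF
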