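import Mathlib
import Groth.Agent.H3.HenselEtale4

set_option autoImplicit false
universe u
open CategoryTheory CategoryTheory.Limits AlgebraicGeometry IsLocalRing

namespace Groth.Agent.H68.StrictHens

/-- algebra core: an étale algebra over a strictly henselian local ring with a prime over the
maximal ideal admits a retraction whose kernel-prime is that prime. -/
theorem exists_retraction (R : Type u) [CommRing R] [HenselianLocalRing R]
    [IsSepClosed (ResidueField R)]
    (T : Type u) [CommRing T] [Algebra R T] [Algebra.Etale R T] (𝔮 : Ideal T) [𝔮.IsPrime]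
    (h𝔮 : 𝔮.comap (algebraMap R T) = maximalIdeal R) :
    ∃ σ : T →ₐ[R] R, ∀ t : T, σ t ∈ maximalIdeal R ↔ t ∈ 𝔮 := by
  let L := 𝔮.ResidueField
  have hker : ∀ a ∈ maximalIdeal R, algebraMap R L a = 0 := by
    intro a ha
    rw [IsScalarTower.algebraMap_apply R T L, Ideal.algebraMap_residueField_eq_zero]
    rw [← h𝔮] at ha
    exact ha
  letI : Algebra (ResidueField R) L :=
    (Ideal.Quotient.lift (maximalIdeal R) (algebraMap R L) hker).toAlgebra
  haveI : IsScalarTower R (ResidueField R) L := IsScalarTower.of_algebraMap_eq' rfl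
  let χ : T →ₐ[R] L := IsScalarTower.toAlgHom R T L
  obtain ⟨χ₀, hχ₀⟩ := Groth.Agent.H3.exists_algHom_residueField_of_isSepClosed R T L χ
  obtain ⟨σ, hσ⟩ := Groth.Agent.H3.exists_section_of_etale χ₀
  refine ⟨σ, fun t => ?_⟩
  have h1 : residue R (σ t) = χ₀ t := AlgHom.congr_fun hσ t
  rw [← residue_eq_zero_iff, h1]
  constructor
  · intro h0
    have : χ t = 0 := by rw [← hχ₀ t, h0, map_zero]
    exact Ideal.algebraMap_residueField_eq_zero.mp this
  · intro ht
    have : χ t = 0 := Ideal.algebraMap_residueField_eq_zero.mpr ht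
    rw [← hχ₀ t] at this
    exact (map_eq_zero_iff _ (algebraMap (ResidueField R) L).injective).mp this

/-- an étale scheme over a strictly henselian local ring has a section through any point over
the closed point. -/
theorem exists_section_through (R : CommRingCat.{u}) [HenselianLocalRing R]
    [IsSepClosed (ResidueField R)]
    {P : Scheme.{u}} (f : P ⟶ Spec R) [Etale f] (z : P) (hz : f z = closedPoint R) :
    ∃ s : Spec R ⟶ P, s ≫ f = 𝟙 _ ∧ s (closedPoint R) = z := by
  obtain ⟨_, ⟨W, hW : IsAffineOpen W, rfl⟩, hzW, -⟩ :=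
    P.isBasis_affineOpens.exists_subset_of_mem_open (Set.mem_univ z) isOpen_univ
  let θ : R ⟶ Γ(P, W) := Spec.preimage (hW.fromSpec ≫ f)
  have hθ : Spec.map θ = hW.fromSpec ≫ f := Spec.map_preimage _
  have het : Etale (Spec.map θ) := by rw [hθ]; infer_instance
  have hθet : θ.hom.Etale := (HasRingHomProperty.Spec_iff (P := @Etale)).mp het
  letI : Algebra R Γ(P, W) := θ.hom.toAlgebra
  haveI : Algebra.Etale R Γ(P, W) := hθet
  let z' : Spec Γ(P, W) := hW.primeIdealOf ⟨z, hzW⟩
  have hz' : hW.fromSpec z' = z := hW.fromSpec_primeIdealOf ⟨z, hzW⟩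
  have h𝔮 : z'.asIdeal.comap (algebraMap R Γ(P, W)) = maximalIdeal R := by
    have : (Spec.map θ) z' = closedPoint R := by rw [hθ, Scheme.Hom.comp_apply, hz', hz]
    exact congrArg PrimeSpectrum.asIdeal this
  obtain ⟨σ, hσ⟩ := exists_retraction R Γ(P, W) z'.asIdeal h𝔮
  refine ⟨Spec.map (CommRingCat.ofHom σ.toRingHom) ≫ hW.fromSpec, ?_, ?_⟩
  · rw [Category.assoc, ← hθ, ← Spec.map_comp]
    have : θ ≫ CommRingCat.ofHom σ.toRingHom = 𝟙 _ := by
      ext r
      exact σ.commutes r
    rw [this, Spec.map_id]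
  · rw [Scheme.Hom.comp_apply]
    have : (Spec.map (CommRingCat.ofHom σ.toRingHom)) (closedPoint R) = z' := by
      apply PrimeSpectrum.ext
      ext t
      exact hσ t
    rw [this, hz']

/-- local sections through every point of an étale scheme over an integral scheme with strictly
henselian local rings. -/
theorem exists_local_section {U X : Scheme.{u}} [IsIntegral X] (g : U ⟶ X) [Etale g]
    (hH : ∀ x : X, HenselianLocalRing (X.presheaf.stalk x))
    (hS : ∀ x : X, IsSepClosed (ResidueField (X.presheaf.stalk x))) (u : U) :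
    ∃ (V : X.Opens) (s : V.toScheme ⟶ U), s ≫ g = V.ι ∧ u ∈ Set.range s := by
  haveI := hH (g u)
  haveI := hS (g u)
  obtain ⟨z, hz1, hz2⟩ := Scheme.Pullback.exists_preimage_pullback (f := g)
    (g := X.fromSpecStalk (g u)) u (closedPoint (X.presheaf.stalk (g u)))
    (by rw [Scheme.fromSpecStalk_closedPoint])
  obtain ⟨s, hs1, hs2⟩ := exists_section_through (X.presheaf.stalk (g u))
    (pullback.snd g (X.fromSpecStalk (g u))) z hz2
  let φ : Spec (X.presheaf.stalk (g u)) ⟶ U := s ≫ pullback.fst g (X.fromSpecStalk (g u))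
  have hφ : φ ≫ g = X.fromSpecStalk (g u) ≫ 𝟙 X := by
    rw [Category.comp_id, Category.assoc, pullback.condition, ← Category.assoc, hs1,
      Category.id_comp]
  obtain ⟨V, hxV, f, hf1, hf2⟩ := spread_out_of_isGermInjective' (𝟙 X) g φ hφ
  refine ⟨V, f, by rw [hf2, Category.comp_id], ?_⟩
  refine ⟨(V.fromSpecStalkOfMem (g u) hxV) (closedPoint (X.presheaf.stalk (g u))), ?_⟩
  rw [← Scheme.Hom.comp_apply, ← hf1, Scheme.Hom.comp_apply, hs2, hz1]

end Groth.Agent.H68.StrictHens
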