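import Mathlib
import Groth.Prelude.Def_FEt
import Groth.Agent.H68.StrictHens
import Groth.Agent.H68.FEtFF
import Groth.Agent.H47.HensK3

/-!
# Probing a point of an étale scheme by the strict henselization of the base

* `primeSpectrum_specializes`, `exists_specializes_of_mem_closure`: points in the closure of a
  retrocompact open are specializations of points of the open.
* `exists_probe`: for `π : W ⟶ X` étale and `w : W`, a morphism `σ` from the spectrum of the strict
  henselization `R` of `𝒪_{X, π w}` to `W` sending exactly the closed point to `w`, hitting every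
  generization of `w`.
* `false_of_two_sided`: if the punctured spectrum of `R` is connected, the proper generizations of
  `w` cannot be split by two closed subsets.
-/

set_option autoImplicit false
universe u

open CategoryTheory CategoryTheory.Limits AlgebraicGeometry IsLocalRing

namespace Groth.Agent.H68.ConnInf

open Groth.Agent.H47.HensK

theorem primeSpectrum_specializes {D : Type u} [CommRing D] (S : Set (PrimeSpectrum D))
    (hc : IsCompact S) (ho : IsOpen S) (p : PrimeSpectrum D) (hp : p ∈ closure S) :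
    ∃ q ∈ S, q ⤳ p := by
  obtain ⟨t, rfl⟩ := PrimeSpectrum.isCompact_isOpen_iff.mp ⟨hc, ho⟩
  have hU : (PrimeSpectrum.zeroLocus (t : Set D))ᶜ =
      ⋃ f ∈ (t : Set D), (PrimeSpectrum.basicOpen f : Set (PrimeSpectrum D)) := by
    ext q
    simp only [Set.mem_compl_iff, PrimeSpectrum.mem_zeroLocus, Set.subset_def, Set.mem_iUnion,
      SetLike.mem_coe, PrimeSpectrum.mem_basicOpen, exists_prop, not_forall]
  rw [hU, t.finite_toSet.closure_biUnion] at hp
  obtain ⟨f, hft, hpf⟩ := Set.mem_iUnion₂.mp hp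
  rw [← PrimeSpectrum.localization_away_comap_range (Localization.Away f) f,
    PrimeSpectrum.closure_range_comap] at hpf
  obtain ⟨Q, -, hQ, hQle⟩ := Ideal.exists_ideal_comap_le_prime p.asIdeal
    (⊥ : Ideal (Localization.Away f)) (f := algebraMap D (Localization.Away f)) hpf
  refine ⟨PrimeSpectrum.comap (algebraMap D (Localization.Away f)) ⟨Q, hQ⟩, ?_, ?_⟩
  · rw [hU]
    refine Set.mem_iUnion₂.mpr ⟨f, hft, ?_⟩
    rw [← PrimeSpectrum.localization_away_comap_range (Localization.Away f) f]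
    exact ⟨_, rfl⟩
  · exact (PrimeSpectrum.le_iff_specializes _ p).mp hQle

theorem exists_specializes_of_mem_closure {W : Scheme.{u}} (P : Set W) (hPo : IsOpen P)
    (hP : ∀ W₀ : W.Opens, IsAffineOpen W₀ → IsCompact (P ∩ W₀)) (w : W)
    (hw : w ∈ closure P) : ∃ s ∈ P, s ⤳ w := by
  obtain ⟨_, ⟨W₀, hW₀ : IsAffineOpen W₀, rfl⟩, hwW₀, -⟩ :=
    W.isBasis_affineOpens.exists_subset_of_mem_open (Set.mem_univ w) isOpen_univ
  have he : Topology.IsOpenEmbedding hW₀.fromSpec := hW₀.fromSpec.isOpenEmbedding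
  have hrange : Set.range hW₀.fromSpec = W₀ := hW₀.range_fromSpec
  obtain ⟨w₀, rfl⟩ : ∃ w₀, hW₀.fromSpec w₀ = w := by
    have : w ∈ Set.range hW₀.fromSpec := by rw [hrange]; exact hwW₀
    exact this
  have hP₀c : IsCompact (hW₀.fromSpec ⁻¹' P) := by
    have h1 : hW₀.fromSpec ⁻¹' P = hW₀.fromSpec ⁻¹' (P ∩ W₀) := by
      ext t
      simp only [Set.mem_preimage, Set.mem_inter_iff, iff_self_and]
      intro _
      rw [← hrange]
      exact ⟨t, rfl⟩
    rw [h1]
    exact he.isInducing.isCompact_preimage' (hP W₀ hW₀)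
      (by rw [hrange]; exact Set.inter_subset_right)
  have hP₀o : IsOpen (hW₀.fromSpec ⁻¹' P) := hPo.preimage hW₀.fromSpec.continuous
  have hw₀ : w₀ ∈ closure (hW₀.fromSpec ⁻¹' P) := by
    rw [← he.isOpenMap.preimage_closure_eq_closure_preimage hW₀.fromSpec.continuous]
    exact hw
  obtain ⟨q, hqP, hq⟩ := primeSpectrum_specializes (hW₀.fromSpec ⁻¹' P) hP₀c hP₀o w₀ hw₀
  exact ⟨hW₀.fromSpec q, hqP, hq.map hW₀.fromSpec.continuous⟩

theorem flat_fromSpecStalk (X : Scheme.{u}) (x : X) : Flat (X.fromSpecStalk x) := by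
  obtain ⟨_, ⟨U, hU, rfl⟩, hxU, -⟩ :=
    X.isBasis_affineOpens.exists_subset_of_mem_open (Set.mem_univ x) isOpen_univ
  rw [← hU.fromSpecStalk_eq_fromSpecStalk hxU]
  dsimp [IsAffineOpen.fromSpecStalk]
  have : Flat (Spec.map (X.presheaf.germ U x hxU)) := by
    rw [Flat.SpecMap_iff]
    letI : Algebra Γ(X, U) (X.presheaf.stalk x) := (X.presheaf.germ U x hxU).hom.toAlgebra
    haveI := hU.isLocalization_stalk ⟨x, hxU⟩
    exact IsLocalization.flat (X.presheaf.stalk x) (hU.primeIdealOf ⟨x, hxU⟩).asIdeal.primeCompl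
  have h2 : IsOpenImmersion hU.fromSpec := hU.isOpenImmersion_fromSpec
  exact Flat.comp _ _

/-- the canonical morphism from the spectrum of the strict henselization of `𝒪_{X,x}` to `X` -/
noncomputable def tau (X : Scheme.{u}) (x : X) :
    Spec (CommRingCat.of (Hsh (X.presheaf.stalk x))) ⟶ X :=
  Spec.map (CommRingCat.ofHom (algebraMap (X.presheaf.stalk x) (Hsh (X.presheaf.stalk x)))) ≫
    X.fromSpecStalk x

theorem tau_closedPoint (X : Scheme.{u}) (x : X) :
    tau X x (closedPoint (Hsh (X.presheaf.stalk x))) = x := by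
  rw [tau, Scheme.Hom.comp_apply]
  have h1 : (Spec.map (CommRingCat.ofHom (algebraMap (X.presheaf.stalk x)
      (Hsh (X.presheaf.stalk x))))) (closedPoint (Hsh (X.presheaf.stalk x))) =
      closedPoint (X.presheaf.stalk x) :=
    IsLocalRing.comap_closedPoint (algebraMap (X.presheaf.stalk x) (Hsh (X.presheaf.stalk x)))
  rw [h1, Scheme.fromSpecStalk_closedPoint]

theorem eq_closedPoint_of_tau_eq (X : Scheme.{u}) (x : X)
    (r : Spec (CommRingCat.of (Hsh (X.presheaf.stalk x)))) (hr : tau X x r = x) :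
    r = closedPoint (Hsh (X.presheaf.stalk x)) := by
  rw [tau, Scheme.Hom.comp_apply] at hr
  have h1 : (Spec.map (CommRingCat.ofHom (algebraMap (X.presheaf.stalk x)
      (Hsh (X.presheaf.stalk x))))) r = closedPoint (X.presheaf.stalk x) := by
    apply (X.fromSpecStalk x).isEmbedding.injective
    rw [hr, Scheme.fromSpecStalk_closedPoint]
  have h2 : maximalIdeal (X.presheaf.stalk x) =
      r.asIdeal.comap (algebraMap (X.presheaf.stalk x) (Hsh (X.presheaf.stalk x))) :=
    (congrArg PrimeSpectrum.asIdeal h1).symm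
  have h3 : maximalIdeal (Hsh (X.presheaf.stalk x)) ≤ r.asIdeal := by
    rw [← map_maximalIdeal_H (X.presheaf.stalk x) (Ksep (X.presheaf.stalk x)),
      Ideal.map_le_iff_le_comap, h2]
  apply PrimeSpectrum.ext
  exact ((maximalIdeal.isMaximal _).eq_of_le r.isPrime.ne_top h3).symm

theorem tau_specializes (X : Scheme.{u}) (x : X)
    (r : Spec (CommRingCat.of (Hsh (X.presheaf.stalk x)))) : tau X x r ⤳ x := by
  have : tau X x r ∈ Set.range (X.fromSpecStalk x) := by
    rw [tau, Scheme.Hom.comp_apply]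
    exact ⟨_, rfl⟩
  rw [Scheme.range_fromSpecStalk] at this
  exact this

instance flat_tau (X : Scheme.{u}) (x : X) : Flat (tau X x) := by
  haveI := flat_fromSpecStalk X x
  haveI : Flat (Spec.map (CommRingCat.ofHom (algebraMap (X.presheaf.stalk x)
      (Hsh (X.presheaf.stalk x))))) :=
    Flat.SpecMap_iff.mpr (RingHom.flat_algebraMap_iff.mpr inferInstance)
  rw [tau]
  infer_instance

/-- the strict-henselian probe at a point of an étale `X`-scheme -/
theorem exists_probe {W X : Scheme.{u}} (π : W ⟶ X) [Etale π] (w : W) :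
    ∃ σ : Spec (CommRingCat.of (Hsh (X.presheaf.stalk (π w)))) ⟶ W,
      σ ≫ π = tau X (π w) ∧ σ (closedPoint _) = w ∧
      (∀ r, σ r = w → r = closedPoint _) ∧ (∀ s : W, s ⤳ w → ∃ r, σ r = s) := by
  haveI : IsSepClosed (ResidueField (Hsh (X.presheaf.stalk (π w)))) :=
    (Hensel.IsStrictHenselization.isSepClosure (R := X.presheaf.stalk (π w))
      (S := Hsh (X.presheaf.stalk (π w)))).sep_closed
  obtain ⟨z₀, hz1, hz2⟩ := Scheme.Pullback.exists_preimage_pullback (f := π)
    (g := tau X (π w)) w (closedPoint (Hsh (X.presheaf.stalk (π w))))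
    (tau_closedPoint X (π w)).symm
  obtain ⟨σ₀, hσ1, hσ2⟩ := Groth.Agent.H68.StrictHens.exists_section_through
    (CommRingCat.of (Hsh (X.presheaf.stalk (π w)))) (pullback.snd π (tau X (π w))) z₀ hz2
  have hσπ : (σ₀ ≫ pullback.fst π (tau X (π w))) ≫ π = tau X (π w) := by
    rw [Category.assoc, pullback.condition, ← Category.assoc, hσ1, Category.id_comp]
  refine ⟨σ₀ ≫ pullback.fst π (tau X (π w)), hσπ, ?_, ?_, ?_⟩
  · rw [Scheme.Hom.comp_apply, hσ2, hz1]
  · intro r hr
    apply eq_closedPoint_of_tau_eq X (π w) r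
    rw [← hσπ, Scheme.Hom.comp_apply, hr]
  · intro s hs
    haveI : IsOpenImmersion σ₀ :=
      Groth.Agent.H68.FEtFF.section_isOpenImmersion σ₀ (pullback.snd π (tau X (π w))) hσ1
    have hgen : GeneralizingMap (pullback.fst π (tau X (π w))) := Flat.generalizingMap _
    obtain ⟨z', hz'z₀, hz's⟩ := hgen (a := z₀) (b := s) (by rw [hz1]; exact hs)
    have hmem : z' ∈ Set.range σ₀ :=
      hz'z₀.mem_open σ₀.isOpenEmbedding.isOpen_range ⟨_, hσ2⟩
    obtain ⟨r, rfl⟩ := hmem
    exact ⟨r, by rw [Scheme.Hom.comp_apply, hz's]⟩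

/-- connectedness of the punctured strictly henselian spectrum forbids splitting the proper
generizations of `w` by two closed sets -/
theorem false_of_two_sided {W X : Scheme.{u}} (π : W ⟶ X) [Etale π] (w : W)
    (hconn : ConnectedSpace ↥(FEt.puncturedSpec (Hsh (X.presheaf.stalk (π w))) : Scheme.{u}))
    (C' C'' : Set W) (hC' : IsClosed C') (hC'' : IsClosed C'')
    (hcov : ∀ y : W, y ⤳ w → y ≠ w → y ∈ C' ∨ y ∈ C'')
    (hdisj : ∀ y : W, y ⤳ w → y ≠ w → y ∈ C' → y ∈ C'' → False)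
    (h' : ∃ y, y ⤳ w ∧ y ≠ w ∧ y ∈ C') (h'' : ∃ y, y ⤳ w ∧ y ≠ w ∧ y ∈ C'') : False := by
  obtain ⟨σ, hσπ, hσc, hσw, hσgen⟩ := exists_probe π w
  obtain ⟨Q, hQ⟩ : ∃ Q : (Spec (CommRingCat.of (Hsh (X.presheaf.stalk (π w))))).Opens,
      Q = FEt.puncturedSpec (Hsh (X.presheaf.stalk (π w))) := ⟨_, rfl⟩
  rw [← hQ] at hconn
  have hQmem : ∀ r, r ∈ Q ↔ r ≠ closedPoint (Hsh (X.presheaf.stalk (π w))) := by
    intro r
    rw [hQ]
    rfl
  have hspec : ∀ q : ↥(Q : Scheme.{u}), (Q.ι ≫ σ) q ⤳ w := by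
    intro q
    rw [Scheme.Hom.comp_apply]
    have h2 := (specializes_closedPoint (Q.ι q)).map σ.continuous
    rwa [hσc] at h2
  have hne : ∀ q : ↥(Q : Scheme.{u}), (Q.ι ≫ σ) q ≠ w := by
    intro q hq
    rw [Scheme.Hom.comp_apply] at hq
    have h1 := hσw _ hq
    have h2 : Q.ι q ∈ Q := (Scheme.Opens.range_ι Q).le ⟨q, rfl⟩
    exact (hQmem _).1 h2 h1
  have hA : IsClopen ((Q.ι ≫ σ) ⁻¹' C') := by
    refine ⟨hC'.preimage (Q.ι ≫ σ).continuous, ?_⟩
    have : (Q.ι ≫ σ) ⁻¹' C' = ((Q.ι ≫ σ) ⁻¹' C'')ᶜ := by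
      ext q
      simp only [Set.mem_preimage, Set.mem_compl_iff]
      constructor
      · intro h1 h2
        exact hdisj _ (hspec q) (hne q) h1 h2
      · intro h2
        exact (hcov _ (hspec q) (hne q)).resolve_right h2
    rw [this]
    exact (hC''.preimage (Q.ι ≫ σ).continuous).isOpen_compl
  have hlift : ∀ y : W, y ⤳ w → y ≠ w → ∃ q : ↥(Q : Scheme.{u}), (Q.ι ≫ σ) q = y := by
    intro y hy hyw
    obtain ⟨r, hr⟩ := hσgen y hy
    have hrQ : r ∈ Q := by
      rw [hQmem]
      rintro rfl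
      exact hyw (hr.symm.trans hσc)
    obtain ⟨q, hq⟩ : r ∈ Set.range Q.ι := by rw [Scheme.Opens.range_ι]; exact hrQ
    exact ⟨q, by rw [Scheme.Hom.comp_apply, hq, hr]⟩
  obtain ⟨y', hy', hy'w, hy'C⟩ := h'
  obtain ⟨y'', hy'', hy''w, hy''C⟩ := h''
  obtain ⟨q', hq'⟩ := hlift y' hy' hy'w
  obtain ⟨q'', hq''⟩ := hlift y'' hy'' hy''w
  rcases isClopen_iff.mp hA with h | h
  · have : q' ∈ (Q.ι ≫ σ) ⁻¹' C' := by rw [Set.mem_preimage, hq']; exact hy'C
    rw [h] at this
    exact this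
  · have : q'' ∈ (Q.ι ≫ σ) ⁻¹' C' := by rw [h]; trivial
    rw [Set.mem_preimage, hq''] at this
    exact hdisj y'' hy'' hy''w this hy''C

end Groth.Agent.H68.ConnInf
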