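import Mathlib
import Groth.Prelude.Def_Pi1
import Groth.Agent.H9.FiberStalk
import Groth.Agent.H14.NF.GENL
import Groth.Agent.H14.NF.HGENA

/-!
(HGEN) for helper14's S18352 squad (helper68): for `f : C ⟶ S` with `S` integral and smooth generic
fibre, the localisation of a local ring `O_{C,x}` at a prime lying over `(0)` of `O_{S,f x}` is a
normal domain.
-/

set_option autoImplicit false
universe u
open CategoryTheory CategoryTheory.Limits AlgebraicGeometry

namespace Groth.Agent.H68.NF_HGEN

/-- A generization `s'` of `s` in an integral scheme such that the maximal ideal of `O_{s'}`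
pulls back to `⊥` in `O_s` is the generic point. -/
theorem eq_genericPoint_of_comap_eq_bot {S : Scheme.{u}} [IsIntegral S] {s s' : S} (h : s' ⤳ s)
    (hbot : (IsLocalRing.maximalIdeal (S.presheaf.stalk s')).comap
      (S.presheaf.stalkSpecializes h).hom = ⊥) : s' = genericPoint S := by
  obtain ⟨_, ⟨V, hV, rfl⟩, hsV, -⟩ :=
    S.isBasis_affineOpens.exists_subset_of_mem_open (Set.mem_univ s) isOpen_univ
  have hs'V : s' ∈ V := h.mem_open V.isOpen hsV
  haveI hne : Nonempty V := ⟨⟨s, hsV⟩⟩
  have hηV : genericPoint S ∈ V :=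
    ((genericPoint_spec S).mem_open_set_iff V.isOpen).mpr (by simpa using hne)
  have hloc := hV.isLocalization_stalk ⟨s', hs'V⟩
  have h1 : (hV.primeIdealOf ⟨s', hs'V⟩).asIdeal = ⊥ := by
    letI : Algebra Γ(S, V) (S.presheaf.stalk s') :=
      TopCat.Presheaf.algebra_section_stalk S.presheaf ⟨s', hs'V⟩
    haveI := hloc
    have hu := IsLocalization.AtPrime.under_maximalIdeal (S.presheaf.stalk s')
      (hV.primeIdealOf ⟨s', hs'V⟩).asIdeal
    rw [← hu]
    rw [eq_bot_iff]
    intro a ha
    rw [Ideal.mem_bot]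
    have ha' : (S.presheaf.germ V s' hs'V).hom a ∈ IsLocalRing.maximalIdeal _ := ha
    have hg : (S.presheaf.germ V s' hs'V).hom a =
        (S.presheaf.stalkSpecializes h).hom ((S.presheaf.germ V s hsV).hom a) := by
      rw [← TopCat.Presheaf.germ_stalkSpecializes S.presheaf hsV h]
      rfl
    rw [hg] at ha'
    have h3 : (S.presheaf.germ V s hsV).hom a ∈ (IsLocalRing.maximalIdeal
      (S.presheaf.stalk s')).comap (S.presheaf.stalkSpecializes h).hom := ha'
    rw [hbot, Ideal.mem_bot] at h3
    exact germ_injective_of_isIntegral S s hsV (h3.trans (map_zero _).symm)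
  have h2 : hV.primeIdealOf ⟨s', hs'V⟩ = hV.primeIdealOf ⟨genericPoint S, hηV⟩ := by
    rw [hV.primeIdealOf_genericPoint, genericPoint_eq_bot_of_affine]
    exact PrimeSpectrum.ext h1
  have h4 := congrArg (fun p => hV.fromSpec p) h2
  simpa [hV.fromSpec_primeIdealOf] using h4

theorem maximalIdeal_stalk_eq_bot {S : Scheme.{u}} [IsIntegral S] (s : S)
    (hs : s = genericPoint S) : IsLocalRing.maximalIdeal (S.presheaf.stalk s) = ⊥ := by
  subst hs
  exact IsLocalRing.maximalIdeal_eq_bot (R := S.functionField)

/-- (HGEN) -/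
theorem normal_of_comap_eq_bot {C S : Scheme.{u}} [IsIntegral S] (f : C ⟶ S)
    (hsm : Smooth (f.fiberToSpecResidueField (genericPoint ↥S))) (x : C)
    (q : Ideal (C.presheaf.stalk x)) [q.IsPrime] (hq : q.comap (f.stalkMap x).hom = ⊥) :
    IsDomain (Localization.AtPrime q) ∧ IsIntegrallyClosed (Localization.AtPrime q) := by
  obtain ⟨x', h, hloc⟩ := Groth.Agent.H14.NF.exists_generization_isLocalization x q
  -- `f x'` is the generic point
  have hs : f.base x' = genericPoint S := by
    refine eq_genericPoint_of_comap_eq_bot (f.base.hom.map_specializes h) ?_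
    letI : Algebra (C.presheaf.stalk x) (C.presheaf.stalk x') :=
      (C.presheaf.stalkSpecializes h).hom.toAlgebra
    haveI := hloc
    have hu := IsLocalization.AtPrime.under_maximalIdeal (C.presheaf.stalk x') q
    have hq' : (IsLocalRing.maximalIdeal (C.presheaf.stalk x')).comap
        (C.presheaf.stalkSpecializes h).hom = q := hu
    have hl : (IsLocalRing.maximalIdeal (C.presheaf.stalk x')).comap (f.stalkMap x').hom =
        IsLocalRing.maximalIdeal (S.presheaf.stalk (f.base x')) :=
      ((IsLocalRing.local_hom_TFAE (f.stalkMap x').hom).out 0 4 rfl rfl).mp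
        (inferInstance : IsLocalHom (f.stalkMap x').hom)
    rw [← hl, Ideal.comap_comap, ← CommRingCat.hom_comp, f.stalkSpecializes_stalkMap x' x h,
      CommRingCat.hom_comp, ← Ideal.comap_comap, hq', hq]
  obtain ⟨y, hy⟩ : x' ∈ Set.range (f.fiberι (genericPoint S)) := by
    rw [Scheme.Hom.range_fiberι]
    exact hs
  subst hy
  letI : Algebra (C.presheaf.stalk x) (C.presheaf.stalk ((f.fiberι (genericPoint S)) y)) :=
    (C.presheaf.stalkSpecializes h).hom.toAlgebra
  haveI := hloc
  let e : Localization.AtPrime q ≃ₐ[C.presheaf.stalk x]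
      C.presheaf.stalk ((f.fiberι (genericPoint S)) y) :=
    IsLocalization.algEquiv q.primeCompl _ _
  suffices hx' : IsDomain (C.presheaf.stalk ((f.fiberι (genericPoint S)) y)) ∧
      IsIntegrallyClosed (C.presheaf.stalk ((f.fiberι (genericPoint S)) y)) by
    obtain ⟨h1, h2⟩ := hx'
    haveI := h1
    haveI := h2
    exact ⟨MulEquiv.isDomain (C.presheaf.stalk ((f.fiberι (genericPoint S)) y))
      e.toRingEquiv.toMulEquiv, IsIntegrallyClosed.of_equiv e.symm.toRingEquiv⟩
  -- the local ring of `C` at the point equals the local ring of the generic fibre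
  have hbot : Ideal.map (f.stalkMap ((f.fiberι (genericPoint S)).base y)).hom
      (IsLocalRing.maximalIdeal (S.presheaf.stalk
        (f.base ((f.fiberι (genericPoint S)).base y)))) = ⊥ := by
    rw [maximalIdeal_stalk_eq_bot _ hs, Ideal.map_bot]
  let E : C.presheaf.stalk ((f.fiberι (genericPoint S)).base y) ≃+*
      (f.fiber (genericPoint S)).presheaf.stalk y :=
    ((RingEquiv.quotientBot _).symm.trans (Ideal.quotEquivOfEq hbot.symm)).trans
      (Groth.Agent.H9.fiberStalkEquiv f (genericPoint S) y)
  haveI := hsm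
  obtain ⟨h1, h2⟩ := Groth.Agent.H14.NF.normal_stalk_of_smooth_field (S.residueField (genericPoint S))
    (Field.toIsField _) (f.fiberToSpecResidueField (genericPoint S)) y
  haveI := h1
  haveI := h2
  exact ⟨MulEquiv.isDomain ((f.fiber (genericPoint S)).presheaf.stalk y) E.toMulEquiv,
    IsIntegrallyClosed.of_equiv E.symm⟩

end Groth.Agent.H68.NF_HGEN
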