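import Mathlib

set_option autoImplicit false
universe u

namespace Groth.Agent.H68.PI

open Polynomial in
/-- (K3) the separable extension -/
theorem exists_K3 {K₁ : Type u} [Field K₁] (p : ℕ) (hp : p.Prime) [CharP K₁ p] (ξ ϖ : K₁)
    (hϖ : ϖ ≠ 0) (N : ℕ) :
    ∃ (K₃ : Type u) (_ : Field K₃) (_ : Algebra K₁ K₃) (z : K₃),
      FiniteDimensional K₁ K₃ ∧ Algebra.IsSeparable K₁ K₃ ∧
      z ^ p = algebraMap K₁ K₃ ϖ ^ N * z + algebraMap K₁ K₃ ξ ∧
      Algebra.adjoin K₁ {z} = ⊤ := by
  classical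
  set f : K₁[X] := X ^ p - (C (ϖ ^ N) * X + C ξ) with hf
  have hdeg : (C (ϖ ^ N) * X + C ξ : K₁[X]).degree < (X ^ p : K₁[X]).degree := by
    rw [degree_X_pow]
    refine lt_of_le_of_lt (degree_linear_le) ?_
    exact_mod_cast hp.one_lt
  have hfdeg : f.degree = p := by
    rw [hf, degree_sub_eq_left_of_degree_lt hdeg, degree_X_pow]
  have hpos : 0 < f.degree := by
    rw [hfdeg]; exact_mod_cast hp.pos
  have hsep : f.Separable := by
    rw [separable_def]
    have hder : derivative f = - C (ϖ ^ N) := by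
      rw [hf, derivative_sub, derivative_X_pow, derivative_add, derivative_C, derivative_C_mul,
        derivative_X, CharP.cast_eq_zero, C_0, zero_mul, mul_one, add_zero, zero_sub]
    rw [hder]
    have hu : IsUnit (- C (ϖ ^ N) : K₁[X]) :=
      (isUnit_C.2 (IsUnit.mk0 _ (pow_ne_zero N hϖ))).neg
    obtain ⟨v, hv⟩ := hu.exists_left_inv
    exact ⟨0, v, by rw [zero_mul, zero_add, hv]⟩
  obtain ⟨g, hg, hgf⟩ := exists_irreducible_of_degree_pos hpos
  haveI : Fact (Irreducible g) := ⟨hg⟩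
  have hg0 : g ≠ 0 := hg.ne_zero
  have hgsep : g.Separable := hsep.of_dvd hgf
  have hroot : aeval (AdjoinRoot.root g) f = 0 := by
    obtain ⟨h, hh⟩ := hgf
    rw [hh, map_mul, AdjoinRoot.aeval_eq, AdjoinRoot.mk_self, zero_mul]
  have htop : Algebra.adjoin K₁ ({AdjoinRoot.root g} : Set (AdjoinRoot g)) = ⊤ :=
    AdjoinRoot.adjoinRoot_eq_top
  refine ⟨AdjoinRoot g, inferInstance, inferInstance, AdjoinRoot.root g, ?_, ?_, ?_, htop⟩
  · exact (AdjoinRoot.powerBasis hg0).finite
  · rw [← separableClosure.eq_top_iff]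
    have hz : AdjoinRoot.root g ∈ separableClosure K₁ (AdjoinRoot g) := by
      rw [mem_separableClosure_iff]
      have hmin : minpoly K₁ (AdjoinRoot.root g) ∣ g :=
        minpoly.dvd _ _ (by rw [AdjoinRoot.aeval_eq, AdjoinRoot.mk_self])
      exact hgsep.of_dvd hmin
    have hle : Algebra.adjoin K₁ ({AdjoinRoot.root g} : Set (AdjoinRoot g)) ≤
        (separableClosure K₁ (AdjoinRoot g)).toSubalgebra :=
      Algebra.adjoin_le (by simpa using hz)
    rw [htop] at hle
    exact IntermediateField.toSubalgebra_injective (top_le_iff.1 hle)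
  · have := hroot
    rw [hf, map_sub, map_pow, aeval_X, map_add, map_mul, aeval_C, aeval_C, aeval_X, sub_eq_zero,
      map_pow] at this
    exact this

end Groth.Agent.H68.PI
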