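import Mathlib

set_option autoImplicit false
universe u

namespace Groth.Agent.H68.PI

open TensorProduct

/-- In a reduced Artinian commutative ring every element is von Neumann regular. -/
theorem exists_mul_one_sub_eq_zero' {R : Type*} [CommRing R] [IsArtinianRing R] [IsReduced R]
    (r : R) : ∃ x : R, r * (1 - r * x) = 0 := by
  let f : ℕ →o (Ideal R)ᵒᵈ :=
    ⟨fun n => OrderDual.toDual (Ideal.span {r ^ n}), fun m n hmn => by
      show Ideal.span {r ^ n} ≤ Ideal.span {r ^ m}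
      rw [Ideal.span_singleton_le_span_singleton]
      exact pow_dvd_pow r hmn⟩
  obtain ⟨n, hn⟩ := IsArtinian.monotone_stabilizes f
  have h1 : Ideal.span {r ^ n} = Ideal.span {r ^ (n + 1)} := by
    have := hn (n + 1) (Nat.le_succ n)
    exact congrArg OrderDual.ofDual this
  have h2 : r ^ n ∈ Ideal.span {r ^ (n + 1)} := by
    rw [← h1]; exact Ideal.mem_span_singleton_self _
  obtain ⟨x, hx⟩ := Ideal.mem_span_singleton'.mp h2
  refine ⟨x, ?_⟩
  have h4 : r ^ n * (1 - r * x) = 0 := by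
    have h5 : r ^ n * (1 - r * x) = r ^ n - x * r ^ (n + 1) := by ring
    rw [h5, hx, sub_self]
  have h3 : (r * (1 - r * x)) ^ (n + 1) = 0 := by
    generalize 1 - r * x = y at h4 ⊢
    calc (r * y) ^ (n + 1) = r * y ^ n * (r ^ n * y) := by ring
      _ = 0 := by rw [h4, mul_zero]
  exact IsReduced.eq_zero _ ⟨n + 1, h3⟩

theorem root_not_mem_core (p : ℕ) (hp : p.Prime) (K L : Type u) [Field K] [Field L] [Algebra K L]
    [CharP K p] [Algebra.IsGeometricallyReduced K L] (K₁ K₂ : Type u) [Field K₁] [Field K₂]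
    [Algebra K K₁] [Algebra K K₂] [Algebra K₁ K₂] [IsScalarTower K K₁ K₂] [FiniteDimensional K K₁]
    [FiniteDimensional K₁ K₂]
    (x : K₂) (hx : x ∉ (algebraMap K₁ K₂).range) (hxp : x ^ p ∈ (algebraMap K₁ K₂).range)
    (M : Type u) [Field M] [Algebra K M] [Algebra L M] [Algebra K₂ M] [IsScalarTower K L M]
    [IsScalarTower K K₂ M] :
    algebraMap K₂ M x ∉
      Algebra.adjoin L (Set.range ((algebraMap K₂ M).comp (algebraMap K₁ K₂))) := by
  classical
  intro hmem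
  haveI : Fact p.Prime := ⟨hp⟩
  let g₂ : K₂ →ₐ[K] M := IsScalarTower.toAlgHom K K₂ M
  let g₁ : K₁ →ₐ[K] M := g₂.comp (IsScalarTower.toAlgHom K K₁ K₂)
  let μ₁ : L ⊗[K] K₁ →ₐ[L] M := Algebra.TensorProduct.productLeftAlgHom (Algebra.ofId L M) g₁
  let μ : L ⊗[K] K₂ →ₐ[L] M := Algebra.TensorProduct.productLeftAlgHom (Algebra.ofId L M) g₂
  let ι : L ⊗[K] K₁ →ₐ[L] L ⊗[K] K₂ :=
    Algebra.TensorProduct.map (AlgHom.id L L) (IsScalarTower.toAlgHom K K₁ K₂)
  have hμ₁t : ∀ (l : L) (a : K₁), μ₁ (l ⊗ₜ a) = algebraMap L M l * algebraMap K₂ M (algebraMap K₁ K₂ a) := by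
    intro l a
    simp only [μ₁, Algebra.TensorProduct.lift_tmul]
    rfl
  have hιt : ∀ (l : L) (a : K₁), ι (l ⊗ₜ a) = l ⊗ₜ algebraMap K₁ K₂ a := by
    intro l a
    simp only [ι, Algebra.TensorProduct.map_tmul]
    rfl
  have hle : Algebra.adjoin L (Set.range ((algebraMap K₂ M).comp (algebraMap K₁ K₂))) ≤ μ₁.range := by
    apply Algebra.adjoin_le
    rintro _ ⟨a, rfl⟩
    refine ⟨1 ⊗ₜ a, ?_⟩
    show μ₁ (1 ⊗ₜ a) = _
    rw [hμ₁t, map_one, one_mul]
    rfl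
  obtain ⟨r, hr⟩ := hle hmem
  have hr' : μ₁ r = algebraMap K₂ M x := hr
  obtain ⟨ξ₁, hξ₁⟩ := hxp
  -- the element `c`
  have hμc : μ₁ ((1 : L) ⊗ₜ[K] ξ₁ - r ^ p) = 0 := by
    rw [map_sub, hμ₁t, map_one, one_mul, map_pow, hr', hξ₁, map_pow, sub_self]
  -- instances
  haveI : FiniteDimensional K K₂ := Module.Finite.trans K₁ K₂
  haveI : IsReduced (K₁ ⊗[K] L) := inferInstance
  haveI : IsReduced (K₂ ⊗[K] L) := inferInstance
  haveI hR₁ : IsReduced (L ⊗[K] K₁) :=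
    isReduced_of_injective (Algebra.TensorProduct.comm K L K₁).toAlgHom
      (Algebra.TensorProduct.comm K L K₁).injective
  haveI hT : IsReduced (L ⊗[K] K₂) :=
    isReduced_of_injective (Algebra.TensorProduct.comm K L K₂).toAlgHom
      (Algebra.TensorProduct.comm K L K₂).injective
  haveI : IsArtinianRing (L ⊗[K] K₁) := IsArtinianRing.of_finite L _
  haveI : Nontrivial (L ⊗[K] K₂) := μ.toRingHom.domain_nontrivial
  haveI : CharP (L ⊗[K] K₂) p :=
    charP_of_injective_algebraMap (algebraMap K (L ⊗[K] K₂)).injective p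
  obtain ⟨x', hx'⟩ := exists_mul_one_sub_eq_zero' ((1 : L) ⊗ₜ[K] ξ₁ - r ^ p)
  set c : L ⊗[K] K₁ := (1 : L) ⊗ₜ[K] ξ₁ - r ^ p with hc
  set ε : L ⊗[K] K₁ := 1 - c * x' with hε
  -- the nilpotent element
  have hy : ((1 : L) ⊗ₜ[K] x - ι r) ^ p = ι c := by
    rw [sub_pow_char, Algebra.TensorProduct.tmul_pow, one_pow, ← hξ₁, ← hιt, ← map_pow, ← map_sub]
  have hn : (ι ε * ((1 : L) ⊗ₜ[K] x - ι r)) ^ p = 0 := by
    rw [mul_pow, hy, ← map_pow, ← map_mul]
    have : ε ^ p * c = 0 := by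
      obtain ⟨q, hq⟩ : ∃ q, p = q + 1 := ⟨p - 1, (Nat.succ_pred_eq_of_pos hp.pos).symm⟩
      rw [hq, pow_succ, mul_assoc, mul_comm ε c, hx', mul_zero]
    rw [this, map_zero]
  have hn0 : ι ε * ((1 : L) ⊗ₜ[K] x - ι r) = 0 := IsReduced.eq_zero _ ⟨p, hn⟩
  -- the linear form
  let W : Submodule K₁ K₂ := LinearMap.range (Algebra.linearMap K₁ K₂)
  have hxW : x ∉ W := fun ⟨a, ha⟩ => hx ⟨a, ha⟩
  obtain ⟨lam, hlam0, hlamx⟩ := LinearMap.exists_extend_of_notMem (0 : W →ₗ[K₁] K₁) hxW 1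
  have hlam1 : lam 1 = 0 := by
    have h1W : (1 : K₂) ∈ W := ⟨1, by simp⟩
    have := congrArg (fun f => f ⟨1, h1W⟩) hlam0
    simpa using this
  let Λ : L ⊗[K] K₂ →ₗ[K] L ⊗[K] K₁ := LinearMap.lTensor L (lam.restrictScalars K)
  have hΛt : ∀ (l : L) (b : K₂), Λ (l ⊗ₜ b) = l ⊗ₜ lam b := fun l b => rfl
  have hΛ : ∀ (s : L ⊗[K] K₁) (t : L ⊗[K] K₂), Λ (ι s * t) = s * Λ t := by
    intro s t
    induction s using TensorProduct.induction_on with
    | zero => simp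
    | add s₁ s₂ h₁ h₂ => rw [map_add, add_mul, map_add, h₁, h₂, add_mul]
    | tmul l a =>
      induction t using TensorProduct.induction_on with
      | zero => simp
      | add t₁ t₂ h₁ h₂ => rw [mul_add, map_add, h₁, h₂, map_add, mul_add]
      | tmul l' b =>
        rw [hιt, Algebra.TensorProduct.tmul_mul_tmul, hΛt, hΛt, Algebra.TensorProduct.tmul_mul_tmul,
          ← Algebra.smul_def, map_smul, smul_eq_mul]
  have hΛy : Λ ((1 : L) ⊗ₜ[K] x - ι r) = 1 := by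
    rw [map_sub, hΛt, hlamx]
    have h2 : Λ (ι r) = 0 := by
      have := hΛ r 1
      rw [mul_one] at this
      rw [this, Algebra.TensorProduct.one_def, hΛt, hlam1, tmul_zero, mul_zero]
    rw [h2, sub_zero, Algebra.TensorProduct.one_def]
  have hε0 : ε = 0 := by
    have := hΛ ε ((1 : L) ⊗ₜ[K] x - ι r)
    rw [hn0, map_zero, hΛy, mul_one] at this
    exact this.symm
  have hμε : μ₁ ε = 1 := by
    rw [hε, map_sub, map_one, map_mul, hμc, zero_mul, sub_zero]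
  rw [hε0, map_zero] at hμε
  exact zero_ne_one hμε

end Groth.Agent.H68.PI
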