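import Mathlib
import Groth.Prelude.Def_PBC
import Groth.Prelude.Def_ProEtS
import Groth.Prelude.Def_EtModW
import Groth.Agent.H23.EpsDefs
import Groth.Agent.H23.EpsDefsM
import Groth.Agent.H23.WCDefs
import Groth.Agent.H96.Eps_R
import Groth.Agent.H68.EpsM_SURJ

/-!
# (SEP) for helper23's S0717 squad: the Kan extension presheaf along `eps` is separated on affine
objects of `X_proet` (helper68, port of helper67's H67/Eps_SEP to Λ-modules)
-/

set_option autoImplicit false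
set_option backward.isDefEq.respectTransparency.types false
universe u
open CategoryTheory CategoryTheory.Limits AlgebraicGeometry Opposite
open Groth.Agent.H23.EpsDefs (HasWCCovers LimData)
open Groth.Agent.H23.EpsDefsM Groth.Agent.H23.WCDefs
open Groth.Agent.H68.EpsM_SURJ (map_comp_apply nat_apply)

namespace Groth.Agent.H68.EpsM_SEP

variable (Λ : Type (u + 1)) [CommRing Λ] (X : Scheme.{u})

theorem sepAff (F : EtModW.Mod Λ X) (hR : RepAPI Λ X F.obj) (hB : WCBij Λ X F) (hV : HasWCCovers X) :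
    SepAff Λ X F := by
  intro Q hQ x x' hxx'
  obtain ⟨V, φ, s, rfl⟩ := hR.r1 Q x
  obtain ⟨V', φ', s', rfl⟩ := hR.r1 Q x'
  obtain ⟨Q', q, hQ'a, hQ'wc, hqsurj, -⟩ := hV Q hQ
  -- the two elements agree on `Q'`
  have h1 : ((lanE Λ X F.obj).map (q ≫ φ).op).hom (lanUE Λ X F.obj V s) =
      ((lanE Λ X F.obj).map (q ≫ φ').op).hom (lanUE Λ X F.obj V' s') := by
    apply (hB Q' hQ'a hQ'wc).1
    rw [map_comp_apply (lanE Λ X F.obj) q φ, map_comp_apply (lanE Λ X F.obj) q φ',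
      nat_apply (thetaE Λ X F.obj) q, nat_apply (thetaE Λ X F.obj) q, hxx']
  obtain ⟨V'', ψ, a, a', hψa, hψa', haa'⟩ := hR.r2 Q' (q ≫ φ) (q ≫ φ') s s' h1
  -- the open image of `V''` in the product
  let m : V'' ⟶ V ⨯ V' := prod.lift a a'
  have hmo : IsOpenMap m.left := by
    obtain ⟨hfl, -, hfp⟩ :=
      (AlgebraicGeometry.Etale.iff_flat_and_formallyUnramified (f := m.left)).1 inferInstance
    exact m.left.isOpenMap
  let Ω : (V ⨯ V').left.Opens := ⟨Set.range m.left, hmo.isOpen_range⟩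
  let VΩ : X.Etale := Scheme.Etale.mk (Ω.ι ≫ (V ⨯ V').hom)
  let j : VΩ ⟶ V ⨯ V' := MorphismProperty.Over.homMk Ω.ι
  have hrange : Set.range m.left ⊆ Set.range Ω.ι := by
    rw [Scheme.Opens.range_ι]
    exact subset_rfl
  let a₀l : V''.left ⟶ (Ω : Scheme.{u}) := IsOpenImmersion.lift Ω.ι m.left hrange
  have ha₀l : a₀l ≫ Ω.ι = m.left := IsOpenImmersion.lift_fac _ _ _
  let a₀ : V'' ⟶ VΩ := MorphismProperty.Over.homMk a₀l (by
    show a₀l ≫ (Ω.ι ≫ (V ⨯ V').hom) = V''.hom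
    rw [← Category.assoc, ha₀l]
    exact MorphismProperty.Over.w m)
  have ha₀j : a₀ ≫ j = m := by
    apply MorphismProperty.Over.Hom.ext
    exact ha₀l
  have ha₀surj : Function.Surjective a₀.left := by
    intro y
    have hy : Ω.ι y ∈ Set.range m.left := y.2
    obtain ⟨v, hv⟩ := hy
    refine ⟨v, ?_⟩
    apply Ω.ι.isOpenEmbedding.injective
    show (a₀l ≫ Ω.ι) v = Ω.ι y
    rw [ha₀l]
    exact hv
  have hcovΩ : Sieve.generate (Presieve.singleton a₀) ∈ X.smallEtaleTopology VΩ := by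
    have h1 := (Scheme.ofArrows_mem_smallEtaleTopology_iff (fun _ : PUnit.{1} => a₀)).2 (by
      rw [Set.eq_univ_iff_forall]
      intro y
      obtain ⟨v, hv⟩ := ha₀surj y
      exact Set.mem_iUnion.2 ⟨PUnit.unit, v, hv⟩)
    rw [Sieve.ofArrows, Presieve.ofArrows_pUnit] at h1
    exact h1
  have hF : Presieve.IsSheaf X.smallEtaleTopology (F.obj ⋙ forget (ModuleCat.{u + 1} Λ)) :=
    (isSheaf_iff_isSheaf_of_type _ _).1
      ((Presheaf.isSheaf_iff_isSheaf_forget X.smallEtaleTopology F.obj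
        (forget (ModuleCat.{u + 1} Λ))).1 F.property)
  -- the two sections agree on `VΩ`
  have hsep : (F.obj.map (j ≫ prod.fst).op).hom s = (F.obj.map (j ≫ prod.snd).op).hom s' := by
    refine ((Presieve.isSeparatedFor_iff_generate).2 (hF.isSeparated _ hcovΩ)).ext ?_
    rintro Y f ⟨⟩
    show (F.obj.map a₀.op).hom ((F.obj.map (j ≫ prod.fst).op).hom s) =
      (F.obj.map a₀.op).hom ((F.obj.map (j ≫ prod.snd).op).hom s')
    rw [← map_comp_apply F.obj a₀ (j ≫ prod.fst), ← map_comp_apply F.obj a₀ (j ≫ prod.snd),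
      ← Category.assoc, ← Category.assoc, ha₀j]
    have e1 : m ≫ prod.fst = a := prod.lift_fst a a'
    have e2 : m ≫ prod.snd = a' := prod.lift_snd a a'
    rw [e1, e2]
    exact haa'
  -- the map `Q ⟶ eps (V ⨯ V')` and its factorization through `eps VΩ`
  have hlim : IsLimit (BinaryFan.mk ((ProEtS.eps X).map (prod.fst : V ⨯ V' ⟶ V))
      ((ProEtS.eps X).map (prod.snd : V ⨯ V' ⟶ V'))) :=
    mapIsLimitOfPreservesOfIsLimit (ProEtS.eps X) _ _ (prodIsProd V V')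
  let Φ : Q ⟶ (ProEtS.eps X).obj (V ⨯ V') := hlim.lift (BinaryFan.mk φ φ')
  have hΦ1 : Φ ≫ (ProEtS.eps X).map prod.fst = φ := hlim.fac (BinaryFan.mk φ φ') ⟨WalkingPair.left⟩
  have hΦ2 : Φ ≫ (ProEtS.eps X).map prod.snd = φ' :=
    hlim.fac (BinaryFan.mk φ φ') ⟨WalkingPair.right⟩
  have hqΦ : q ≫ Φ = ψ ≫ (ProEtS.eps X).map m := by
    refine BinaryFan.IsLimit.hom_ext hlim ?_ ?_
    · show (q ≫ Φ) ≫ (ProEtS.eps X).map prod.fst = (ψ ≫ (ProEtS.eps X).map m) ≫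
        (ProEtS.eps X).map prod.fst
      rw [Category.assoc, hΦ1, Category.assoc, ← Functor.map_comp, prod.lift_fst, hψa]
    · show (q ≫ Φ) ≫ (ProEtS.eps X).map prod.snd = (ψ ≫ (ProEtS.eps X).map m) ≫
        (ProEtS.eps X).map prod.snd
      rw [Category.assoc, hΦ2, Category.assoc, ← Functor.map_comp, prod.lift_snd, hψa']
  let Φl : Q.left ⟶ (V ⨯ V').left := Φ.left
  have hΦrange : Set.range Φl ⊆ Set.range Ω.ι := by
    rw [Scheme.Opens.range_ι]
    rintro _ ⟨z, rfl⟩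
    obtain ⟨z', rfl⟩ := hqsurj z
    refine ⟨ψ.left z', ?_⟩
    have e : q.left ≫ Φ.left = ψ.left ≫ m.left := congrArg (fun f => f.left) hqΦ
    have e' : (q.left ≫ Φ.left) z' = (ψ.left ≫ m.left) z' := by
      rw [e]
      rfl
    exact e'.symm
  let Φ₀l : Q.left ⟶ (Ω : Scheme.{u}) := IsOpenImmersion.lift Ω.ι Φl hΦrange
  have hΦ₀l : Φ₀l ≫ Ω.ι = Φl := IsOpenImmersion.lift_fac _ _ _
  let Φ₀ : Q ⟶ (ProEtS.eps X).obj VΩ := MorphismProperty.Over.homMk Φ₀l (by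
    show Φ₀l ≫ (Ω.ι ≫ (V ⨯ V').hom) = Q.hom
    rw [← Category.assoc, hΦ₀l]
    exact MorphismProperty.Over.w Φ)
  have hΦ₀ : Φ₀ ≫ (ProEtS.eps X).map j = Φ := by
    apply MorphismProperty.Over.Hom.ext
    exact hΦ₀l
  have hφ : Φ₀ ≫ (ProEtS.eps X).map (j ≫ prod.fst) = φ := by
    rw [Functor.map_comp, ← Category.assoc, hΦ₀, hΦ1]
  have hφ' : Φ₀ ≫ (ProEtS.eps X).map (j ≫ prod.snd) = φ' := by
    rw [Functor.map_comp, ← Category.assoc, hΦ₀, hΦ2]
  calc ((lanE Λ X F.obj).map φ.op).hom (lanUE Λ X F.obj V s)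
      = ((lanE Λ X F.obj).map (Φ₀ ≫ (ProEtS.eps X).map (j ≫ prod.fst)).op).hom
          (lanUE Λ X F.obj V s) := by rw [hφ]
    _ = ((lanE Λ X F.obj).map Φ₀.op).hom
          (lanUE Λ X F.obj VΩ ((F.obj.map (j ≫ prod.fst).op).hom s)) := by
        rw [map_comp_apply (lanE Λ X F.obj) Φ₀ ((ProEtS.eps X).map (j ≫ prod.fst)), hR.r0]
    _ = ((lanE Λ X F.obj).map Φ₀.op).hom
          (lanUE Λ X F.obj VΩ ((F.obj.map (j ≫ prod.snd).op).hom s')) := by rw [hsep]
    _ = ((lanE Λ X F.obj).map (Φ₀ ≫ (ProEtS.eps X).map (j ≫ prod.snd)).op).hom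
          (lanUE Λ X F.obj V' s') := by
        rw [map_comp_apply (lanE Λ X F.obj) Φ₀ ((ProEtS.eps X).map (j ≫ prod.snd)), hR.r0]
    _ = ((lanE Λ X F.obj).map φ'.op).hom (lanUE Λ X F.obj V' s') := by rw [hφ']

end Groth.Agent.H68.EpsM_SEP
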