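import Mathlib

/-!
Helper lemmas (helper68): points of a fibre product with trivial residue field extension,
and monomorphy of a restriction of a morphism with open-immersion diagonal.
-/

universe u
open AlgebraicGeometry CategoryTheory Limits

namespace Groth.Agent.H68.Unram

open Scheme.Pullback

lemma eq_of_ofPoint_eq {X Y S : Scheme.{u}} {f : X ⟶ S} {g : Y ⟶ S} (z z' : ↑(pullback f g))
    (e : Triplet.ofPoint z = Triplet.ofPoint z')
    (h : Subsingleton (Spec (Triplet.ofPoint z').tensor)) : z = z' := by
  apply (carrierEquiv (f := f) (g := g)).injective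
  exact carrierEquiv_eq_iff.mpr ⟨e, @Subsingleton.elim _ h _ _⟩

lemma subsingleton_tensor {X Y S : Scheme.{u}} {f : X ⟶ S} {g : Y ⟶ S} (T : Triplet f g)
    (h : Function.Surjective (f.residueFieldMap T.x)) : Subsingleton (Spec T.tensor) := by
  have h1 : IsIso (f.residueFieldMap T.x) := by
    rw [ConcreteCategory.isIso_iff_bijective]
    exact ⟨(f.residueFieldMap T.x).hom.injective, h⟩
  have h2 : IsIso ((S.residueFieldCongr T.hx).inv ≫ f.residueFieldMap T.x) := inferInstance
  have h3 : IsIso T.tensorInr := by
    unfold Triplet.tensorInr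
    exact pushout_inr_iso_of_left_iso _ _
  have h5 : IsIso (Spec.map T.tensorInr) := inferInstance
  refine ⟨fun a b => ?_⟩
  apply (Spec.map T.tensorInr).homeomorph.injective
  exact Subsingleton.elim (α := PrimeSpectrum (Y.residueField T.y)) _ _

/-- a point of `X ×_S X` both of whose projections are `x`, where `κ(f x) → κ(x)` is onto,
is the diagonal point. -/
lemma eq_diagonal_of_fst_snd {X S : Scheme.{u}} (f : X ⟶ S) (x : X)
    (hκ : Function.Surjective (f.residueFieldMap x)) (z : ↑(pullback f f))
    (h1 : pullback.fst f f z = x) (h2 : pullback.snd f f z = x) :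
    z = pullback.diagonal f x := by
  have e1 : pullback.fst f f (pullback.diagonal f x) = x := by
    rw [← Scheme.Hom.comp_apply]; simp
  have e2 : pullback.snd f f (pullback.diagonal f x) = x := by
    rw [← Scheme.Hom.comp_apply]; simp
  have e : Triplet.ofPoint z = Triplet.ofPoint (pullback.diagonal f x) := by
    apply Triplet.ext
    · simp only [Triplet.ofPoint_x]; rw [h1, e1]
    · simp only [Triplet.ofPoint_y]; rw [h2, e2]
  have hs : Subsingleton (Spec (Triplet.ofPoint (pullback.diagonal f x)).tensor) := by
    apply subsingleton_tensor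
    have : ∀ y : X, y = x → Function.Surjective (f.residueFieldMap y) := by
      rintro y rfl; exact hκ
    exact this _ e1
  exact eq_of_ofPoint_eq z _ e hs

lemma mono_restrict {X S : Scheme.{u}} (f : X ⟶ S) [IsOpenImmersion (pullback.diagonal f)]
    (U : S.Opens)
    (hU : ∀ z : ↑(pullback f f), (pullback.fst f f ≫ f) z ∈ U →
      z ∈ Set.range (pullback.diagonal f)) :
    Mono (f ∣_ U) := by
  constructor
  intro W a b hab
  have h1 : (a ≫ (f ⁻¹ᵁ U).ι) ≫ f = (b ≫ (f ⁻¹ᵁ U).ι) ≫ f := by
    simp only [Category.assoc, ← morphismRestrict_ι]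
    rw [reassoc_of% hab]
  let c : W ⟶ pullback f f := pullback.lift _ _ h1
  have hc : Set.range c ⊆ Set.range (pullback.diagonal f) := by
    rintro _ ⟨w, rfl⟩
    apply hU
    rw [← Scheme.Hom.comp_apply]
    have : c ≫ pullback.fst f f ≫ f = a ≫ (f ∣_ U) ≫ U.ι := by
      rw [morphismRestrict_ι, pullback.lift_fst_assoc, Category.assoc]
    rw [this, Scheme.Hom.comp_apply, Scheme.Hom.comp_apply, Scheme.Opens.ι_apply]
    exact Subtype.property _
  let l := IsOpenImmersion.lift (pullback.diagonal f) c hc
  have hl : l ≫ pullback.diagonal f = c := IsOpenImmersion.lift_fac _ _ _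
  have ha : a ≫ (f ⁻¹ᵁ U).ι = l := by
    have := congrArg (· ≫ pullback.fst f f) hl
    simp only [Category.assoc, pullback.diagonal_fst, Category.comp_id] at this
    rw [this, pullback.lift_fst]
  have hb : b ≫ (f ⁻¹ᵁ U).ι = l := by
    have := congrArg (· ≫ pullback.snd f f) hl
    simp only [Category.assoc, pullback.diagonal_snd, Category.comp_id] at this
    rw [this, pullback.lift_snd]
  rw [← cancel_mono (f ⁻¹ᵁ U).ι, ha, hb]

/-- The key open set: for `f` finite with open-immersion diagonal, a point `s` whose fibre is the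
single point `x` with trivial residue field extension has an open neighbourhood over which
every point of `X ×_S X` is diagonal. -/
lemma exists_open {X S : Scheme.{u}} (f : X ⟶ S) [IsFinite f]
    [IsOpenImmersion (pullback.diagonal f)] (s : S) (x : X)
    (hfib : ∀ y : X, f y = s → y = x) (hκ : Function.Surjective (f.residueFieldMap x)) :
    ∃ U : S.Opens, s ∈ U ∧ ∀ z : ↑(pullback f f), (pullback.fst f f ≫ f) z ∈ U →
      z ∈ Set.range (pullback.diagonal f) := by
  let g : pullback f f ⟶ S := pullback.fst f f ≫ f
  have hgc : IsClosedMap g := g.isClosedMap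
  let Z : Set ↑(pullback f f) := (Set.range (pullback.diagonal f))ᶜ
  have hZ : IsClosed Z :=
    (pullback.diagonal f).isOpenEmbedding.isOpen_range.isClosed_compl
  have hT : IsClosed (g '' Z) := hgc _ hZ
  refine ⟨⟨(g '' Z)ᶜ, hT.isOpen_compl⟩, ?_, ?_⟩
  · rintro ⟨z, hz, hzs⟩
    apply hz
    have h1 : pullback.fst f f z = x := by
      apply hfib
      rw [← hzs, ← Scheme.Hom.comp_apply]
    have h2 : pullback.snd f f z = x := by
      apply hfib
      rw [← hzs, ← Scheme.Hom.comp_apply, ← pullback.condition]
    exact ⟨x, (eq_diagonal_of_fst_snd f x hκ z h1 h2).symm⟩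
  · intro z hz
    by_contra hcon
    exact hz ⟨z, hcon, rfl⟩

end Groth.Agent.H68.Unram
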