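import Mathlib

/-!
# helper68: the cone presenting `Spec 𝒪_{S,a}` as the limit of the affine open neighbourhoods of `a`
(definitions only; the limit property is `Groth.Agent.H68.StalkLim.isLimit`, a squad piece)
-/

set_option autoImplicit false
universe u
open CategoryTheory CategoryTheory.Limits AlgebraicGeometry Opposite

namespace Groth.Agent.H68.StalkLim

variable (S : Scheme.{u}) (a : S)

/-- Affine open neighbourhoods of `a`, ordered by inclusion. -/
abbrev Nbhd : Type u := {W : S.Opens // IsAffineOpen W ∧ a ∈ W}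

/-- The diagram of the affine open neighbourhoods of `a`. -/
noncomputable def diag : Nbhd S a ⥤ Scheme.{u} where
  obj W := (W.1 : Scheme.{u})
  map {W W'} f := S.homOfLE (leOfHom f)
  map_id W := S.homOfLE_rfl _
  map_comp f g := (S.homOfLE_homOfLE _ _).symm

@[simp] theorem diag_obj (W : Nbhd S a) : (diag S a).obj W = (W.1 : Scheme.{u}) := rfl

@[simp] theorem diag_map {W W' : Nbhd S a} (f : W ⟶ W') :
    (diag S a).map f = S.homOfLE (leOfHom f) := rfl

/-- The cone with point `Spec 𝒪_{S,a}` over the affine open neighbourhoods of `a`. -/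
noncomputable def cone : Cone (diag S a) where
  pt := Spec (S.presheaf.stalk a)
  π :=
    { app := fun W => W.1.fromSpecStalkOfMem a W.2.2
      naturality := fun W W' f => by
        change 𝟙 _ ≫ W'.1.fromSpecStalkOfMem a W'.2.2 =
          W.1.fromSpecStalkOfMem a W.2.2 ≫ S.homOfLE (leOfHom f)
        rw [Category.id_comp, ← cancel_mono W'.1.ι, Category.assoc, Scheme.homOfLE_ι,
          Scheme.Opens.fromSpecStalkOfMem_ι, Scheme.Opens.fromSpecStalkOfMem_ι] }

@[simp] theorem cone_pt : (cone S a).pt = Spec (S.presheaf.stalk a) := rfl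

theorem cone_π_ι (W : Nbhd S a) : (cone S a).π.app W ≫ W.1.ι = S.fromSpecStalk a := by
  simp [cone]

instance (W : Nbhd S a) : IsAffine ((diag S a).obj W) := W.2.1

instance {W W' : Nbhd S a} (f : W ⟶ W') : IsAffineHom ((diag S a).map f) := by
  haveI : IsAffine ((diag S a).obj W) := W.2.1
  haveI : IsAffine ((diag S a).obj W') := W'.2.1
  exact isAffineHom_of_isAffine _

theorem exists_le (V : S.Opens) (ha : a ∈ V) : ∃ W : Nbhd S a, W.1 ≤ V := by
  obtain ⟨W, hW, haW, hWV⟩ := TopologicalSpace.Opens.isBasis_iff_nbhd.mp S.isBasis_affineOpens ha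
  exact ⟨⟨W, hW, haW⟩, hWV⟩

end Groth.Agent.H68.StalkLim
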