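import Mathlib
import Groth.Prelude.Def_Desc
import Groth.Prelude.Def_Mor2
import Groth.Agent.S0079
import Groth.Agent.S0081

set_option autoImplicit false
universe u
open CategoryTheory CategoryTheory.Limits AlgebraicGeometry

namespace Groth.Agent.H68.EtDD

theorem locallyQuasiFinite_of_etale {X Y : Scheme.{u}} (f : X ⟶ Y) [Etale f] :
    LocallyQuasiFinite f := by
  refine ⟨fun {U} hU {V} hV e => ?_⟩
  have h : (f.appLE U V e).hom.Etale := f.etale_appLE hU hV e
  algebraize [(f.appLE U V e).hom]
  show @Algebra.QuasiFinite _ _ _ _ (f.appLE U V e).hom.toAlgebra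
  infer_instance

/-- A quasi-compact separated étale morphism is quasi-affine (Zariski's main theorem). -/
theorem isQuasiAffine_of_etale {X Y : Scheme.{u}} (f : X ⟶ Y) [Etale f] [IsSeparated f]
    [QuasiCompact f] : Mor2.IsQuasiAffine f := by
  refine ⟨inferInstance, fun V hV => ?_⟩
  haveI : LocallyQuasiFinite f := locallyQuasiFinite_of_etale f
  haveI : IsOpenImmersion f.toNormalization := inferInstance
  have hfac : f.toNormalization ≫ f.fromNormalization = f := f.toNormalization_fromNormalization
  have hW : IsAffineOpen (f.fromNormalization ⁻¹ᵁ V) := hV.preimage f.fromNormalization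
  have hEq : f ⁻¹ᵁ V = f.toNormalization ⁻¹ᵁ (f.fromNormalization ⁻¹ᵁ V) := by
    conv_lhs => rw [← hfac]
    rfl
  rw [hEq]
  haveI : IsAffine (↑(f.fromNormalization ⁻¹ᵁ V) : Scheme.{u}) := hW
  have hc : IsCompact ((f.toNormalization ⁻¹ᵁ (f.fromNormalization ⁻¹ᵁ V) : X.Opens) : Set X) := by
    rw [← hEq]
    exact QuasiCompact.isCompact_preimage (f := f) _ V.isOpen hV.isCompact
  haveI : CompactSpace ((f.toNormalization ⁻¹ᵁ (f.fromNormalization ⁻¹ᵁ V) : X.Opens) : Scheme.{u}) :=
    isCompact_iff_compactSpace.mp hc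
  exact Scheme.IsQuasiAffine.of_isImmersion (f.toNormalization ∣_ (f.fromNormalization ⁻¹ᵁ V))

/-- Étale separated quasi-compact descent data are effective along fpqc morphisms, given effectivity
for quasi-affine descent data. -/
theorem main
    (H : ∀ {X S : Scheme.{u}} (p : X ⟶ S) [Surjective p] [Flat p] [QuasiCompact p]
      (D : Desc.SchDD p) (_ : Mor2.IsQuasiAffine D.obj.hom),
      ∃ U : Over S, Nonempty ((Desc.toDD p).obj U ≅ D))
    {S' S : Scheme.{u}} (g : S' ⟶ S) [Flat g] [Surjective g] [QuasiCompact g]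
    (D : Desc.SchDD g) [QuasiCompact D.obj.hom] [IsSeparated D.obj.hom] [Etale D.obj.hom] :
    ∃ U : Over S, QuasiCompact U.hom ∧ IsSeparated U.hom ∧ Etale U.hom ∧
      Nonempty ((Desc.toDD g).obj U ≅ D) := by
  obtain ⟨U, ⟨e⟩⟩ := H g D (isQuasiAffine_of_etale D.obj.hom)
  refine ⟨U, ?_, ?_, ?_, ⟨e⟩⟩
  all_goals
    have h1 : e.hom.hom.left ≫ D.obj.hom = pullback.fst g U.hom := Over.w e.hom.hom
    haveI hiso : IsIso e.hom.hom.left := by
      refine ⟨e.inv.hom.left, ?_, ?_⟩
      · exact congrArg (fun k : (Desc.toDD g).obj U ⟶ (Desc.toDD g).obj U => k.hom.left)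
          e.hom_inv_id
      · exact congrArg (fun k : D ⟶ D => k.hom.left) e.inv_hom_id
    have hQ : (@Surjective ⊓ @Flat ⊓ @QuasiCompact : MorphismProperty Scheme.{u}) g :=
      ⟨⟨inferInstance, inferInstance⟩, inferInstance⟩
  · haveI := Groth.Agent.S0079.result.{u}
    have h2 : QuasiCompact (pullback.fst g U.hom) := by
      rw [← h1]
      exact (MorphismProperty.cancel_left_of_respectsIso @QuasiCompact e.hom.hom.left D.obj.hom).mpr
        inferInstance
    exact MorphismProperty.of_pullback_fst_of_descendsAlong (P := @QuasiCompact) hQ h2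
  · haveI := Groth.Agent.S0081.result.{u}
    have h2 : IsSeparated (pullback.fst g U.hom) := by
      rw [← h1]
      exact (MorphismProperty.cancel_left_of_respectsIso @IsSeparated e.hom.hom.left D.obj.hom).mpr
        inferInstance
    exact MorphismProperty.of_pullback_fst_of_descendsAlong (P := @IsSeparated) hQ h2
  · have h2 : Etale (pullback.fst g U.hom) := by
      rw [← h1]
      exact (MorphismProperty.cancel_left_of_respectsIso @Etale e.hom.hom.left D.obj.hom).mpr
        inferInstance
    exact MorphismProperty.of_pullback_fst_of_descendsAlong (P := @Etale) hQ h2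

end Groth.Agent.H68.EtDD
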