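import Mathlib
import Groth.Agent.H65.EtLocEff
import Groth.Agent.S2906

/-!
# helper68: effectivity of étale separated quasi-compact descent data relative to a universally
submersive morphism can be tested after an fpqc base change (S5122)
-/

set_option autoImplicit false
set_option backward.isDefEq.respectTransparency false
set_option backward.isDefEq.respectTransparency.types false
universe u
open CategoryTheory CategoryTheory.Limits AlgebraicGeometry Opposite Desc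

namespace Groth.Agent.H68.SubmFpqc

open Groth.Agent.H51.DescCrit Groth.Agent.H49

/-- Descent of points of an étale scheme along a universally submersive morphism. -/
theorem sub_desc {T T' B : Scheme.{u}} (π : T' ⟶ T) (hπ : SGA1.UnivSubmersive π) (Y : Over B)
    [Etale Y.hom] (y : T ⟶ B) (t' : T' ⟶ Y.left) (ht' : t' ≫ Y.hom = π ≫ y)
    (hinv : ∀ ⦃Z : Scheme.{u}⦄ (a b : Z ⟶ T'), a ≫ π = b ≫ π → a ≫ t' = b ≫ t') :
    ∃! t : T ⟶ Y.left, t ≫ Y.hom = y ∧ π ≫ t = t' := by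
  let q : pullback Y.hom y ⟶ T := pullback.snd Y.hom y
  let e : pullback (𝟙 T) π ⟶ T' := pullback.snd (𝟙 T) π
  have he : pullback.fst (𝟙 T) π = e ≫ π := by
    have := pullback.condition (f := 𝟙 T) (g := π)
    rwa [Category.comp_id] at this
  have hc : (e ≫ t') ≫ Y.hom = (e ≫ π) ≫ y := by rw [Category.assoc, ht', Category.assoc]
  let f0 : pullback (𝟙 T) π ⟶ pullback Y.hom y := pullback.lift (e ≫ t') (e ≫ π) hc
  have hf0 : f0 ≫ q = e ≫ π := pullback.lift_snd _ _ _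
  have hf0' : f0 ≫ pullback.fst Y.hom y = e ≫ t' := pullback.lift_fst _ _ _
  let f' : pullback (𝟙 T) π ⟶ pullback q π := pullback.lift f0 e hf0
  have hf'1 : f' ≫ pullback.fst q π = f0 := pullback.lift_fst _ _ _
  have hf'2 : f' ≫ pullback.snd q π = pullback.snd (𝟙 T) π := pullback.lift_snd _ _ _
  have hcoc : pullback.map (𝟙 T) (pullback.fst π π ≫ π) (𝟙 T) π (𝟙 T) (pullback.fst π π) (𝟙 T)
        ((Category.comp_id _).trans (Category.id_comp _).symm) (Category.comp_id _) ≫ f' ≫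
          pullback.fst q π =
      pullback.map (𝟙 T) (pullback.fst π π ≫ π) (𝟙 T) π (𝟙 T) (pullback.snd π π) (𝟙 T)
        ((Category.comp_id _).trans (Category.id_comp _).symm)
        ((Category.comp_id _).trans pullback.condition) ≫ f' ≫ pullback.fst q π := by
    rw [hf'1]
    set z₀ := pullback.map (𝟙 T) (pullback.fst π π ≫ π) (𝟙 T) π (𝟙 T) (pullback.fst π π) (𝟙 T)
        ((Category.comp_id _).trans (Category.id_comp _).symm) (Category.comp_id _) with hz₀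
    set z₁ := pullback.map (𝟙 T) (pullback.fst π π ≫ π) (𝟙 T) π (𝟙 T) (pullback.snd π π) (𝟙 T)
        ((Category.comp_id _).trans (Category.id_comp _).symm)
        ((Category.comp_id _).trans pullback.condition) with hz₁
    have z₀s : z₀ ≫ e = pullback.snd _ _ ≫ pullback.fst π π := by
      rw [hz₀, pullback.lift_snd]
    have z₁s : z₁ ≫ e = pullback.snd _ _ ≫ pullback.snd π π := by
      rw [hz₁, pullback.lift_snd]
    apply pullback.hom_ext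
    · rw [Category.assoc, Category.assoc, hf0', ← Category.assoc, ← Category.assoc, z₀s, z₁s]
      exact hinv _ _ (by rw [Category.assoc, Category.assoc, pullback.condition])
    · change (z₀ ≫ f0) ≫ q = (z₁ ≫ f0) ≫ q
      rw [Category.assoc, Category.assoc, hf0, ← Category.assoc, ← Category.assoc, z₀s, z₁s,
        Category.assoc, Category.assoc, pullback.condition]
  obtain ⟨t, ⟨hu1, hu2⟩, huniq⟩ := Groth.Agent.S3709.result π hπ (𝟙 T) q f' hf'2 hcoc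
  refine ⟨t ≫ pullback.fst Y.hom y, ⟨?_, ?_⟩, ?_⟩
  · rw [Category.assoc, pullback.condition, ← Category.assoc]
    change (t ≫ q) ≫ y = y
    rw [hu1, Category.id_comp]
  · rw [← cancel_epi e]
    calc e ≫ π ≫ t ≫ pullback.fst Y.hom y
        = (pullback.fst (𝟙 T) π ≫ t) ≫ pullback.fst Y.hom y := by
          rw [he, Category.assoc, Category.assoc]
      _ = f0 ≫ pullback.fst Y.hom y := by rw [← hu2, hf'1]
      _ = e ≫ t' := hf0'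
  · rintro s ⟨hs1, hs2⟩
    have hs : pullback.lift s (𝟙 T) (by rw [hs1, Category.id_comp]) = t := by
      refine huniq _ ⟨pullback.lift_snd _ _ _, ?_⟩
      rw [hf'1]
      apply pullback.hom_ext
      · rw [hf0', Category.assoc, pullback.lift_fst, he, Category.assoc, hs2]
      · change f0 ≫ q = _
        rw [hf0, Category.assoc, pullback.lift_snd, Category.comp_id, he]
    rw [← hs, pullback.lift_fst]

section Setting

variable {S S' S₁ : Scheme.{u}} (g : S' ⟶ S) (p : S₁ ⟶ S)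
  (D : SchDDFam (fun _ : PUnit.{1} => g))

/-- The base change of `D` along `p`. -/
noncomputable abbrev D₁ : SchDDFam (fun _ : PUnit.{1} => pullback.snd g p) :=
  (pullDDFam (f := fun _ : PUnit.{1} => g) (f' := fun _ : PUnit.{1} => pullback.snd g p)
    (α := id) (p := p) (p' := fun _ => pullback.fst g p) (fun _ => pullback.condition)).obj D

/-- The scheme underlying `D`. -/
abbrev Vo : Over S' := D.obj PUnit.unit

/-- The point of `V ×_{S'} S'₁` with components `v` and `y`. -/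
noncomputable def pt {Z : Scheme.{u}} (v : Z ⟶ (Vo g D).left) (y : Z ⟶ S₁)
    (h : (v ≫ (Vo g D).hom) ≫ g = y ≫ p) : Z ⟶ pullback (Vo g D).hom (pullback.fst g p) :=
  pullback.lift v (pullback.lift (v ≫ (Vo g D).hom) y h) (pullback.lift_fst _ _ _).symm

theorem pt_fst {Z : Scheme.{u}} (v : Z ⟶ (Vo g D).left) (y : Z ⟶ S₁)
    (h : (v ≫ (Vo g D).hom) ≫ g = y ≫ p) :
    pt g p D v y h ≫ pullback.fst (Vo g D).hom (pullback.fst g p) = v :=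
  pullback.lift_fst _ _ _

theorem pt_snd {Z : Scheme.{u}} (v : Z ⟶ (Vo g D).left) (y : Z ⟶ S₁)
    (h : (v ≫ (Vo g D).hom) ≫ g = y ≫ p) :
    pt g p D v y h ≫ pullback.snd (Vo g D).hom (pullback.fst g p) =
      pullback.lift (v ≫ (Vo g D).hom) y h :=
  pullback.lift_snd _ _ _

theorem pt_eta {Z : Scheme.{u}} (l : Z ⟶ pullback (Vo g D).hom (pullback.fst g p)) :
    ∃ h, l = pt g p D (l ≫ pullback.fst _ _) (l ≫ pullback.snd _ _ ≫ pullback.snd g p) h := by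
  have h : ((l ≫ pullback.fst (Vo g D).hom (pullback.fst g p)) ≫ (Vo g D).hom) ≫ g =
      (l ≫ pullback.snd _ _ ≫ pullback.snd g p) ≫ p := by
    calc ((l ≫ pullback.fst (Vo g D).hom (pullback.fst g p)) ≫ (Vo g D).hom) ≫ g
        = l ≫ (pullback.fst (Vo g D).hom (pullback.fst g p) ≫ (Vo g D).hom) ≫ g := by
          simp only [Category.assoc]
      _ = l ≫ (pullback.snd (Vo g D).hom (pullback.fst g p) ≫ pullback.fst g p) ≫ g := by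
          rw [pullback.condition]
      _ = l ≫ pullback.snd (Vo g D).hom (pullback.fst g p) ≫ (pullback.fst g p ≫ g) := by
          simp only [Category.assoc]
      _ = l ≫ pullback.snd (Vo g D).hom (pullback.fst g p) ≫ (pullback.snd g p ≫ p) := by
          rw [pullback.condition]
      _ = _ := by simp only [Category.assoc]
  refine ⟨h, ?_⟩
  apply pullback.hom_ext
  · rw [pt_fst]
  · rw [pt_snd]
    apply pullback.hom_ext
    · rw [pullback.lift_fst, Category.assoc, Category.assoc, pullback.condition]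
    · rw [pullback.lift_snd, Category.assoc]

theorem pt_comp {Z Z' : Scheme.{u}} (c : Z' ⟶ Z) (v : Z ⟶ (Vo g D).left) (y : Z ⟶ S₁)
    (h : (v ≫ (Vo g D).hom) ≫ g = y ≫ p) (h' : ((c ≫ v) ≫ (Vo g D).hom) ≫ g = (c ≫ y) ≫ p) :
    c ≫ pt g p D v y h = pt g p D (c ≫ v) (c ≫ y) h' := by
  apply pullback.hom_ext
  · rw [Category.assoc, pt_fst, pt_fst]
  · rw [Category.assoc, pt_snd, pt_snd]
    apply pullback.hom_ext
    · rw [Category.assoc, pullback.lift_fst, pullback.lift_fst, Category.assoc]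
    · rw [Category.assoc, pullback.lift_snd, pullback.lift_snd]

theorem pt_congr {Z : Scheme.{u}} {v v' : Z ⟶ (Vo g D).left} {y y' : Z ⟶ S₁} (hv : v = v')
    (hy : y = y') (h : (v ≫ (Vo g D).hom) ≫ g = y ≫ p)
    (h' : (v' ≫ (Vo g D).hom) ≫ g = y' ≫ p) : pt g p D v y h = pt g p D v' y' h' := by
  subst hv hy
  rfl

theorem D₁_φ_fst {T : Scheme.{u}} (x₀ x₁ : T ⟶ pullback g p)
    (h : x₀ ≫ pullback.snd g p = x₁ ≫ pullback.snd g p)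
    (v : Lifts ((D₁ g p D).obj PUnit.unit) x₀) :
    ((D₁ g p D).φ (i := PUnit.unit) (j := PUnit.unit) x₀ x₁ h v).1 ≫
        pullback.fst (Vo g D).hom (pullback.fst g p) =
      (D.φ (i := PUnit.unit) (j := PUnit.unit) (x₀ ≫ pullback.fst g p) (x₁ ≫ pullback.fst g p)
        (pull_compat (f := fun _ : PUnit.{1} => g) (f' := fun _ : PUnit.{1} => pullback.snd g p)
          (α := id) (p := p) (p' := fun _ => pullback.fst g p) (fun _ => pullback.condition)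
          (j₀ := PUnit.unit) (j₁ := PUnit.unit) x₀ x₁ h)
        (liftsPullbackEquiv (D.obj PUnit.unit) (pullback.fst g p) x₀ v)).1 :=
  pullback.lift_fst _ _ _

theorem D₁_φ_snd {T : Scheme.{u}} (x₀ x₁ : T ⟶ pullback g p)
    (h : x₀ ≫ pullback.snd g p = x₁ ≫ pullback.snd g p)
    (v : Lifts ((D₁ g p D).obj PUnit.unit) x₀) :
    ((D₁ g p D).φ (i := PUnit.unit) (j := PUnit.unit) x₀ x₁ h v).1 ≫
        pullback.snd (Vo g D).hom (pullback.fst g p) = x₁ :=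
  ((D₁ g p D).φ (i := PUnit.unit) (j := PUnit.unit) x₀ x₁ h v).2

variable (U₁ : Over S₁) (k₁ : ∀ i, ((D₁ g p D).obj i).left ⟶ U₁.left)

/-- The image in `U₁` of the point with components `v` and `y`. -/
noncomputable def K {Z : Scheme.{u}} (v : Z ⟶ (Vo g D).left) (y : Z ⟶ S₁)
    (h : (v ≫ (Vo g D).hom) ≫ g = y ≫ p) : Z ⟶ U₁.left :=
  pt g p D v y h ≫ k₁ PUnit.unit

theorem K_comp {Z Z' : Scheme.{u}} (c : Z' ⟶ Z) (v : Z ⟶ (Vo g D).left) (y : Z ⟶ S₁)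
    (h : (v ≫ (Vo g D).hom) ≫ g = y ≫ p) (h' : ((c ≫ v) ≫ (Vo g D).hom) ≫ g = (c ≫ y) ≫ p) :
    c ≫ K g p D U₁ k₁ v y h = K g p D U₁ k₁ (c ≫ v) (c ≫ y) h' := by
  unfold K
  rw [← Category.assoc, pt_comp g p D c v y h h']

theorem K_congr {Z : Scheme.{u}} {v v' : Z ⟶ (Vo g D).left} {y y' : Z ⟶ S₁} (hv : v = v')
    (hy : y = y') (h : (v ≫ (Vo g D).hom) ≫ g = y ≫ p)
    (h' : (v' ≫ (Vo g D).hom) ≫ g = y' ≫ p) :
    K g p D U₁ k₁ v y h = K g p D U₁ k₁ v' y' h' := by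
  subst hv hy
  rfl

variable (hs₁ : IsSol (D₁ g p D) U₁ k₁)

include hs₁

theorem K_hom {Z : Scheme.{u}} (v : Z ⟶ (Vo g D).left) (y : Z ⟶ S₁)
    (h : (v ≫ (Vo g D).hom) ≫ g = y ≫ p) : K g p D U₁ k₁ v y h ≫ U₁.hom = y := by
  have hw : k₁ PUnit.unit ≫ U₁.hom =
      pullback.snd (Vo g D).hom (pullback.fst g p) ≫ pullback.snd g p := (hs₁.sq PUnit.unit).w
  unfold K
  rw [Category.assoc, hw, ← Category.assoc, pt_snd, pullback.lift_snd]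

theorem exists_pt {Z : Scheme.{u}} (t : Z ⟶ U₁.left) (x : Z ⟶ S') (y : Z ⟶ S₁)
    (ht : t ≫ U₁.hom = y) (hx : x ≫ g = y ≫ p) :
    ∃ (v : Z ⟶ (Vo g D).left) (hv : v ≫ (Vo g D).hom = x),
      K g p D U₁ k₁ v y (by rw [hv, hx]) = t := by
  have hc : t ≫ U₁.hom = pullback.lift x y hx ≫ pullback.snd g p := by
    rw [ht, pullback.lift_snd]
  let l : Z ⟶ pullback (Vo g D).hom (pullback.fst g p) :=
    (hs₁.sq PUnit.unit).lift t (pullback.lift x y hx) hc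
  have hl1 : l ≫ k₁ PUnit.unit = t := (hs₁.sq PUnit.unit).lift_fst _ _ _
  have hl2 : l ≫ pullback.snd (Vo g D).hom (pullback.fst g p) = pullback.lift x y hx :=
    (hs₁.sq PUnit.unit).lift_snd _ _ _
  have hv : (l ≫ pullback.fst (Vo g D).hom (pullback.fst g p)) ≫ (Vo g D).hom = x := by
    rw [Category.assoc, pullback.condition, ← Category.assoc, hl2, pullback.lift_fst]
  refine ⟨l ≫ pullback.fst _ _, hv, ?_⟩
  unfold K
  rw [← hl1]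
  congr 1
  apply pullback.hom_ext
  · rw [pt_fst]
  · rw [pt_snd, hl2]
    apply pullback.hom_ext
    · rw [pullback.lift_fst, pullback.lift_fst, hv]
    · rw [pullback.lift_snd, pullback.lift_snd]

theorem K_inj {Z : Scheme.{u}} (v v' : Z ⟶ (Vo g D).left) (y : Z ⟶ S₁)
    (h : (v ≫ (Vo g D).hom) ≫ g = y ≫ p) (h' : (v' ≫ (Vo g D).hom) ≫ g = y ≫ p)
    (hb : v ≫ (Vo g D).hom = v' ≫ (Vo g D).hom)
    (hK : K g p D U₁ k₁ v y h = K g p D U₁ k₁ v' y h') : v = v' := by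
  have : pt g p D v y h = pt g p D v' y h' := by
    apply (hs₁.sq PUnit.unit).hom_ext
    · exact hK
    · change pt g p D v y h ≫ pullback.snd (Vo g D).hom (pullback.fst g p) =
        pt g p D v' y h' ≫ pullback.snd (Vo g D).hom (pullback.fst g p)
      rw [pt_snd, pt_snd]
      apply pullback.hom_ext
      · rw [pullback.lift_fst, pullback.lift_fst, hb]
      · rw [pullback.lift_snd, pullback.lift_snd]
  rw [← pt_fst g p D v y h, this, pt_fst]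

theorem K_φ {Z : Scheme.{u}} (v : Z ⟶ (Vo g D).left) (x' : Z ⟶ S') (y : Z ⟶ S₁)
    (h : (v ≫ (Vo g D).hom) ≫ g = y ≫ p) (hh : (v ≫ (Vo g D).hom) ≫ g = x' ≫ g)
    (h' : ((D.φ (i := PUnit.unit) (j := PUnit.unit) (v ≫ (Vo g D).hom) x' hh ⟨v, rfl⟩).1 ≫
      (Vo g D).hom) ≫ g = y ≫ p) :
    K g p D U₁ k₁ (D.φ (i := PUnit.unit) (j := PUnit.unit) (v ≫ (Vo g D).hom) x' hh ⟨v, rfl⟩).1
      y h' = K g p D U₁ k₁ v y h := by
  have hx'y : x' ≫ g = y ≫ p := hh.symm.trans h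
  let x₀ : Z ⟶ pullback g p := pullback.lift (v ≫ (Vo g D).hom) y h
  let x₁ : Z ⟶ pullback g p := pullback.lift x' y hx'y
  have hx : x₀ ≫ pullback.snd g p = x₁ ≫ pullback.snd g p := by
    rw [pullback.lift_snd, pullback.lift_snd]
  let v₁ : Lifts ((D₁ g p D).obj PUnit.unit) x₀ := ⟨pt g p D v y h, pt_snd g p D v y h⟩
  have key := hs₁.inv (i := PUnit.unit) (j := PUnit.unit) x₀ x₁ hx v₁
  change _ = pt g p D v y h ≫ k₁ PUnit.unit at key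
  unfold K
  rw [← key]
  congr 1
  set w := D.φ (i := PUnit.unit) (j := PUnit.unit) (v ≫ (Vo g D).hom) x' hh ⟨v, rfl⟩ with hw
  apply pullback.hom_ext
  · rw [pt_fst, D₁_φ_fst]
    exact Groth.Agent.H65.DescLoc2.φ_congr D _ _ (pullback.lift_fst _ _ _).symm
      (pullback.lift_fst _ _ _).symm _ _ (pt_fst g p D v y h).symm
  · rw [pt_snd, D₁_φ_snd]
    apply pullback.hom_ext
    · rw [pullback.lift_fst, pullback.lift_fst]
      exact w.2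
    · rw [pullback.lift_snd, pullback.lift_snd]

end Setting

section Rel

variable {S S' S₁ : Scheme.{u}} (g : S' ⟶ S) (p : S₁ ⟶ S)
  (D : SchDDFam (fun _ : PUnit.{1} => g)) (U₁ : Over S₁)
  (k₁ : ∀ i, ((D₁ g p D).obj i).left ⟶ U₁.left)

theorem hcomp {Z Z' : Scheme.{u}} (c : Z' ⟶ Z) {v : Z ⟶ (Vo g D).left} {y : Z ⟶ S₁}
    (h : (v ≫ (Vo g D).hom) ≫ g = y ≫ p) : ((c ≫ v) ≫ (Vo g D).hom) ≫ g = (c ≫ y) ≫ p := by
  simp only [Category.assoc] at h ⊢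
  rw [h]

/-- The relation between points of `U₁` over `y₀` and over `y₁` defining the descent datum on
`U₁`. -/
def R {T : Scheme.{u}} (y₀ y₁ : T ⟶ S₁) (t t' : T ⟶ U₁.left) : Prop :=
  ∀ ⦃Z : Scheme.{u}⦄ (a : Z ⟶ T) (v : Z ⟶ (Vo g D).left)
    (h₀ : (v ≫ (Vo g D).hom) ≫ g = (a ≫ y₀) ≫ p) (h₁ : (v ≫ (Vo g D).hom) ≫ g = (a ≫ y₁) ≫ p),
    K g p D U₁ k₁ v (a ≫ y₀) h₀ = a ≫ t → K g p D U₁ k₁ v (a ≫ y₁) h₁ = a ≫ t'

theorem R_refl {T : Scheme.{u}} (y : T ⟶ S₁) (t : T ⟶ U₁.left) : R g p D U₁ k₁ y y t t :=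
  fun _ _ _ _ _ e => e

theorem R_trans {T : Scheme.{u}} {y₀ y₁ y₂ : T ⟶ S₁} {t t' t'' : T ⟶ U₁.left}
    (h₀₁ : y₀ ≫ p = y₁ ≫ p) (r : R g p D U₁ k₁ y₀ y₁ t t') (r' : R g p D U₁ k₁ y₁ y₂ t' t'') :
    R g p D U₁ k₁ y₀ y₂ t t'' := by
  intro Z a v h₀ h₂ e
  have h₁ : (v ≫ (Vo g D).hom) ≫ g = (a ≫ y₁) ≫ p := by
    rw [h₀, Category.assoc, Category.assoc, h₀₁]
  exact r' a v h₁ h₂ (r a v h₀ h₁ e)

theorem R_natural {T T' : Scheme.{u}} (c : T' ⟶ T) {y₀ y₁ : T ⟶ S₁} {t t' : T ⟶ U₁.left}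
    (r : R g p D U₁ k₁ y₀ y₁ t t') : R g p D U₁ k₁ (c ≫ y₀) (c ≫ y₁) (c ≫ t) (c ≫ t') := by
  intro Z a v h₀ h₁ e
  have h₀' : (v ≫ (Vo g D).hom) ≫ g = ((a ≫ c) ≫ y₀) ≫ p := by
    rw [h₀]; simp only [Category.assoc]
  have h₁' : (v ≫ (Vo g D).hom) ≫ g = ((a ≫ c) ≫ y₁) ≫ p := by
    rw [h₁]; simp only [Category.assoc]
  have e' : K g p D U₁ k₁ v ((a ≫ c) ≫ y₀) h₀' = (a ≫ c) ≫ t :=
    (K_congr g p D U₁ k₁ rfl (Category.assoc a c y₀) h₀' h₀).trans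
      (e.trans (Category.assoc a c t).symm)
  have := r (a ≫ c) v h₀' h₁' e'
  exact (K_congr g p D U₁ k₁ rfl (Category.assoc a c y₁).symm h₁ h₁').trans
    (this.trans (Category.assoc a c t'))

variable (hs₁ : IsSol (D₁ g p D) U₁ k₁)

include hs₁

theorem R_symm {T : Scheme.{u}} {y₀ y₁ : T ⟶ S₁} {t t' : T ⟶ U₁.left} (ht : t ≫ U₁.hom = y₀)
    (r : R g p D U₁ k₁ y₀ y₁ t t') : R g p D U₁ k₁ y₁ y₀ t' t := by
  intro Z a v h₁ h₀ e
  obtain ⟨v₀, hv₀, e₀⟩ := exists_pt g p D U₁ k₁ hs₁ (a ≫ t) (v ≫ (Vo g D).hom) (a ≫ y₀)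
    (by rw [Category.assoc, ht]) h₀
  have e₁ := r a v₀ (by rw [hv₀]; exact h₀) (by rw [hv₀]; exact h₁) e₀
  have : v₀ = v := K_inj g p D U₁ k₁ hs₁ v₀ v (a ≫ y₁) _ h₁ hv₀ (e₁.trans e.symm)
  subst this
  exact e₀

variable (hg : SGA1.UnivSubmersive g) [Etale U₁.hom]

include hg

theorem R_unique {T : Scheme.{u}} {y₀ y₁ : T ⟶ S₁} {t t' t'' : T ⟶ U₁.left}
    (h : y₀ ≫ p = y₁ ≫ p) (ht : t ≫ U₁.hom = y₀) (ht' : t' ≫ U₁.hom = y₁)
    (ht'' : t'' ≫ U₁.hom = y₁) (r : R g p D U₁ k₁ y₀ y₁ t t') (r' : R g p D U₁ k₁ y₀ y₁ t t'') :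
    t' = t'' := by
  let π := pullback.snd g (y₀ ≫ p)
  let x := pullback.fst g (y₀ ≫ p)
  have hx : x ≫ g = (π ≫ y₀) ≫ p := by rw [Category.assoc]; exact pullback.condition
  obtain ⟨v, hv, e⟩ := exists_pt g p D U₁ k₁ hs₁ (π ≫ t) x (π ≫ y₀)
    (by rw [Category.assoc, ht]) hx
  have h₀ : (v ≫ (Vo g D).hom) ≫ g = (π ≫ y₀) ≫ p := by rw [hv, hx]
  have h₁ : (v ≫ (Vo g D).hom) ≫ g = (π ≫ y₁) ≫ p :=
    h₀.trans ((Category.assoc _ _ _).trans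
      ((congrArg (fun z => π ≫ z) h).trans (Category.assoc _ _ _).symm))
  have e' := r π v h₀ h₁ e
  have e'' := r' π v h₀ h₁ e
  have hπ := Groth.Agent.H65.EtLocEff.univSubmersive_snd g hg (y₀ ≫ p)
  obtain ⟨s, -, hs⟩ := sub_desc π hπ U₁ y₁ (π ≫ t') (by rw [Category.assoc, ht'])
    (fun Z a b hab => by rw [← Category.assoc, ← Category.assoc, hab])
  rw [hs t' ⟨ht', rfl⟩, hs t'' ⟨ht'', e''.symm.trans e'⟩]

theorem R_exists {T : Scheme.{u}} {y₀ y₁ : T ⟶ S₁} (h : y₀ ≫ p = y₁ ≫ p) (t : T ⟶ U₁.left)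
    (ht : t ≫ U₁.hom = y₀) :
    ∃ t' : T ⟶ U₁.left, t' ≫ U₁.hom = y₁ ∧ R g p D U₁ k₁ y₀ y₁ t t' := by
  let π := pullback.snd g (y₀ ≫ p)
  let x := pullback.fst g (y₀ ≫ p)
  have hx : x ≫ g = (π ≫ y₀) ≫ p := by rw [Category.assoc]; exact pullback.condition
  obtain ⟨v, hv, e⟩ := exists_pt g p D U₁ k₁ hs₁ (π ≫ t) x (π ≫ y₀)
    (by rw [Category.assoc, ht]) hx
  have h₀ : (v ≫ (Vo g D).hom) ≫ g = (π ≫ y₀) ≫ p := by rw [hv, hx]
  have h₁ : (v ≫ (Vo g D).hom) ≫ g = (π ≫ y₁) ≫ p :=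
    h₀.trans ((Category.assoc _ _ _).trans
      ((congrArg (fun z => π ≫ z) h).trans (Category.assoc _ _ _).symm))
  have hπ := Groth.Agent.H65.EtLocEff.univSubmersive_snd g hg (y₀ ≫ p)
  have hinv : ∀ ⦃Z : Scheme.{u}⦄ (a b : Z ⟶ pullback g (y₀ ≫ p)), a ≫ π = b ≫ π →
      a ≫ K g p D U₁ k₁ v (π ≫ y₁) h₁ = b ≫ K g p D U₁ k₁ v (π ≫ y₁) h₁ := by
    intro Z a b hab
    have hab' : ∀ y : T ⟶ S₁, a ≫ π ≫ y = b ≫ π ≫ y := fun y => by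
      rw [← Category.assoc, hab, Category.assoc]
    rw [K_comp g p D U₁ k₁ a v (π ≫ y₁) h₁ (hcomp g p D a h₁),
      K_comp g p D U₁ k₁ b v (π ≫ y₁) h₁ (hcomp g p D b h₁)]
    have hh : ((a ≫ v) ≫ (Vo g D).hom) ≫ g = ((b ≫ v) ≫ (Vo g D).hom) ≫ g := by
      rw [hcomp g p D a h₀, hcomp g p D b h₀, hab']
    have hb₀' : ((b ≫ v) ≫ (Vo g D).hom) ≫ g = (a ≫ π ≫ y₀) ≫ p := by
      rw [hcomp g p D b h₀, hab']
    have hb₁' : ((b ≫ v) ≫ (Vo g D).hom) ≫ g = (a ≫ π ≫ y₁) ≫ p := by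
      rw [hcomp g p D b h₁, hab']
    let w := D.φ (i := PUnit.unit) (j := PUnit.unit) ((a ≫ v) ≫ (Vo g D).hom)
      ((b ≫ v) ≫ (Vo g D).hom) hh ⟨a ≫ v, rfl⟩
    have hw₀ : (w.1 ≫ (Vo g D).hom) ≫ g = (a ≫ π ≫ y₀) ≫ p := by rw [w.2]; exact hb₀'
    have hw₁ : (w.1 ≫ (Vo g D).hom) ≫ g = (a ≫ π ≫ y₁) ≫ p := by rw [w.2]; exact hb₁'
    have hwb : w.1 = b ≫ v := by
      refine K_inj g p D U₁ k₁ hs₁ w.1 (b ≫ v) (a ≫ π ≫ y₀) hw₀ hb₀' w.2 ?_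
      refine (K_φ g p D U₁ k₁ hs₁ (a ≫ v) ((b ≫ v) ≫ (Vo g D).hom) (a ≫ π ≫ y₀)
        (hcomp g p D a h₀) hh hw₀).trans ?_
      rw [← K_comp g p D U₁ k₁ a v (π ≫ y₀) h₀ (hcomp g p D a h₀), e]
      have : K g p D U₁ k₁ (b ≫ v) (a ≫ π ≫ y₀) hb₀' = K g p D U₁ k₁ (b ≫ v) (b ≫ π ≫ y₀)
          (hcomp g p D b h₀) := K_congr g p D U₁ k₁ rfl (hab' y₀) _ _
      rw [this, ← K_comp g p D U₁ k₁ b v (π ≫ y₀) h₀ (hcomp g p D b h₀), e,
        ← Category.assoc, hab, Category.assoc]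
    calc K g p D U₁ k₁ (a ≫ v) (a ≫ π ≫ y₁) (hcomp g p D a h₁)
        = K g p D U₁ k₁ w.1 (a ≫ π ≫ y₁) hw₁ :=
          (K_φ g p D U₁ k₁ hs₁ (a ≫ v) ((b ≫ v) ≫ (Vo g D).hom) (a ≫ π ≫ y₁)
            (hcomp g p D a h₁) hh hw₁).symm
      _ = K g p D U₁ k₁ (b ≫ v) (b ≫ π ≫ y₁) (hcomp g p D b h₁) :=
          K_congr g p D U₁ k₁ hwb (hab' y₁) _ _
  obtain ⟨t', ⟨ht'1, ht'2⟩, -⟩ := sub_desc π hπ U₁ y₁ (K g p D U₁ k₁ v (π ≫ y₁) h₁)
    (K_hom g p D U₁ k₁ hs₁ v (π ≫ y₁) h₁) hinv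
  refine ⟨t', ht'1, ?_⟩
  intro Z a v' h₀' h₁' e'
  let c : Z ⟶ pullback g (y₀ ≫ p) := pullback.lift (v' ≫ (Vo g D).hom) a
    (by rw [h₀', Category.assoc])
  have hcπ : c ≫ π = a := pullback.lift_snd _ _ _
  have hcx : c ≫ x = v' ≫ (Vo g D).hom := pullback.lift_fst _ _ _
  have hcπ' : ∀ y : T ⟶ S₁, c ≫ π ≫ y = a ≫ y := fun y => by rw [← Category.assoc, hcπ]
  have hcv : c ≫ v = v' := by
    have hc₀ : ((c ≫ v) ≫ (Vo g D).hom) ≫ g = (a ≫ y₀) ≫ p := by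
      rw [hcomp g p D c h₀, hcπ']
    refine K_inj g p D U₁ k₁ hs₁ (c ≫ v) v' (a ≫ y₀) hc₀ h₀' (by rw [Category.assoc, hv, hcx]) ?_
    rw [e']
    have : K g p D U₁ k₁ (c ≫ v) (a ≫ y₀) hc₀ = K g p D U₁ k₁ (c ≫ v) (c ≫ π ≫ y₀)
        (hcomp g p D c h₀) := K_congr g p D U₁ k₁ rfl (hcπ' y₀).symm _ _
    rw [this, ← K_comp g p D U₁ k₁ c v (π ≫ y₀) h₀ (hcomp g p D c h₀), e, ← Category.assoc, hcπ]
  have : K g p D U₁ k₁ v' (a ≫ y₁) h₁' = K g p D U₁ k₁ (c ≫ v) (c ≫ π ≫ y₁)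
      (hcomp g p D c h₁) := K_congr g p D U₁ k₁ hcv.symm (hcπ' y₁).symm _ _
  rw [this, ← K_comp g p D U₁ k₁ c v (π ≫ y₁) h₁ (hcomp g p D c h₁), ← ht'2, ← Category.assoc,
    hcπ]

end Rel

section Datum

variable {S S' S₁ : Scheme.{u}} (g : S' ⟶ S) (p : S₁ ⟶ S)
  (D : SchDDFam (fun _ : PUnit.{1} => g)) (U₁ : Over S₁)
  (k₁ : ∀ i, ((D₁ g p D).obj i).left ⟶ U₁.left) (hs₁ : IsSol (D₁ g p D) U₁ k₁)
  (hg : SGA1.UnivSubmersive g) [Etale U₁.hom]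

/-- The gluing maps of the descent datum on `U₁` relative to `p`. -/
noncomputable def Φ {T : Scheme.{u}} (y₀ y₁ : T ⟶ S₁) (h : y₀ ≫ p = y₁ ≫ p) (t : Lifts U₁ y₀) :
    Lifts U₁ y₁ :=
  ⟨(R_exists g p D U₁ k₁ hs₁ hg h t.1 t.2).choose,
    (R_exists g p D U₁ k₁ hs₁ hg h t.1 t.2).choose_spec.1⟩

theorem Φ_spec {T : Scheme.{u}} (y₀ y₁ : T ⟶ S₁) (h : y₀ ≫ p = y₁ ≫ p) (t : Lifts U₁ y₀) :
    R g p D U₁ k₁ y₀ y₁ t.1 (Φ g p D U₁ k₁ hs₁ hg y₀ y₁ h t).1 :=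
  (R_exists g p D U₁ k₁ hs₁ hg h t.1 t.2).choose_spec.2

theorem Φ_eq {T : Scheme.{u}} (y₀ y₁ : T ⟶ S₁) (h : y₀ ≫ p = y₁ ≫ p) (t : Lifts U₁ y₀)
    (t' : Lifts U₁ y₁) (r : R g p D U₁ k₁ y₀ y₁ t.1 t'.1) :
    Φ g p D U₁ k₁ hs₁ hg y₀ y₁ h t = t' :=
  Subtype.ext (R_unique g p D U₁ k₁ hs₁ hg h t.2 (Φ g p D U₁ k₁ hs₁ hg y₀ y₁ h t).2 t'.2
    (Φ_spec g p D U₁ k₁ hs₁ hg y₀ y₁ h t) r)

/-- The descent datum on `U₁` relative to `p`. -/
noncomputable def E : SchDD p where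
  obj := U₁
  φ T y₀ y₁ h :=
    { toFun := Φ g p D U₁ k₁ hs₁ hg y₀ y₁ h
      invFun := Φ g p D U₁ k₁ hs₁ hg y₁ y₀ h.symm
      left_inv := fun t => Φ_eq g p D U₁ k₁ hs₁ hg y₁ y₀ h.symm _ t
        (R_symm g p D U₁ k₁ hs₁ t.2 (Φ_spec g p D U₁ k₁ hs₁ hg y₀ y₁ h t))
      right_inv := fun t => Φ_eq g p D U₁ k₁ hs₁ hg y₀ y₁ h _ t
        (R_symm g p D U₁ k₁ hs₁ t.2 (Φ_spec g p D U₁ k₁ hs₁ hg y₁ y₀ h.symm t)) }
  φ_natural T T' c y₀ y₁ h h' v v' hv' := by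
    have hc : (c ≫ (Φ g p D U₁ k₁ hs₁ hg y₀ y₁ h v).1) ≫ U₁.hom = c ≫ y₁ := by
      rw [Category.assoc, (Φ g p D U₁ k₁ hs₁ hg y₀ y₁ h v).2]
    have := Φ_eq g p D U₁ k₁ hs₁ hg (c ≫ y₀) (c ≫ y₁) h' v'
      ⟨c ≫ (Φ g p D U₁ k₁ hs₁ hg y₀ y₁ h v).1, hc⟩ (by
        change R g p D U₁ k₁ (c ≫ y₀) (c ≫ y₁) v'.1 (c ≫ (Φ g p D U₁ k₁ hs₁ hg y₀ y₁ h v).1)
        rw [hv']
        exact R_natural g p D U₁ k₁ c (Φ_spec g p D U₁ k₁ hs₁ hg y₀ y₁ h v))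
    exact congrArg Subtype.val this
  φ_self T y v := Φ_eq g p D U₁ k₁ hs₁ hg y y rfl v v (R_refl g p D U₁ k₁ y v.1)
  φ_comp T y₀ y₁ y₂ h₀₁ h₁₂ v :=
    (Φ_eq g p D U₁ k₁ hs₁ hg y₀ y₂ (h₀₁.trans h₁₂) v _
      (R_trans g p D U₁ k₁ h₀₁ (Φ_spec g p D U₁ k₁ hs₁ hg y₀ y₁ h₀₁ v)
        (Φ_spec g p D U₁ k₁ hs₁ hg y₁ y₂ h₁₂ _))).symm

theorem E_K {Z : Scheme.{u}} (v : Z ⟶ (Vo g D).left) (y₀ y₁ : Z ⟶ S₁)
    (h₀ : (v ≫ (Vo g D).hom) ≫ g = y₀ ≫ p) (h₁ : (v ≫ (Vo g D).hom) ≫ g = y₁ ≫ p)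
    (hh : y₀ ≫ p = y₁ ≫ p) :
    ((E g p D U₁ k₁ hs₁ hg).φ y₀ y₁ hh
      ⟨K g p D U₁ k₁ v y₀ h₀, K_hom g p D U₁ k₁ hs₁ v y₀ h₀⟩).1 = K g p D U₁ k₁ v y₁ h₁ := by
  have r := Φ_spec g p D U₁ k₁ hs₁ hg y₀ y₁ hh
    ⟨K g p D U₁ k₁ v y₀ h₀, K_hom g p D U₁ k₁ hs₁ v y₀ h₀⟩
  have h₀' : (v ≫ (Vo g D).hom) ≫ g = (𝟙 Z ≫ y₀) ≫ p := by rw [Category.id_comp]; exact h₀
  have h₁' : (v ≫ (Vo g D).hom) ≫ g = (𝟙 Z ≫ y₁) ≫ p := by rw [Category.id_comp]; exact h₁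
  have := r (𝟙 Z) v h₀' h₁'
    ((K_congr g p D U₁ k₁ rfl (Category.id_comp y₀) h₀' h₀).trans (Category.id_comp _).symm)
  exact (((K_congr g p D U₁ k₁ rfl (Category.id_comp y₁).symm h₁ h₁').trans this).trans
    (Category.id_comp _)).symm

end Datum

section Final

variable {S S' S₁ : Scheme.{u}} (g : S' ⟶ S) (p : S₁ ⟶ S)
  (D : SchDDFam (fun _ : PUnit.{1} => g)) (U₁ : Over S₁)
  (k₁ : ∀ i, ((D₁ g p D).obj i).left ⟶ U₁.left) (hs₁ : IsSol (D₁ g p D) U₁ k₁)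
  (hg : SGA1.UnivSubmersive g) [Etale U₁.hom]
  (W : Over S) (m : U₁.left ⟶ W.left)
  (hm_sq : IsPullback m U₁.hom W.hom p)
  (hm_inv : ∀ ⦃T : Scheme.{u}⦄ (y₀ y₁ : T ⟶ S₁) (h : y₀ ≫ p = y₁ ≫ p) (t : Lifts U₁ y₀),
    ((E g p D U₁ k₁ hs₁ hg).φ y₀ y₁ h t).1 ≫ m = t.1 ≫ m)

include hm_inv in
theorem Km_indep {Z : Scheme.{u}} (v : Z ⟶ (Vo g D).left) (y₀ y₁ : Z ⟶ S₁)
    (h₀ : (v ≫ (Vo g D).hom) ≫ g = y₀ ≫ p) (h₁ : (v ≫ (Vo g D).hom) ≫ g = y₁ ≫ p) :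
    K g p D U₁ k₁ v y₀ h₀ ≫ m = K g p D U₁ k₁ v y₁ h₁ ≫ m := by
  have hh : y₀ ≫ p = y₁ ≫ p := h₀.symm.trans h₁
  have := hm_inv y₀ y₁ hh ⟨K g p D U₁ k₁ v y₀ h₀, K_hom g p D U₁ k₁ hs₁ v y₀ h₀⟩
  rw [E_K g p D U₁ k₁ hs₁ hg v y₀ y₁ h₀ h₁ hh] at this
  exact this.symm

variable [Flat p] [Surjective p] [QuasiCompact p]

include hm_inv in
theorem desc_cond {Z : Scheme.{u}} (g₁ g₂ : Z ⟶ pullback (Vo g D).hom (pullback.fst g p))
    (h : g₁ ≫ pullback.fst (Vo g D).hom (pullback.fst g p) =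
      g₂ ≫ pullback.fst (Vo g D).hom (pullback.fst g p)) :
    g₁ ≫ k₁ PUnit.unit ≫ m = g₂ ≫ k₁ PUnit.unit ≫ m := by
  obtain ⟨h1, e1⟩ := pt_eta g p D g₁
  obtain ⟨h2, e2⟩ := pt_eta g p D g₂
  have a1 : g₁ ≫ k₁ PUnit.unit = K g p D U₁ k₁ _ _ h1 := by
    unfold K
    rw [← e1]
  have a2 : g₂ ≫ k₁ PUnit.unit = K g p D U₁ k₁ _ _ h2 := by
    unfold K
    rw [← e2]
  rw [← Category.assoc, ← Category.assoc, a1, a2]
  have h2' : ((g₁ ≫ pullback.fst (Vo g D).hom (pullback.fst g p)) ≫ (Vo g D).hom) ≫ g =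
      (g₂ ≫ pullback.snd _ _ ≫ pullback.snd g p) ≫ p := by rw [h]; exact h2
  rw [Km_indep g p D U₁ k₁ hs₁ hg W m hm_inv _ _ _ h1 h2']
  congr 1
  exact K_congr g p D U₁ k₁ h rfl _ _

/-- The quotient map `V ⟶ W`. -/
noncomputable def kq : (Vo g D).left ⟶ W.left :=
  EffectiveEpi.desc (pullback.fst (Vo g D).hom (pullback.fst g p)) (k₁ PUnit.unit ≫ m)
    (fun g₁ g₂ h => desc_cond g p D U₁ k₁ hs₁ hg W m hm_inv g₁ g₂ h)

theorem pr_kq : pullback.fst (Vo g D).hom (pullback.fst g p) ≫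
    kq g p D U₁ k₁ hs₁ hg W m hm_inv = k₁ PUnit.unit ≫ m :=
  EffectiveEpi.fac _ _ _

theorem v_kq {Z : Scheme.{u}} (v : Z ⟶ (Vo g D).left) (y : Z ⟶ S₁)
    (h : (v ≫ (Vo g D).hom) ≫ g = y ≫ p) :
    v ≫ kq g p D U₁ k₁ hs₁ hg W m hm_inv = K g p D U₁ k₁ v y h ≫ m := by
  unfold K
  rw [Category.assoc, ← pr_kq g p D U₁ k₁ hs₁ hg W m hm_inv, ← Category.assoc, pt_fst]

include hm_sq in
theorem kq_hom : kq g p D U₁ k₁ hs₁ hg W m hm_inv ≫ W.hom = (Vo g D).hom ≫ g := by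
  rw [← cancel_epi (pullback.fst (Vo g D).hom (pullback.fst g p)), ← Category.assoc, pr_kq,
    Category.assoc, hm_sq.w]
  have hw : k₁ PUnit.unit ≫ U₁.hom =
      pullback.snd (Vo g D).hom (pullback.fst g p) ≫ pullback.snd g p := (hs₁.sq PUnit.unit).w
  rw [← Category.assoc, hw, Category.assoc, ← pullback.condition, ← Category.assoc,
    ← pullback.condition, Category.assoc]

theorem kq_inv ⦃T : Scheme.{u}⦄ (x₀ x₁ : T ⟶ S') (h : x₀ ≫ g = x₁ ≫ g)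
    (v : Lifts (Vo g D) x₀) :
    (D.φ (i := PUnit.unit) (j := PUnit.unit) x₀ x₁ h v).1 ≫ kq g p D U₁ k₁ hs₁ hg W m hm_inv =
      v.1 ≫ kq g p D U₁ k₁ hs₁ hg W m hm_inv := by
  let c : pullback (x₀ ≫ g) p ⟶ T := pullback.fst (x₀ ≫ g) p
  let y : pullback (x₀ ≫ g) p ⟶ S₁ := pullback.snd (x₀ ≫ g) p
  rw [← cancel_epi c]
  have hcy : (c ≫ x₀) ≫ g = y ≫ p := by rw [Category.assoc]; exact pullback.condition
  have hcv : (c ≫ v.1) ≫ (Vo g D).hom = c ≫ x₀ := by rw [Category.assoc, v.2]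
  have hv0 : ((c ≫ v.1) ≫ (Vo g D).hom) ≫ g = y ≫ p := by
    rw [hcv]; exact hcy
  have hh : ((c ≫ v.1) ≫ (Vo g D).hom) ≫ g = (c ≫ x₁) ≫ g := by
    rw [hcv, Category.assoc, Category.assoc]
    exact congrArg (fun z => c ≫ z) h
  let w := D.φ (i := PUnit.unit) (j := PUnit.unit) ((c ≫ v.1) ≫ (Vo g D).hom) (c ≫ x₁) hh
    ⟨c ≫ v.1, rfl⟩
  have hw0 : (w.1 ≫ (Vo g D).hom) ≫ g = y ≫ p := by rw [w.2, ← hh]; exact hv0
  have hcφ : c ≫ (D.φ (i := PUnit.unit) (j := PUnit.unit) x₀ x₁ h v).1 = w.1 := by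
    have hx0 : c ≫ x₀ = (c ≫ v.1) ≫ (Vo g D).hom := by rw [Category.assoc, v.2]
    have := D.φ_natural c (i := PUnit.unit) (j := PUnit.unit) x₀ x₁ h
      ((c ≫ v.1) ≫ (Vo g D).hom) (c ≫ x₁) hx0 rfl hh v ⟨c ≫ v.1, rfl⟩ rfl
    exact this.symm
  rw [← Category.assoc, hcφ, ← Category.assoc,
    v_kq g p D U₁ k₁ hs₁ hg W m hm_inv w.1 y hw0,
    v_kq g p D U₁ k₁ hs₁ hg W m hm_inv (c ≫ v.1) y hv0]
  congr 1
  exact K_φ g p D U₁ k₁ hs₁ (c ≫ v.1) (c ≫ x₁) y hv0 hh hw0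

include hm_sq in
theorem kq_sq : IsPullback (kq g p D U₁ k₁ hs₁ hg W m hm_inv) (Vo g D).hom W.hom g := by
  set k := kq g p D U₁ k₁ hs₁ hg W m hm_inv with hk
  have hkw : k ≫ W.hom = (Vo g D).hom ≫ g := kq_hom g p D U₁ k₁ hs₁ hg W m hm_sq hm_inv
  let q := pullback.fst g p
  let pr := pullback.fst (Vo g D).hom q
  let θ : (Vo g D).left ⟶ pullback W.hom g := pullback.lift k (Vo g D).hom hkw
  have hθ1 : θ ≫ pullback.fst W.hom g = k := pullback.lift_fst _ _ _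
  have hθ2 : θ ≫ pullback.snd W.hom g = (Vo g D).hom := pullback.lift_snd _ _ _
  let r : pullback (pullback.snd W.hom g) q ⟶ pullback W.hom g := pullback.fst _ _
  have hc1 : (pr ≫ θ) ≫ pullback.snd W.hom g = pullback.snd (Vo g D).hom q ≫ q := by
    rw [Category.assoc, hθ2]; exact pullback.condition
  let θ₁ : pullback (Vo g D).hom q ⟶ pullback (pullback.snd W.hom g) q :=
    pullback.lift (pr ≫ θ) (pullback.snd (Vo g D).hom q) hc1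
  have hθ₁1 : θ₁ ≫ r = pr ≫ θ := pullback.lift_fst _ _ _
  have hθ₁2 : θ₁ ≫ pullback.snd (pullback.snd W.hom g) q = pullback.snd (Vo g D).hom q :=
    pullback.lift_snd _ _ _
  -- the square relating `θ₁` and `θ` is cartesian
  have sqθ : IsPullback θ₁ pr r θ := by
    have big : IsPullback (θ₁ ≫ pullback.snd (pullback.snd W.hom g) q) pr q
        (θ ≫ pullback.snd W.hom g) := by
      rw [hθ₁2, hθ2]
      exact (IsPullback.of_hasPullback (Vo g D).hom q).flip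
    exact IsPullback.of_right big hθ₁1 (IsPullback.of_hasPullback (pullback.snd W.hom g) q).flip
  -- `θ₁` is an isomorphism
  have hV₁ : IsPullback (k₁ PUnit.unit ≫ m) (pullback.snd (Vo g D).hom q) W.hom
      (pullback.snd g p ≫ p) := (hs₁.sq PUnit.unit).paste_horiz hm_sq
  have hP₁ : IsPullback (r ≫ pullback.fst W.hom g) (pullback.snd (pullback.snd W.hom g) q) W.hom
      (q ≫ g) :=
    (IsPullback.of_hasPullback (pullback.snd W.hom g) q).paste_horiz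
      (IsPullback.of_hasPullback W.hom g)
  have hqg : q ≫ g = pullback.snd g p ≫ p := pullback.condition
  rw [hqg] at hP₁
  have hiso : θ₁ = (hV₁.isoIsPullback _ _ hP₁).hom := by
    apply hP₁.hom_ext
    · rw [IsPullback.isoIsPullback_hom_fst, ← Category.assoc, hθ₁1, Category.assoc, hθ1]
      exact pr_kq g p D U₁ k₁ hs₁ hg W m hm_inv
    · rw [IsPullback.isoIsPullback_hom_snd, hθ₁2]
  haveI : IsIso θ₁ := by rw [hiso]; infer_instance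
  have hr : (@Surjective ⊓ @Flat ⊓ @QuasiCompact : MorphismProperty Scheme.{u}) r :=
    ⟨⟨inferInstance, inferInstance⟩, inferInstance⟩
  have hθiso : MorphismProperty.isomorphisms Scheme.{u} θ :=
    MorphismProperty.of_isPullback_of_descendsAlong
      (P := MorphismProperty.isomorphisms Scheme.{u})
      (Q := @Surjective ⊓ @Flat ⊓ @QuasiCompact) sqθ hr (inferInstanceAs (IsIso θ₁))
  haveI : IsIso θ := hθiso
  exact IsPullback.of_iso_pullback ⟨hkw⟩ (asIso θ) hθ1 hθ2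

end Final

section Main

variable {S S' S₁ : Scheme.{u}} (g : S' ⟶ S) (D : SchDDFam (fun _ : PUnit.{1} => g))
  (p : S₁ ⟶ S)

theorem forward (U : Over S) [Etale U.hom] [IsSeparated U.hom] [QuasiCompact U.hom]
    (e : (toDDFam (fun _ : PUnit.{1} => g)).obj U ≅ D) :
    ∃ U' : Over S₁, Etale U'.hom ∧ IsSeparated U'.hom ∧ QuasiCompact U'.hom ∧
      Nonempty ((toDDFam (fun _ : PUnit.{1} => pullback.snd g p)).obj U' ≅ D₁ g p D) := by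
  have hsU := (isSol_canonical (f := fun _ : PUnit.{1} => g) U).of_iso e
  have h2 := IsSol.pull (f' := fun _ : PUnit.{1} => pullback.snd g p) (α := id) (p := p)
    (p' := fun _ => pullback.fst g p) (fun _ => pullback.condition) hsU
  exact ⟨Over.mk (pullback.snd U.hom p), inferInstanceAs (Etale (pullback.snd U.hom p)),
    inferInstanceAs (IsSeparated (pullback.snd U.hom p)),
    inferInstanceAs (QuasiCompact (pullback.snd U.hom p)), h2.nonempty_iso⟩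

theorem backward (hg : SGA1.UnivSubmersive g) [Flat p] [Surjective p] [QuasiCompact p]
    (U₁ : Over S₁) [Etale U₁.hom] [IsSeparated U₁.hom] [QuasiCompact U₁.hom]
    (e₁ : (toDDFam (fun _ : PUnit.{1} => pullback.snd g p)).obj U₁ ≅ D₁ g p D) :
    ∃ U : Over S, Etale U.hom ∧ IsSeparated U.hom ∧ QuasiCompact U.hom ∧
      Nonempty ((toDDFam (fun _ : PUnit.{1} => g)).obj U ≅ D) := by
  have hs₁ := (isSol_canonical (f := fun _ : PUnit.{1} => pullback.snd g p) U₁).of_iso e₁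
  obtain ⟨k₁, hk₁⟩ : ∃ k₁ : ∀ i, ((D₁ g p D).obj i).left ⟶ U₁.left, IsSol (D₁ g p D) U₁ k₁ :=
    ⟨_, hs₁⟩
  let Ed := E g p D U₁ k₁ hk₁ hg
  haveI : QuasiCompact Ed.obj.hom := ‹QuasiCompact U₁.hom›
  haveI : IsSeparated Ed.obj.hom := ‹IsSeparated U₁.hom›
  haveI : Etale Ed.obj.hom := ‹Etale U₁.hom›
  obtain ⟨W, hqc, hsep, het, ⟨e⟩⟩ := Groth.Agent.S2906.result p Ed
  let e' : (toDDFam (fun _ : PUnit.{1} => p)).obj W ≅ (SchDDFam.ofSchDD.{0} p).obj Ed :=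
    (SchDDFam.ofSchDD.{0} p).mapIso e
  have hsE := (isSol_canonical (f := fun _ : PUnit.{1} => p) W).of_iso e'
  obtain ⟨m', hm'⟩ : ∃ m' : ∀ i, (((SchDDFam.ofSchDD.{0} p).obj Ed).obj i).left ⟶ W.left,
      IsSol ((SchDDFam.ofSchDD.{0} p).obj Ed) W m' := ⟨_, hsE⟩
  let m : U₁.left ⟶ W.left := m' PUnit.unit
  have hm_sq : IsPullback m U₁.hom W.hom p := hm'.sq PUnit.unit
  have hm_inv : ∀ ⦃T : Scheme.{u}⦄ (y₀ y₁ : T ⟶ S₁) (h : y₀ ≫ p = y₁ ≫ p) (t : Lifts U₁ y₀),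
      (Ed.φ y₀ y₁ h t).1 ≫ m = t.1 ≫ m :=
    fun T y₀ y₁ h t => hm'.inv (i := PUnit.unit) (j := PUnit.unit) y₀ y₁ h t
  have sol : IsSol D W (fun _ => kq g p D U₁ k₁ hk₁ hg W m hm_inv) :=
    ⟨fun _ => kq_sq g p D U₁ k₁ hk₁ hg W m hm_sq hm_inv,
      fun T i j x₀ x₁ h v => kq_inv g p D U₁ k₁ hk₁ hg W m hm_inv x₀ x₁ h v⟩
  exact ⟨W, het, hsep, hqc, sol.nonempty_iso⟩

end Main

end Groth.Agent.H68.SubmFpqc
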