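import Mathlib
import Groth.Agent.H24.LimBaseChangeS
import Groth.Agent.H68.SubmFpqc

/-!
# helper68: definitions for spreading out solutions of descent problems from a cofiltered limit
to a finite stage (for S5124, S5125, S5126)

`D : J ⥤ Scheme` a diagram over `B` (maps `s j`), `c` a cone with `sInf : c.pt ⟶ B`.
`g : S' ⟶ B`, `𝒟` a descent datum relative to `g` with underlying scheme `V = 𝒟.obj ⟨⟩` over `S'`.

* `dS` : the diagram `j ↦ S' ×_B D j = pullback g (s j)`, cone `cS` with point `pullback g sInf`.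
* `dV` : the diagram `j ↦ V ×_{S'} (S' ×_B D j) = pullback V.hom (pullback.fst g (s j))`: these are
  literally the schemes underlying the pulled back descent data `D₁ g (s j) 𝒟`; cone `cV` with
  point `pullback V.hom (pullback.fst g sInf)`.
* `kst U b hb a` : for `b : V_j ⟶ U` over `B` and `a : j' ⟶ j`, the induced map
  `V_{j'} ⟶ U ×_B D j'`; `kinf U b hb` : the induced map `V_∞ ⟶ U ×_B c.pt`.
-/

set_option autoImplicit false
set_option backward.isDefEq.respectTransparency false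
set_option backward.isDefEq.respectTransparency.types false
universe u
open CategoryTheory CategoryTheory.Limits AlgebraicGeometry Opposite Desc

namespace Groth.Agent.H68.Spread

open Groth.Agent.H51.DescCrit Groth.Agent.H49 Groth.Agent.H24 Groth.Agent.H68.SubmFpqc

variable {J : Type u} [SmallCategory J] (D : J ⥤ Scheme.{u}) {B S' : Scheme.{u}}
  (s : ∀ j, D.obj j ⟶ B) (hs : ∀ {j k : J} (a : j ⟶ k), D.map a ≫ s k = s j)
  (g : S' ⟶ B) (𝒟 : SchDDFam (fun _ : PUnit.{1} => g))

/-- The diagram of the `S' ×_B D j`. -/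
noncomputable abbrev dS : J ⥤ Scheme.{u} := bcDiagram D s hs g

theorem dS_fst {j k : J} (a : j ⟶ k) :
    (dS D s hs g).map a ≫ pullback.fst g (s k) = pullback.fst g (s j) :=
  bcMap_fst D s hs g a

theorem dS_snd {j k : J} (a : j ⟶ k) :
    (dS D s hs g).map a ≫ pullback.snd g (s k) = pullback.snd g (s j) ≫ D.map a :=
  bcMap_snd D s hs g a

/-- The diagram of the schemes underlying the base changes of `𝒟`. -/
noncomputable abbrev dV : J ⥤ Scheme.{u} :=
  bcDiagram (dS D s hs g) (fun j => pullback.fst g (s j)) (fun {_ _} a => dS_fst D s hs g a)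
    (𝒟.obj PUnit.unit).hom

theorem dV_obj (j : J) : (dV D s hs g 𝒟).obj j =
    pullback (𝒟.obj PUnit.unit).hom (pullback.fst g (s j)) := rfl

theorem dV_fst {j k : J} (a : j ⟶ k) :
    (dV D s hs g 𝒟).map a ≫ pullback.fst (𝒟.obj PUnit.unit).hom (pullback.fst g (s k)) =
      pullback.fst (𝒟.obj PUnit.unit).hom (pullback.fst g (s j)) :=
  bcMap_fst (dS D s hs g) (fun j => pullback.fst g (s j)) (fun {_ _} a => dS_fst D s hs g a)
    (𝒟.obj PUnit.unit).hom a

theorem dV_snd {j k : J} (a : j ⟶ k) :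
    (dV D s hs g 𝒟).map a ≫ pullback.snd (𝒟.obj PUnit.unit).hom (pullback.fst g (s k)) =
      pullback.snd (𝒟.obj PUnit.unit).hom (pullback.fst g (s j)) ≫ (dS D s hs g).map a :=
  bcMap_snd (dS D s hs g) (fun j => pullback.fst g (s j)) (fun {_ _} a => dS_fst D s hs g a)
    (𝒟.obj PUnit.unit).hom a

/-- The structure map `V_j ⟶ B`. -/
noncomputable abbrev tV (j : J) : (dV D s hs g 𝒟).obj j ⟶ B :=
  pullback.snd (𝒟.obj PUnit.unit).hom (pullback.fst g (s j)) ≫ pullback.snd g (s j) ≫ s j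

theorem dV_tV {j k : J} (a : j ⟶ k) :
    (dV D s hs g 𝒟).map a ≫ tV D s hs g 𝒟 k = tV D s hs g 𝒟 j := by
  unfold tV
  rw [← Category.assoc, dV_snd, Category.assoc, ← Category.assoc ((dS D s hs g).map a), dS_snd,
    Category.assoc, hs a]

variable (c : Cone D) (sInf : c.pt ⟶ B) (hsInf : ∀ j, c.π.app j ≫ s j = sInf)

/-- The cone over `dS` with point `S' ×_B c.pt`. -/
noncomputable abbrev cS : Cone (dS D s hs g) :=
  bcCone D s hs g c sInf hsInf (pullback.fst g sInf) (pullback.snd g sInf) pullback.condition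

theorem cS_fst (j : J) :
    (cS D s hs g c sInf hsInf).π.app j ≫ pullback.fst g (s j) = pullback.fst g sInf :=
  bcLift_fst D s g c sInf hsInf _ _ pullback.condition j

theorem cS_snd (j : J) :
    (cS D s hs g c sInf hsInf).π.app j ≫ pullback.snd g (s j) =
      pullback.snd g sInf ≫ c.π.app j :=
  bcLift_snd D s g c sInf hsInf _ _ pullback.condition j

/-- The cone over `dV` with point `V ×_{S'} (S' ×_B c.pt)`. -/
noncomputable abbrev cV : Cone (dV D s hs g 𝒟) :=
  bcCone (dS D s hs g) (fun j => pullback.fst g (s j)) (fun {_ _} a => dS_fst D s hs g a)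
    (𝒟.obj PUnit.unit).hom (cS D s hs g c sInf hsInf) (pullback.fst g sInf)
    (fun j => cS_fst D s hs g c sInf hsInf j)
    (pullback.fst (𝒟.obj PUnit.unit).hom (pullback.fst g sInf))
    (pullback.snd (𝒟.obj PUnit.unit).hom (pullback.fst g sInf)) pullback.condition

theorem cV_pt : (cV D s hs g 𝒟 c sInf hsInf).pt =
    pullback (𝒟.obj PUnit.unit).hom (pullback.fst g sInf) := rfl

theorem cV_fst (j : J) :
    (cV D s hs g 𝒟 c sInf hsInf).π.app j ≫
        pullback.fst (𝒟.obj PUnit.unit).hom (pullback.fst g (s j)) =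
      pullback.fst (𝒟.obj PUnit.unit).hom (pullback.fst g sInf) :=
  bcLift_fst (dS D s hs g) (fun j => pullback.fst g (s j)) (𝒟.obj PUnit.unit).hom
    (cS D s hs g c sInf hsInf) (pullback.fst g sInf) (fun j => cS_fst D s hs g c sInf hsInf j)
    _ _ pullback.condition j

theorem cV_snd (j : J) :
    (cV D s hs g 𝒟 c sInf hsInf).π.app j ≫
        pullback.snd (𝒟.obj PUnit.unit).hom (pullback.fst g (s j)) =
      pullback.snd (𝒟.obj PUnit.unit).hom (pullback.fst g sInf) ≫
        (cS D s hs g c sInf hsInf).π.app j :=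
  bcLift_snd (dS D s hs g) (fun j => pullback.fst g (s j)) (𝒟.obj PUnit.unit).hom
    (cS D s hs g c sInf hsInf) (pullback.fst g sInf) (fun j => cS_fst D s hs g c sInf hsInf j)
    _ _ pullback.condition j

/-- The structure map `V_∞ ⟶ B`. -/
noncomputable abbrev tVinf : pullback (𝒟.obj PUnit.unit).hom (pullback.fst g sInf) ⟶ B :=
  pullback.snd (𝒟.obj PUnit.unit).hom (pullback.fst g sInf) ≫ pullback.snd g sInf ≫ sInf

theorem cV_tV (j : J) :
    (cV D s hs g 𝒟 c sInf hsInf).π.app j ≫ tV D s hs g 𝒟 j = tVinf D g 𝒟 c sInf := by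
  unfold tV tVinf
  rw [← Category.assoc, cV_snd, Category.assoc,
    ← Category.assoc ((cS D s hs g c sInf hsInf).π.app j), cS_snd, Category.assoc, hsInf j]

/-- `S' ×_B c.pt` is the limit of the `S' ×_B D j`. -/
noncomputable def isLimitCS [IsCofiltered J] (hc : IsLimit c) :
    IsLimit (cS D s hs g c sInf hsInf) :=
  isLimitBcCone D s hs g c sInf hsInf hc _ _ (IsPullback.of_hasPullback g sInf)

/-- `V_∞` is the limit of the `V_j`. -/
noncomputable def isLimitCV [IsCofiltered J] (hc : IsLimit c) :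
    IsLimit (cV D s hs g 𝒟 c sInf hsInf) :=
  isLimitBcCone (dS D s hs g) (fun j => pullback.fst g (s j)) (fun {_ _} a => dS_fst D s hs g a)
    (𝒟.obj PUnit.unit).hom (cS D s hs g c sInf hsInf) (pullback.fst g sInf)
    (fun j => cS_fst D s hs g c sInf hsInf j) (isLimitCS D s hs g c sInf hsInf hc) _ _
    (IsPullback.of_hasPullback _ _)

variable (U : Over B)

/-- The map `V_{j'} ⟶ U ×_B D j'` induced by `b : V_j ⟶ U` over `B` and `a : j' ⟶ j`. -/
noncomputable def kst {j : J} (b : (dV D s hs g 𝒟).obj j ⟶ U.left)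
    (hb : b ≫ U.hom = tV D s hs g 𝒟 j) {j' : J} (a : j' ⟶ j) :
    (dV D s hs g 𝒟).obj j' ⟶ pullback U.hom (s j') :=
  pullback.lift ((dV D s hs g 𝒟).map a ≫ b)
    (pullback.snd (𝒟.obj PUnit.unit).hom (pullback.fst g (s j')) ≫ pullback.snd g (s j')) (by
      rw [Category.assoc, hb, dV_tV, Category.assoc])

theorem kst_fst {j : J} (b : (dV D s hs g 𝒟).obj j ⟶ U.left)
    (hb : b ≫ U.hom = tV D s hs g 𝒟 j) {j' : J} (a : j' ⟶ j) :
    kst D s hs g 𝒟 U b hb a ≫ pullback.fst U.hom (s j') = (dV D s hs g 𝒟).map a ≫ b :=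
  pullback.lift_fst _ _ _

theorem kst_snd {j : J} (b : (dV D s hs g 𝒟).obj j ⟶ U.left)
    (hb : b ≫ U.hom = tV D s hs g 𝒟 j) {j' : J} (a : j' ⟶ j) :
    kst D s hs g 𝒟 U b hb a ≫ pullback.snd U.hom (s j') =
      pullback.snd (𝒟.obj PUnit.unit).hom (pullback.fst g (s j')) ≫ pullback.snd g (s j') :=
  pullback.lift_snd _ _ _

/-- The map `V_∞ ⟶ U ×_B c.pt` induced by `b : V_j ⟶ U` over `B`. -/
noncomputable def kinf {j : J} (b : (dV D s hs g 𝒟).obj j ⟶ U.left)
    (hb : b ≫ U.hom = tV D s hs g 𝒟 j) :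
    pullback (𝒟.obj PUnit.unit).hom (pullback.fst g sInf) ⟶ pullback U.hom sInf :=
  pullback.lift ((cV D s hs g 𝒟 c sInf hsInf).π.app j ≫ b)
    (pullback.snd (𝒟.obj PUnit.unit).hom (pullback.fst g sInf) ≫ pullback.snd g sInf) (by
      rw [Category.assoc, hb, cV_tV, Category.assoc])

theorem kinf_fst {j : J} (b : (dV D s hs g 𝒟).obj j ⟶ U.left)
    (hb : b ≫ U.hom = tV D s hs g 𝒟 j) :
    kinf D s hs g 𝒟 c sInf hsInf U b hb ≫ pullback.fst U.hom sInf =
      (cV D s hs g 𝒟 c sInf hsInf).π.app j ≫ b :=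
  pullback.lift_fst _ _ _

theorem kinf_snd {j : J} (b : (dV D s hs g 𝒟).obj j ⟶ U.left)
    (hb : b ≫ U.hom = tV D s hs g 𝒟 j) :
    kinf D s hs g 𝒟 c sInf hsInf U b hb ≫ pullback.snd U.hom sInf =
      pullback.snd (𝒟.obj PUnit.unit).hom (pullback.fst g sInf) ≫ pullback.snd g sInf :=
  pullback.lift_snd _ _ _

end Groth.Agent.H68.Spread
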