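import Mathlib
import Groth.Agent.H68.SpreadDefs

/-!
# helper68: (K) a map from the limit `V_∞` to a scheme locally of finite presentation over `B`
factors through a stage
-/

set_option autoImplicit false
set_option backward.isDefEq.respectTransparency false
set_option backward.isDefEq.respectTransparency.types false
universe u
open CategoryTheory CategoryTheory.Limits AlgebraicGeometry Opposite Desc

namespace Groth.Agent.H68.Spread

open Groth.Agent.H51.DescCrit Groth.Agent.H49 Groth.Agent.H24 Groth.Agent.H68.SubmFpqc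

variable {J : Type u} [SmallCategory J] [IsCofiltered J] (D : J ⥤ Scheme.{u})
  [∀ {i j : J} (f : i ⟶ j), IsAffineHom (D.map f)] [∀ i, CompactSpace (D.obj i)]
  [∀ i, QuasiSeparatedSpace (D.obj i)] {B S' : Scheme.{u}}
  (s : ∀ j, D.obj j ⟶ B) (hs : ∀ {j k : J} (a : j ⟶ k), D.map a ≫ s k = s j)
  (g : S' ⟶ B) (𝒟 : SchDDFam (fun _ : PUnit.{1} => g))
  (c : Cone D) (hc : IsLimit c) (sInf : c.pt ⟶ B) (hsInf : ∀ j, c.π.app j ≫ s j = sInf)
  (U : Over B)

theorem compactSpace_dV [QuasiCompact g] [QuasiCompact (𝒟.obj PUnit.unit).hom] (j : J) :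
    CompactSpace ((dV D s hs g 𝒟).obj j) := by
  haveI : CompactSpace ↥(pullback g (s j)) :=
    QuasiCompact.compactSpace_of_compactSpace (pullback.snd g (s j))
  exact QuasiCompact.compactSpace_of_compactSpace
    (pullback.snd (𝒟.obj PUnit.unit).hom (pullback.fst g (s j)))

theorem quasiSeparatedSpace_dV [QuasiSeparated g] [QuasiSeparated (𝒟.obj PUnit.unit).hom]
    (j : J) : QuasiSeparatedSpace ((dV D s hs g 𝒟).obj j) := by
  haveI : QuasiSeparatedSpace ↥(pullback g (s j)) :=
    quasiSeparatedSpace_of_quasiSeparated (pullback.snd g (s j))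
  exact quasiSeparatedSpace_of_quasiSeparated
    (pullback.snd (𝒟.obj PUnit.unit).hom (pullback.fst g (s j)))

theorem isAffineHom_dS {i j : J} (f : i ⟶ j) : IsAffineHom ((dS D s hs g).map f) :=
  MorphismProperty.of_isPullback (P := @IsAffineHom) (isPullback_bcMap D s hs g f).flip
    inferInstance

theorem isAffineHom_dV {i j : J} (f : i ⟶ j) : IsAffineHom ((dV D s hs g 𝒟).map f) :=
  MorphismProperty.of_isPullback (P := @IsAffineHom)
    (isPullback_bcMap (dS D s hs g) (fun j => pullback.fst g (s j))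
      (fun {_ _} a => dS_fst D s hs g a) (𝒟.obj PUnit.unit).hom f).flip
    (isAffineHom_dS D s hs g f)

/-- The structure maps `V_j ⟶ B` as a natural transformation. -/
noncomputable def tVnat : dV D s hs g 𝒟 ⟶ (Functor.const J).obj B where
  app j := tV D s hs g 𝒟 j
  naturality j k a := (dV_tV D s hs g 𝒟 a).trans (Category.comp_id _).symm

include hc in
/-- (K) -/
theorem exists_stage_k [QuasiCompact g] [QuasiSeparated g]
    [QuasiCompact (𝒟.obj PUnit.unit).hom] [QuasiSeparated (𝒟.obj PUnit.unit).hom]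
    [LocallyOfFinitePresentation U.hom]
    (k : pullback (𝒟.obj PUnit.unit).hom (pullback.fst g sInf) ⟶ U.left)
    (hk : k ≫ U.hom = tVinf D g 𝒟 c sInf) :
    ∃ (j : J) (b : (dV D s hs g 𝒟).obj j ⟶ U.left),
      b ≫ U.hom = tV D s hs g 𝒟 j ∧ (cV D s hs g 𝒟 c sInf hsInf).π.app j ≫ b = k := by
  haveI : ∀ {i j : J} (f : i ⟶ j), IsAffineHom ((dV D s hs g 𝒟).map f) :=
    fun f => isAffineHom_dV D s hs g 𝒟 f
  haveI : ∀ j, CompactSpace ((dV D s hs g 𝒟).obj j) := compactSpace_dV D s hs g 𝒟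
  haveI : ∀ j, QuasiSeparatedSpace ((dV D s hs g 𝒟).obj j) := quasiSeparatedSpace_dV D s hs g 𝒟
  obtain ⟨j, b, h1, h2⟩ := Scheme.exists_π_app_comp_eq_of_locallyOfFinitePresentation
    (dV D s hs g 𝒟) (tVnat D s hs g 𝒟) U.hom (cV D s hs g 𝒟 c sInf hsInf)
    (isLimitCV D s hs g 𝒟 c sInf hsInf hc) k (by
      ext j : 2
      change (cV D s hs g 𝒟 c sInf hsInf).π.app j ≫ tV D s hs g 𝒟 j = k ≫ U.hom
      rw [cV_tV, hk])
  exact ⟨j, b, h2, h1⟩

end Groth.Agent.H68.Spread
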