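import Mathlib
import Groth.Agent.H68.SpreadDefs
import Groth.Agent.H68.StalkLimDefs
import Groth.Agent.H68.SpreadK
import Groth.Agent.H10.Spread_D
import Groth.Agent.H10.Spread_B
import Groth.Agent.H11.SpreadC
import Groth.Agent.H59.StalkLimA
import Groth.Agent.H74.Spread_E
import Groth.Agent.H77.Spread_F2

/-!
Glue file (helper68) for S5124-S5126: re-exports, under the names used by `SpreadMain`, the pieces
proved by the squad: (A) helper59, (B),(D) helper10, (C) helper11, (E) helper74, (F) helper77.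
-/

set_option autoImplicit false
set_option backward.isDefEq.respectTransparency false
set_option backward.isDefEq.respectTransparency.types false
universe u
open CategoryTheory CategoryTheory.Limits AlgebraicGeometry Opposite Desc


namespace Groth.Agent.H68.Spread

open Groth.Agent.H51.DescCrit Groth.Agent.H49 Groth.Agent.H24 Groth.Agent.H68.SubmFpqc

/-- (B1) -/
theorem quasiCompact_of_isPullback {X Y X' Y' : Scheme.{u}} {f : X ⟶ Y} {g : Y' ⟶ Y}
    {f' : X' ⟶ Y'} {g' : X' ⟶ X} (h : IsPullback g' f' f g) [Surjective g] [QuasiCompact g]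
    [QuasiCompact f'] : QuasiCompact f :=
  Groth.Agent.H10.Spread_B.quasiCompact_of_isPullback h

/-- (B2) -/
theorem quasiSeparated_of_isPullback {X Y X' Y' : Scheme.{u}} {f : X ⟶ Y} {g : Y' ⟶ Y}
    {f' : X' ⟶ Y'} {g' : X' ⟶ X} (h : IsPullback g' f' f g) [Surjective g] [QuasiCompact g]
    [QuasiSeparated f'] : QuasiSeparated f :=
  Groth.Agent.H10.Spread_B.quasiSeparated_of_isPullback h

/-- (C) -/
theorem isSeparated_of_isPullback {X Y X' Y' : Scheme.{u}} {f : X ⟶ Y} {g : Y' ⟶ Y}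
    {f' : X' ⟶ Y'} {g' : X' ⟶ X} (h : IsPullback g' f' f g) (hg : SGA1.UnivSubmersive g)
    [IsSeparated f'] : IsSeparated f :=
  Groth.Agent.H11.SpreadC.isSeparated_of_isPullback h hg

section

variable {J : Type u} [SmallCategory J] [IsCofiltered J] (D : J ⥤ Scheme.{u})
  [∀ {i j : J} (f : i ⟶ j), IsAffineHom (D.map f)] [∀ i, CompactSpace (D.obj i)]
  [∀ i, QuasiSeparatedSpace (D.obj i)] {B S' : Scheme.{u}}
  (s : ∀ j, D.obj j ⟶ B) (hs : ∀ {j k : J} (a : j ⟶ k), D.map a ≫ s k = s j)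
  (g : S' ⟶ B) (𝒟 : SchDDFam (fun _ : PUnit.{1} => g))
  (c : Cone D) (hc : IsLimit c) (sInf : c.pt ⟶ B) (hsInf : ∀ j, c.π.app j ≫ s j = sInf)
  (U : Over B)

include hs hsInf hc in
/-- (E) -/
theorem exists_stage_inv [QuasiCompact g] [QuasiSeparated g]
    [QuasiCompact (𝒟.obj PUnit.unit).hom] [QuasiSeparated (𝒟.obj PUnit.unit).hom]
    [LocallyOfFiniteType U.hom]
    {j : J} (b : (dV D s hs g 𝒟).obj j ⟶ U.left) (hb : b ≫ U.hom = tV D s hs g 𝒟 j)
    (hinv : ∀ ⦃T : Scheme.{u}⦄ (x₀ x₁ : T ⟶ pullback g sInf)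
      (h : x₀ ≫ pullback.snd g sInf = x₁ ≫ pullback.snd g sInf)
      (v : Lifts ((D₁ g sInf 𝒟).obj PUnit.unit) x₀),
      ((D₁ g sInf 𝒟).φ (i := PUnit.unit) (j := PUnit.unit) x₀ x₁ h v).1 ≫
          (cV D s hs g 𝒟 c sInf hsInf).π.app j ≫ b =
        v.1 ≫ (cV D s hs g 𝒟 c sInf hsInf).π.app j ≫ b) :
    ∃ (j' : J) (a : j' ⟶ j), ∀ (j'' : J) (a' : j'' ⟶ j') ⦃T : Scheme.{u}⦄
      (x₀ x₁ : T ⟶ pullback g (s j''))
      (h : x₀ ≫ pullback.snd g (s j'') = x₁ ≫ pullback.snd g (s j''))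
      (v : Lifts ((D₁ g (s j'') 𝒟).obj PUnit.unit) x₀),
      ((D₁ g (s j'') 𝒟).φ (i := PUnit.unit) (j := PUnit.unit) x₀ x₁ h v).1 ≫
          kst D s hs g 𝒟 U b hb (a' ≫ a) =
        v.1 ≫ kst D s hs g 𝒟 U b hb (a' ≫ a) :=
  Groth.Agent.H74.SpreadE.exists_stage_inv D s hs g 𝒟 c hc sInf hsInf U b hb hinv

include hs hsInf hc in
/-- (F) -/
theorem exists_stage_sq [LocallyOfFinitePresentation g] [QuasiCompact g] [QuasiSeparated g]
    [LocallyOfFinitePresentation (𝒟.obj PUnit.unit).hom]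
    [QuasiCompact (𝒟.obj PUnit.unit).hom] [QuasiSeparated (𝒟.obj PUnit.unit).hom]
    [LocallyOfFinitePresentation U.hom] [QuasiSeparated U.hom]
    {j : J} (b : (dV D s hs g 𝒟).obj j ⟶ U.left) (hb : b ≫ U.hom = tV D s hs g 𝒟 j)
    (hUqc : ∀ j : J, QuasiCompact (pullback.snd U.hom (s j)))
    (hsq : IsPullback (kinf D s hs g 𝒟 c sInf hsInf U b hb)
      (pullback.snd (𝒟.obj PUnit.unit).hom (pullback.fst g sInf))
      (pullback.snd U.hom sInf) (pullback.snd g sInf)) :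
    ∃ (j' : J) (a : j' ⟶ j), IsPullback (kst D s hs g 𝒟 U b hb a)
      (pullback.snd (𝒟.obj PUnit.unit).hom (pullback.fst g (s j')))
      (pullback.snd U.hom (s j')) (pullback.snd g (s j')) :=
  Groth.Agent.H77.Spread_F2.exists_stage_sq' D s hs g 𝒟 c hc sInf hsInf U b hb hUqc hsq

end

end Groth.Agent.H68.Spread
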