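import Mathlib
import Groth.Agent.H68.SpreadGlue
import Groth.Agent.S0591
import Groth.Agent.S9192
import Groth.Agent.S5123

/-!
# helper68: spreading out solutions of étale descent problems (S5124, S5125, S5126)
-/

set_option autoImplicit false
set_option backward.isDefEq.respectTransparency false
set_option backward.isDefEq.respectTransparency.types false
universe u
open CategoryTheory CategoryTheory.Limits AlgebraicGeometry Opposite Desc

namespace Groth.Agent.H68.Spread

open Groth.Agent.H51.DescCrit Groth.Agent.H49 Groth.Agent.H24 Groth.Agent.H68.SubmFpqc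

section SpreadSol

variable {J : Type u} [SmallCategory J] [IsCofiltered J] (D : J ⥤ Scheme.{u})
  [∀ {i j : J} (f : i ⟶ j), IsAffineHom (D.map f)] [∀ i, CompactSpace (D.obj i)]
  [∀ i, QuasiSeparatedSpace (D.obj i)] {B S' : Scheme.{u}}
  (s : ∀ j, D.obj j ⟶ B) (hs : ∀ {j k : J} (a : j ⟶ k), D.map a ≫ s k = s j)
  (g : S' ⟶ B) (𝒟 : SchDDFam (fun _ : PUnit.{1} => g))
  (c : Cone D) (hc : IsLimit c) (sInf : c.pt ⟶ B) (hsInf : ∀ j, c.π.app j ≫ s j = sInf)
  (U : Over B)

include hs hsInf hc in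
/-- A solution of the descent problem over the limit spreads out to a stage. -/
theorem spread_sol [LocallyOfFinitePresentation g] [QuasiCompact g] [QuasiSeparated g]
    [LocallyOfFinitePresentation (𝒟.obj PUnit.unit).hom]
    [QuasiCompact (𝒟.obj PUnit.unit).hom] [QuasiSeparated (𝒟.obj PUnit.unit).hom]
    [LocallyOfFinitePresentation U.hom] [QuasiSeparated U.hom]
    (hUqc : ∀ j : J, QuasiCompact (pullback.snd U.hom (s j)))
    (k : ∀ i, ((D₁ g sInf 𝒟).obj i).left ⟶ pullback U.hom sInf)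
    (hk : IsSol (D₁ g sInf 𝒟) (Over.mk (pullback.snd U.hom sInf)) k) :
    ∃ (j : J) (kj : ∀ i, ((D₁ g (s j) 𝒟).obj i).left ⟶ pullback U.hom (s j)),
      IsSol (D₁ g (s j) 𝒟) (Over.mk (pullback.snd U.hom (s j))) kj := by
  have hw : k PUnit.unit ≫ pullback.snd U.hom sInf =
      pullback.snd (𝒟.obj PUnit.unit).hom (pullback.fst g sInf) ≫ pullback.snd g sInf :=
    (hk.sq PUnit.unit).w
  have hk0 : (k PUnit.unit ≫ pullback.fst U.hom sInf) ≫ U.hom = tVinf D g 𝒟 c sInf := by
    rw [Category.assoc, pullback.condition, ← Category.assoc, hw, Category.assoc]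
  obtain ⟨j, b, hb, hbk⟩ := exists_stage_k D s hs g 𝒟 c hc sInf hsInf U _ hk0
  obtain ⟨j₁, a₁, hinv⟩ := exists_stage_inv D s hs g 𝒟 c hc sInf hsInf U b hb (by
    intro T x₀ x₁ h v
    rw [hbk, ← Category.assoc, ← Category.assoc]
    exact congrArg (fun z => z ≫ pullback.fst U.hom sInf)
      (hk.inv (i := PUnit.unit) (j := PUnit.unit) x₀ x₁ h v))
  have hb₁ : ((dV D s hs g 𝒟).map a₁ ≫ b) ≫ U.hom = tV D s hs g 𝒟 j₁ := by
    rw [Category.assoc, hb, dV_tV]
  have hkinf₁ : kinf D s hs g 𝒟 c sInf hsInf U ((dV D s hs g 𝒟).map a₁ ≫ b) hb₁ =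
      k PUnit.unit := by
    apply pullback.hom_ext
    · rw [kinf_fst, ← Category.assoc, (cV D s hs g 𝒟 c sInf hsInf).w a₁, hbk]
    · rw [kinf_snd, hw]
  obtain ⟨j₂, a₂, hsq⟩ := exists_stage_sq D s hs g 𝒟 c hc sInf hsInf U _ hb₁ hUqc (by
    rw [hkinf₁]; exact hk.sq PUnit.unit)
  have hkst : kst D s hs g 𝒟 U ((dV D s hs g 𝒟).map a₁ ≫ b) hb₁ a₂ =
      kst D s hs g 𝒟 U b hb (a₂ ≫ a₁) := by
    apply pullback.hom_ext
    · rw [kst_fst, kst_fst, Functor.map_comp, Category.assoc]
    · rw [kst_snd, kst_snd]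
  refine ⟨j₂, fun _ => kst D s hs g 𝒟 U b hb (a₂ ≫ a₁), ⟨fun _ => ?_, ?_⟩⟩
  · rw [← hkst]; exact hsq
  · intro T i i' x₀ x₁ h v
    exact hinv j₂ a₂ x₀ x₁ h v

end SpreadSol

section Aux

theorem isPullback_of_comp_mono {C : Type*} [Category C] {P X Y Z Z' : C} {fst : P ⟶ X}
    {snd : P ⟶ Y} {f : X ⟶ Z} {h : Y ⟶ Z} (m : Z ⟶ Z') [Mono m]
    (hp : IsPullback fst snd (f ≫ m) (h ≫ m)) : IsPullback fst snd f h := by
  have w : fst ≫ f = snd ≫ h := by
    rw [← cancel_mono m, Category.assoc, Category.assoc, hp.w]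
  refine ⟨⟨w⟩, ⟨PullbackCone.IsLimit.mk w
    (fun s => hp.lift s.fst s.snd (by
      rw [← Category.assoc, s.condition, Category.assoc]))
    (fun s => hp.lift_fst _ _ _) (fun s => hp.lift_snd _ _ _)
    (fun s l h1 h2 => hp.hom_ext (by rw [h1, hp.lift_fst]) (by rw [h2, hp.lift_snd]))⟩⟩

variable {S : Scheme.{u}} {ι : Type*} {X : ι → Scheme.{u}} {f : ∀ i, X i ⟶ S}

/-- Transport of a solution along an isomorphism of the solving scheme. -/
theorem isSol_of_iso_W {D : SchDDFam f} {W W' : Over S} {k : ∀ i, (D.obj i).left ⟶ W.left}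
    (hs : IsSol D W k) (e : W.left ≅ W'.left) (he : e.hom ≫ W'.hom = W.hom) :
    IsSol D W' (fun i => k i ≫ e.hom) where
  sq i := by
    refine IsPullback.of_iso (hs.sq i) (Iso.refl _) e (Iso.refl _) (Iso.refl _) ?_ ?_ ?_ ?_
    · simp
    · simp
    · simp [he]
    · simp
  inv T i j x₀ x₁ h v := by
    rw [← Category.assoc, hs.inv, Category.assoc]

end Aux

section Comp

variable {S S' : Scheme.{u}} (g : S' ⟶ S) (D : SchDDFam (fun _ : PUnit.{1} => g))

/-- A solution over `T` pulls back to a solution over `T' ⟶ T`. -/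
theorem isSol_comp {T T' : Scheme.{u}} (b : T ⟶ S) (b' : T' ⟶ T) (b'' : T' ⟶ S)
    (hbb : b' ≫ b = b'') (U : Over T) (k : ∀ i, ((D₁ g b D).obj i).left ⟶ U.left)
    (hs : IsSol (D₁ g b D) U k) :
    ∃ k' : ∀ i, ((D₁ g b'' D).obj i).left ⟶ pullback U.hom b',
      IsSol (D₁ g b'' D) (Over.mk (pullback.snd U.hom b')) k' := by
  let p' : pullback g b'' ⟶ pullback g b :=
    pullback.lift (pullback.fst g b'') (pullback.snd g b'' ≫ b') (by
      rw [Category.assoc, hbb, pullback.condition])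
  have w : p' ≫ pullback.snd g b = pullback.snd g b'' ≫ b' := pullback.lift_snd _ _ _
  have hfst : p' ≫ pullback.fst g b = pullback.fst g b'' := pullback.lift_fst _ _ _
  have h2 := IsSol.pull (f := fun _ : PUnit.{1} => pullback.snd g b)
    (f' := fun _ : PUnit.{1} => pullback.snd g b'') (α := id) (p := b')
    (p' := fun _ => p') (fun _ => w) hs
  let G₁ : SchDDFam (fun _ : PUnit.{1} => g) ⥤ SchDDFam (fun _ : PUnit.{1} => pullback.snd g b'') :=
    pullDDFam (f := fun _ : PUnit.{1} => g) (f' := fun _ : PUnit.{1} => pullback.snd g b)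
      (α := id) (p := b) (p' := fun _ => pullback.fst g b) (fun _ => pullback.condition) ⋙
    pullDDFam (f := fun _ : PUnit.{1} => pullback.snd g b)
      (f' := fun _ : PUnit.{1} => pullback.snd g b'') (α := id) (p := b')
      (p' := fun _ => p') (fun _ => w)
  let G₂ : SchDDFam (fun _ : PUnit.{1} => g) ⥤ SchDDFam (fun _ : PUnit.{1} => pullback.snd g b'') :=
    pullDDFam (f := fun _ : PUnit.{1} => g) (f' := fun _ : PUnit.{1} => pullback.snd g b'')
      (α := id) (p := b'') (p' := fun _ => pullback.fst g b'') (fun _ => pullback.condition)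
  let ni : G₁ ≅ G₂ := natIsoOfPtDesc (G := G₁) (G' := G₂)
    ((PtDesc.pull _).comp (PtDesc.pull _)) (PtDesc.pull _) (by
      intro T i x
      change ((x ≫ p') ≫ pullback.fst g b) ≫ g = (x ≫ pullback.fst g b'') ≫ g
      rw [Category.assoc x, hfst])
  exact ⟨_, h2.of_iso (ni.app D)⟩

end Comp

section Stalk

open Groth.Agent.H68.StalkLim

variable {S S' : Scheme.{u}} (g : S' ⟶ S) (hg : SGA1.UnivSubmersive g)
  [LocallyOfFinitePresentation g] [QuasiCompact g] [QuasiSeparated g]
  (D : SchDDFam (fun _ : PUnit.{1} => g)) [Etale (D.obj PUnit.unit).hom]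
  [QuasiCompact (D.obj PUnit.unit).hom] [QuasiSeparated (D.obj PUnit.unit).hom] (a : S)

theorem surjective_of_univSubmersive {X Y : Scheme.{u}} (f : X ⟶ Y) (hf : SGA1.UnivSubmersive f) :
    Surjective f :=
  ⟨(MorphismProperty.universally_le _ _ hf : Topology.IsQuotientMap f.base).surjective⟩

include hg in
/-- S5124, the hard direction: a solution over `Spec 𝒪_{S,a}` spreads out to an open
neighbourhood of `a`. -/
theorem stalk_to_nbhd (Ua : Over (Spec (S.presheaf.stalk a))) [Etale Ua.hom]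
    (e : (toDDFam (fun _ : PUnit.{1} => pullback.snd g (S.fromSpecStalk a))).obj Ua ≅
      D₁ g (S.fromSpecStalk a) D) :
    ∃ W : S.Opens, a ∈ W ∧ ∃ U : Over (W : Scheme.{u}), Etale U.hom ∧
      Nonempty ((toDDFam (fun _ : PUnit.{1} => pullback.snd g W.ι)).obj U ≅ D₁ g W.ι D) := by
  set φ := S.fromSpecStalk a with hφ
  have hsa := (isSol_canonical (f := fun _ : PUnit.{1} => pullback.snd g φ) Ua).of_iso e
  obtain ⟨ka, hka⟩ : ∃ ka : ∀ i, ((D₁ g φ D).obj i).left ⟶ Ua.left, IsSol (D₁ g φ D) Ua ka :=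
    ⟨_, hsa⟩
  -- `Ua` is of finite presentation over the stalk
  haveI : Surjective (pullback.snd g φ) :=
    surjective_of_univSubmersive _ (Groth.Agent.H65.EtLocEff.univSubmersive_snd g hg φ)
  have sqa : IsPullback (ka PUnit.unit)
      (pullback.snd (D.obj PUnit.unit).hom (pullback.fst g φ)) Ua.hom (pullback.snd g φ) :=
    hka.sq PUnit.unit
  haveI : QuasiCompact Ua.hom := quasiCompact_of_isPullback sqa
  haveI : QuasiSeparated Ua.hom := quasiSeparated_of_isPullback sqa
  -- descend `Ua` to a stage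
  haveI : ∀ i : Nbhd S a, CompactSpace ((StalkLim.diag S a).obj i) := fun i => inferInstance
  haveI : ∀ i : Nbhd S a, QuasiSeparatedSpace ((StalkLim.diag S a).obj i) := fun i => inferInstance
  obtain ⟨i₁, U₁, fi, q, hfi1, hfi2, hfi3, hq⟩ :=
    Groth.Agent.S0591.result (StalkLim.diag S a) (cone S a) (isLimit S a) Ua.left Ua.hom
  haveI := hfi1
  haveI := hfi2
  haveI := hfi3
  haveI : CompactSpace U₁ := QuasiCompact.compactSpace_of_compactSpace fi
  haveI : QuasiSeparatedSpace U₁ := quasiSeparatedSpace_of_quasiSeparated fi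
  obtain ⟨i, φ', Xi, Yi, fi', gi, pY, pX, hYi, hXi, hfi'⟩ :=
    Groth.Agent.S9192.result (StalkLim.diag S a) (cone S a) (isLimit S a) i₁ fi (𝟙 _) Ua.hom (𝟙 _)
      ((cone S a).π.app i₁) q (IsPullback.of_vert_isIso ⟨by simp⟩) hq
  haveI := hfi'
  haveI : IsIso gi := hYi.isIso_snd_of_isIso
  have hX₂ : IsPullback pX (fi' ≫ gi) fi ((StalkLim.diag S a).map φ') := by
    have := hXi.paste_vert hYi
    rwa [Category.comp_id] at this
  let U₂ : Over ((StalkLim.diag S a).obj i) := Over.mk (fi' ≫ gi)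
  haveI hU₂et : Etale U₂.hom := inferInstanceAs (Etale (fi' ≫ gi))
  haveI hU₂qc : QuasiCompact U₂.hom :=
    MorphismProperty.of_isPullback (P := @QuasiCompact) hX₂ hfi2
  haveI hU₂qs : QuasiSeparated U₂.hom :=
    MorphismProperty.of_isPullback (P := @QuasiSeparated) hX₂ hfi3
  have hcw : (cone S a).π.app i ≫ (StalkLim.diag S a).map φ' = (cone S a).π.app i₁ := (cone S a).w φ'
  let q₂ : Ua.left ⟶ Xi := hX₂.lift q (Ua.hom ≫ (cone S a).π.app i) (by
    rw [Category.assoc, hcw]; exact hq.w)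
  have hq₂1 : q₂ ≫ pX = q := hX₂.lift_fst _ _ _
  have hq₂2 : q₂ ≫ U₂.hom = Ua.hom ≫ (cone S a).π.app i := hX₂.lift_snd _ _ _
  have hUa : IsPullback q₂ Ua.hom U₂.hom ((cone S a).π.app i) := by
    refine IsPullback.of_right ?_ hq₂2 hX₂
    rw [hq₂1, hcw]
    exact hq
  -- the limit system below `i`, over the base `S`
  let J := Over i
  let D' : J ⥤ Scheme.{u} := Over.forget i ⋙ StalkLim.diag S a
  let c' : Cone D' := (cone S a).whisker (Over.forget i)
  have hc' : IsLimit c' :=
    (Functor.Initial.isLimitWhiskerEquiv (Over.forget i) (cone S a)).symm (isLimit S a)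
  let s' : ∀ j : J, D'.obj j ⟶ S := fun j => j.left.1.ι
  have hs' : ∀ {j k : J} (f : j ⟶ k), D'.map f ≫ s' k = s' j := fun {j k} f =>
    S.homOfLE_ι (leOfHom f.left)
  have hsInf' : ∀ j : J, c'.π.app j ≫ s' j = φ := fun j => cone_π_ι S a j.left
  haveI : ∀ {j k : J} (f : j ⟶ k), IsAffineHom (D'.map f) := fun f =>
    inferInstanceAs (IsAffineHom ((StalkLim.diag S a).map f.left))
  haveI : ∀ j : J, CompactSpace (D'.obj j) := fun j =>
    inferInstanceAs (CompactSpace ((StalkLim.diag S a).obj j.left))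
  haveI : ∀ j : J, QuasiSeparatedSpace (D'.obj j) := fun j =>
    inferInstanceAs (QuasiSeparatedSpace ((StalkLim.diag S a).obj j.left))
  let U : Over S := Over.mk (U₂.hom ≫ i.1.ι)
  haveI : Etale U.hom := inferInstanceAs (Etale (U₂.hom ≫ i.1.ι))
  haveI : QuasiSeparated U.hom := inferInstanceAs (QuasiSeparated (U₂.hom ≫ i.1.ι))
  have hUqc : ∀ j : J, QuasiCompact (pullback.snd U.hom (s' j)) := by
    intro j
    have hle : j.left.1 ≤ i.1 := leOfHom j.hom
    have hp : IsPullback (pullback.fst U.hom (s' j)) (pullback.snd U.hom (s' j))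
        (U₂.hom ≫ i.1.ι) (S.homOfLE hle ≫ i.1.ι) := by
      rw [S.homOfLE_ι]
      exact IsPullback.of_hasPullback _ _
    exact MorphismProperty.of_isPullback (P := @QuasiCompact)
      (isPullback_of_comp_mono i.1.ι hp) hU₂qc
  -- the solution over the limit in the required form
  have hpI : IsPullback (pullback.fst U.hom φ) (pullback.snd U.hom φ) U₂.hom
      ((cone S a).π.app i) := by
    have hp : IsPullback (pullback.fst U.hom φ) (pullback.snd U.hom φ)
        (U₂.hom ≫ i.1.ι) ((cone S a).π.app i ≫ i.1.ι) := by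
      rw [cone_π_ι]
      exact IsPullback.of_hasPullback _ _
    exact isPullback_of_comp_mono i.1.ι hp
  let ea : Ua.left ≅ pullback U.hom φ := hUa.isoIsPullback _ _ hpI
  have hea : ea.hom ≫ pullback.snd U.hom φ = Ua.hom := hUa.isoIsPullback_hom_snd _ _ hpI
  have hkI := isSol_of_iso_W (W' := Over.mk (pullback.snd U.hom φ)) hka ea hea
  obtain ⟨j, kj, hkj⟩ := spread_sol D' s' hs' g D c' hc' φ hsInf' U hUqc _ hkI
  refine ⟨j.left.1, j.left.2.2, Over.mk (pullback.snd U.hom (s' j)), ?_, hkj.nonempty_iso⟩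
  exact inferInstanceAs (Etale (pullback.snd U.hom (s' j)))

include hg in
omit [LocallyOfFinitePresentation g] [QuasiCompact g] [QuasiSeparated g]
  [Etale (D.obj PUnit.unit).hom] [QuasiCompact (D.obj PUnit.unit).hom]
  [QuasiSeparated (D.obj PUnit.unit).hom] in
/-- S5124, the easy direction. -/
theorem nbhd_to_stalk (W : S.Opens) (ha : a ∈ W) (U : Over (W : Scheme.{u})) [Etale U.hom]
    (e : (toDDFam (fun _ : PUnit.{1} => pullback.snd g W.ι)).obj U ≅ D₁ g W.ι D) :
    ∃ Ua : Over (Spec (S.presheaf.stalk a)), Etale Ua.hom ∧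
      Nonempty ((toDDFam (fun _ : PUnit.{1} => pullback.snd g (S.fromSpecStalk a))).obj Ua ≅
        D₁ g (S.fromSpecStalk a) D) := by
  have hsU := (isSol_canonical (f := fun _ : PUnit.{1} => pullback.snd g W.ι) U).of_iso e
  obtain ⟨k', hk'⟩ := isSol_comp g D W.ι (W.fromSpecStalkOfMem a ha) (S.fromSpecStalk a)
    (Scheme.Opens.fromSpecStalkOfMem_ι W a ha) U _ hsU
  exact ⟨Over.mk (pullback.snd U.hom (W.fromSpecStalkOfMem a ha)),
    inferInstanceAs (Etale (pullback.snd U.hom (W.fromSpecStalkOfMem a ha))), hk'.nonempty_iso⟩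

omit [LocallyOfFinitePresentation g] [QuasiCompact g] [QuasiSeparated g]
  [Etale (D.obj PUnit.unit).hom] [QuasiCompact (D.obj PUnit.unit).hom]
  [QuasiSeparated (D.obj PUnit.unit).hom] in
/-- An étale solution over `S` restricts to an étale solution over any `T ⟶ S`. -/
theorem sol_restrict {T : Scheme.{u}} (b : T ⟶ S) (U : Over S) [Etale U.hom]
    (e : (toDDFam (fun _ : PUnit.{1} => g)).obj U ≅ D) :
    ∃ U' : Over T, Etale U'.hom ∧
      Nonempty ((toDDFam (fun _ : PUnit.{1} => pullback.snd g b)).obj U' ≅ D₁ g b D) := by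
  have hsU := (isSol_canonical (f := fun _ : PUnit.{1} => g) U).of_iso e
  have h2 := IsSol.pull (f' := fun _ : PUnit.{1} => pullback.snd g b) (α := id) (p := b)
    (p' := fun _ => pullback.fst g b) (fun _ => pullback.condition) hsU
  exact ⟨Over.mk (pullback.snd U.hom b), inferInstanceAs (Etale (pullback.snd U.hom b)),
    h2.nonempty_iso⟩

include hg in
/-- S5125, the hard direction. -/
theorem of_forall_stalk
    (h : ∀ a : S, ∃ Ua : Over (Spec (S.presheaf.stalk a)), Etale Ua.hom ∧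
      Nonempty ((toDDFam (fun _ : PUnit.{1} => pullback.snd g (S.fromSpecStalk a))).obj Ua ≅
        D₁ g (S.fromSpecStalk a) D)) :
    ∃ U : Over S, Etale U.hom ∧ Nonempty ((toDDFam (fun _ : PUnit.{1} => g)).obj U ≅ D) := by
  have h' : ∀ a : S, ∃ W : S.Opens, a ∈ W ∧ ∃ U : Over (W : Scheme.{u}), Etale U.hom ∧
      Nonempty ((toDDFam (fun _ : PUnit.{1} => pullback.snd g W.ι)).obj U ≅ D₁ g W.ι D) := by
    intro a
    obtain ⟨Ua, hUa, ⟨e⟩⟩ := h a
    haveI := hUa
    exact stalk_to_nbhd g hg D a Ua e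
  choose W hW hU using h'
  have hV : ⨆ a : S, W a = ⊤ :=
    eq_top_iff.mpr fun x _ => TopologicalSpace.Opens.mem_iSup.mpr ⟨x, hW x⟩
  exact Groth.Agent.H65.EtLocEff.backward g D hg W hV hU

end Stalk

section Rebase

variable {S S' : Scheme.{u}} (g : S' ⟶ S) (D : SchDDFam (fun _ : PUnit.{1} => g))

/-- A solution of the base change of `D` along `b' ≫ b` gives a solution of the base change along
`b'` of the base change of `D` along `b`. -/
theorem isSol_rebase {T T' : Scheme.{u}} (b : T ⟶ S) (b' : T' ⟶ T) (U : Over T')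
    (k : ∀ i, ((D₁ g (b' ≫ b) D).obj i).left ⟶ U.left) (hs : IsSol (D₁ g (b' ≫ b) D) U k) :
    ∃ k' : ∀ i, ((D₁ (pullback.snd g b) b' (D₁ g b D)).obj i).left ⟶ pullback U.hom (𝟙 T'),
      IsSol (D₁ (pullback.snd g b) b' (D₁ g b D)) (Over.mk (pullback.snd U.hom (𝟙 T'))) k' := by
  let e' : pullback (pullback.snd g b) b' ⟶ pullback g (b' ≫ b) :=
    pullback.lift (pullback.fst (pullback.snd g b) b' ≫ pullback.fst g b)
      (pullback.snd (pullback.snd g b) b') (by
        rw [Category.assoc, pullback.condition, ← Category.assoc, pullback.condition,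
          Category.assoc])
  have w : e' ≫ pullback.snd g (b' ≫ b) = pullback.snd (pullback.snd g b) b' ≫ 𝟙 T' := by
    rw [Category.comp_id]; exact pullback.lift_snd _ _ _
  have hfst : e' ≫ pullback.fst g (b' ≫ b) =
      pullback.fst (pullback.snd g b) b' ≫ pullback.fst g b := pullback.lift_fst _ _ _
  have h2 := IsSol.pull (f := fun _ : PUnit.{1} => pullback.snd g (b' ≫ b))
    (f' := fun _ : PUnit.{1} => pullback.snd (pullback.snd g b) b') (α := id) (p := 𝟙 T')
    (p' := fun _ => e') (fun _ => w) hs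
  let G₁ : SchDDFam (fun _ : PUnit.{1} => g) ⥤
      SchDDFam (fun _ : PUnit.{1} => pullback.snd (pullback.snd g b) b') :=
    pullDDFam (f := fun _ : PUnit.{1} => g) (f' := fun _ : PUnit.{1} => pullback.snd g (b' ≫ b))
      (α := id) (p := b' ≫ b) (p' := fun _ => pullback.fst g (b' ≫ b))
      (fun _ => pullback.condition) ⋙
    pullDDFam (f := fun _ : PUnit.{1} => pullback.snd g (b' ≫ b))
      (f' := fun _ : PUnit.{1} => pullback.snd (pullback.snd g b) b') (α := id) (p := 𝟙 T')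
      (p' := fun _ => e') (fun _ => w)
  let G₂ : SchDDFam (fun _ : PUnit.{1} => g) ⥤
      SchDDFam (fun _ : PUnit.{1} => pullback.snd (pullback.snd g b) b') :=
    pullDDFam (f := fun _ : PUnit.{1} => g) (f' := fun _ : PUnit.{1} => pullback.snd g b)
      (α := id) (p := b) (p' := fun _ => pullback.fst g b) (fun _ => pullback.condition) ⋙
    pullDDFam (f := fun _ : PUnit.{1} => pullback.snd g b)
      (f' := fun _ : PUnit.{1} => pullback.snd (pullback.snd g b) b') (α := id) (p := b')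
      (p' := fun _ => pullback.fst (pullback.snd g b) b') (fun _ => pullback.condition)
  let ni : G₁ ≅ G₂ := natIsoOfPtDesc (G := G₁) (G' := G₂)
    ((PtDesc.pull _).comp (PtDesc.pull _)) ((PtDesc.pull _).comp (PtDesc.pull _)) (by
      intro T i x
      change ((x ≫ e') ≫ pullback.fst g (b' ≫ b)) ≫ g =
        ((x ≫ pullback.fst (pullback.snd g b) b') ≫ pullback.fst g b) ≫ g
      rw [Category.assoc x, hfst]; simp only [Category.assoc])
  exact ⟨_, h2.of_iso (ni.app D)⟩

end Rebase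

section Completion

variable {S S' : Scheme.{u}} [IsLocallyNoetherian S] (g : S' ⟶ S) (hg : SGA1.UnivSubmersive g)
  [LocallyOfFinitePresentation g] [QuasiCompact g] [QuasiSeparated g]
  (D : SchDDFam (fun _ : PUnit.{1} => g)) [Etale (D.obj PUnit.unit).hom]
  [QuasiCompact (D.obj PUnit.unit).hom] [IsSeparated (D.obj PUnit.unit).hom]

/-- The completion morphism `Spec Ô_{S,a} ⟶ Spec 𝒪_{S,a}`. -/
noncomputable abbrev pc (a : S) :
    Spec (CommRingCat.of (AdicCompletion (IsLocalRing.maximalIdeal (S.presheaf.stalk a))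
      (S.presheaf.stalk a))) ⟶ Spec (S.presheaf.stalk a) :=
  Spec.map (CommRingCat.ofHom (algebraMap (S.presheaf.stalk a)
    (AdicCompletion (IsLocalRing.maximalIdeal (S.presheaf.stalk a)) (S.presheaf.stalk a))))

include hg in
/-- A solution over the completion of the local ring at `a` gives a solution over the local
ring. -/
theorem completion_to_stalk (a : S)
    (Uc : Over (Spec (CommRingCat.of (AdicCompletion (IsLocalRing.maximalIdeal
      (S.presheaf.stalk a)) (S.presheaf.stalk a))))) [Etale Uc.hom]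
    (e : (toDDFam (fun _ : PUnit.{1} => pullback.snd g (pc a ≫ S.fromSpecStalk a))).obj Uc ≅
      D₁ g (pc a ≫ S.fromSpecStalk a) D) :
    ∃ Ua : Over (Spec (S.presheaf.stalk a)), Etale Ua.hom ∧
      Nonempty ((toDDFam (fun _ : PUnit.{1} => pullback.snd g (S.fromSpecStalk a))).obj Ua ≅
        D₁ g (S.fromSpecStalk a) D) := by
  set φ := S.fromSpecStalk a with hφ
  have hsc := (isSol_canonical (f := fun _ : PUnit.{1} => pullback.snd g (pc a ≫ φ)) Uc).of_iso e
  obtain ⟨kc, hkc⟩ : ∃ kc : ∀ i, ((D₁ g (pc a ≫ φ) D).obj i).left ⟶ Uc.left,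
      IsSol (D₁ g (pc a ≫ φ) D) Uc kc := ⟨_, hsc⟩
  have hgc := Groth.Agent.H65.EtLocEff.univSubmersive_snd g hg (pc a ≫ φ)
  haveI : Surjective (pullback.snd g (pc a ≫ φ)) := surjective_of_univSubmersive _ hgc
  have sqc : IsPullback (kc PUnit.unit)
      (pullback.snd (D.obj PUnit.unit).hom (pullback.fst g (pc a ≫ φ))) Uc.hom
      (pullback.snd g (pc a ≫ φ)) := hkc.sq PUnit.unit
  haveI : QuasiCompact Uc.hom := quasiCompact_of_isPullback sqc
  haveI : IsSeparated Uc.hom := isSeparated_of_isPullback sqc hgc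
  obtain ⟨k', hk'⟩ := isSol_rebase g D φ (pc a) Uc kc hkc
  obtain ⟨hfl, hsu⟩ := Groth.Agent.H10.Spread_D.flat_surjective_completion (S.presheaf.stalk a)
  haveI : Flat (pc a) := hfl
  haveI : Surjective (pc a) := hsu
  let U₁ : Over (Spec (CommRingCat.of (AdicCompletion (IsLocalRing.maximalIdeal
      (S.presheaf.stalk a)) (S.presheaf.stalk a)))) := Over.mk (pullback.snd Uc.hom (𝟙 _))
  haveI : Etale U₁.hom := inferInstanceAs (Etale (pullback.snd Uc.hom (𝟙 _)))
  haveI : IsSeparated U₁.hom := inferInstanceAs (IsSeparated (pullback.snd Uc.hom (𝟙 _)))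
  haveI : QuasiCompact U₁.hom := inferInstanceAs (QuasiCompact (pullback.snd Uc.hom (𝟙 _)))
  obtain ⟨e₁⟩ := hk'.nonempty_iso
  obtain ⟨U, hU1, -, -, hU4⟩ := Groth.Agent.H68.SubmFpqc.backward (pullback.snd g φ)
    (D₁ g φ D) (pc a) (Groth.Agent.H65.EtLocEff.univSubmersive_snd g hg φ) U₁ e₁
  exact ⟨U, hU1, hU4⟩

end Completion

end Groth.Agent.H68.Spread
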