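import Mathlib

/-!
# Idempotents and clopen subsets of a scheme; global sections of a flat affine base change

* `isClopen_basicOpen`, `exists_idempotent_of_isClopen`, `eq_of_basicOpen_eq`: the dictionary
  between idempotent global sections and clopen subsets of an arbitrary scheme.
* `EmptyLift j`: every finite `Z ⟶ W` whose base change along `j : W₀ ⟶ W` is empty is empty;
  then `ker (Γ(W) → Γ(W₀))` lies in the Jacobson radical (`ker_le_jacobson`).
* `isIso_snd_appTop`: for `X` qcqs and `C` a flat `Γ(X, ⊤)`-algebra, the global sections of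
  `X ×_{Spec Γ(X)} Spec C` are `C`.
-/

set_option autoImplicit false
universe u

open CategoryTheory CategoryTheory.Limits AlgebraicGeometry Opposite TopologicalSpace

namespace Groth.Agent.H68.ClopenIdem

theorem eq_zero_or_eq_one_of_isLocalRing {R : Type*} [CommRing R] [IsLocalRing R] {e : R}
    (he : IsIdempotentElem e) : e = 0 ∨ e = 1 := by
  have h : e * (1 - e) = 0 := by rw [mul_sub, mul_one, he.eq, sub_self]
  rcases IsLocalRing.isUnit_or_isUnit_one_sub_self e with hu | hu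
  · right
    have := hu.mul_right_eq_zero.mp h
    exact (sub_eq_zero.mp this).symm
  · left
    exact hu.mul_left_eq_zero.mp h

section Dictionary

variable {W : Scheme.{u}}

theorem germ_eq_one {e : Γ(W, ⊤)} (he : IsIdempotentElem e) (x : W)
    (hx : x ∈ W.basicOpen e) : W.presheaf.germ ⊤ x trivial e = 1 := by
  have hu : IsUnit (W.presheaf.germ ⊤ x trivial e) := (W.mem_basicOpen_top e x).1 hx
  have hi : IsIdempotentElem (W.presheaf.germ ⊤ x trivial e) :=
    he.map (W.presheaf.germ ⊤ x trivial).hom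
  rcases eq_zero_or_eq_one_of_isLocalRing hi with h | h
  · rw [h] at hu
    exact (not_isUnit_zero hu).elim
  · exact h

theorem germ_eq_zero {e : Γ(W, ⊤)} (he : IsIdempotentElem e) (x : W)
    (hx : x ∉ W.basicOpen e) : W.presheaf.germ ⊤ x trivial e = 0 := by
  have hi : IsIdempotentElem (W.presheaf.germ ⊤ x trivial e) :=
    he.map (W.presheaf.germ ⊤ x trivial).hom
  rcases eq_zero_or_eq_one_of_isLocalRing hi with h | h
  · exact h
  · exact (hx ((W.mem_basicOpen_top e x).2 (by rw [h]; exact isUnit_one))).elim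

/-- idempotent global sections are determined by their non-vanishing loci -/
theorem eq_of_basicOpen_eq {e e' : Γ(W, ⊤)} (he : IsIdempotentElem e)
    (he' : IsIdempotentElem e') (h : W.basicOpen e = W.basicOpen e') : e = e' := by
  refine TopCat.Presheaf.section_ext W.sheaf ⊤ e e' fun x _ => ?_
  by_cases hx : x ∈ W.basicOpen e
  · exact (germ_eq_one he x hx).trans (germ_eq_one he' x (h ▸ hx)).symm
  · exact (germ_eq_zero he x hx).trans (germ_eq_zero he' x (h ▸ hx)).symm

theorem compl_basicOpen {e : Γ(W, ⊤)} (he : IsIdempotentElem e) :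
    ((W.basicOpen e : Set W))ᶜ = (W.basicOpen (1 - e) : Set W) := by
  ext x
  simp only [Set.mem_compl_iff, SetLike.mem_coe]
  constructor
  · intro hx
    rw [W.mem_basicOpen_top, map_sub, map_one, germ_eq_zero he x hx, sub_zero]
    exact isUnit_one
  · intro hx hx'
    rw [W.mem_basicOpen_top, map_sub, map_one, germ_eq_one he x hx', sub_self] at hx
    exact not_isUnit_zero hx

theorem isClopen_basicOpen {e : Γ(W, ⊤)} (he : IsIdempotentElem e) :
    IsClopen (W.basicOpen e : Set W) := by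
  refine ⟨?_, (W.basicOpen e).isOpen⟩
  rw [← isOpen_compl_iff, compl_basicOpen he]
  exact (W.basicOpen (1 - e)).isOpen

/-- every clopen subset is the non-vanishing locus of an idempotent -/
theorem exists_idempotent_of_isClopen (U : Set W) (hU : IsClopen U) :
    ∃ ε : Γ(W, ⊤), IsIdempotentElem ε ∧ (W.basicOpen ε : Set W) = U := by
  let Uo : W.Opens := ⟨U, hU.2⟩
  let Vo : W.Opens := ⟨Uᶜ, hU.1.isOpen_compl⟩
  have hbot : Uo ⊓ Vo = ⊥ := by
    ext x
    simp only [Opens.coe_inf, Opens.coe_bot, Set.mem_inter_iff, Set.mem_empty_iff_false,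
      iff_false]
    rintro ⟨h1, h2⟩
    exact h2 h1
  have htop : (⊤ : W.Opens) ≤ Uo ⊔ Vo := by
    intro x _
    by_cases h : x ∈ U
    · exact Or.inl h
    · exact Or.inr h
  have hsub : Subsingleton Γ(W, Uo ⊓ Vo) := by rw [hbot]; infer_instance
  obtain ⟨ε₀, hidem₀, h1, h0⟩ : ∃ ε₀ : Γ(W, Uo ⊔ Vo), IsIdempotentElem ε₀ ∧
      W.presheaf.map (homOfLE (le_sup_left : Uo ≤ Uo ⊔ Vo)).op ε₀ = 1 ∧
      W.presheaf.map (homOfLE (le_sup_right : Vo ≤ Uo ⊔ Vo)).op ε₀ = 0 := by
    refine ⟨(W.sheaf.objSupIsoProdEqLocus Uo Vo).inv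
      ⟨(1, 0), Subsingleton.elim (α := Γ(W, Uo ⊓ Vo)) _ _⟩, ?_,
      W.sheaf.objSupIsoProdEqLocus_inv_fst Uo Vo _, W.sheaf.objSupIsoProdEqLocus_inv_snd Uo Vo _⟩
    refine IsIdempotentElem.map ?_ (W.sheaf.objSupIsoProdEqLocus Uo Vo).inv.hom
    exact Subtype.ext (Prod.ext (mul_one 1) (mul_zero 0))
  refine ⟨W.presheaf.map (homOfLE htop).op ε₀, hidem₀.map (W.presheaf.map (homOfLE htop).op).hom,
    ?_⟩
  have hD : W.basicOpen (W.presheaf.map (homOfLE htop).op ε₀) = W.basicOpen ε₀ := by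
    rw [Scheme.basicOpen_res, top_inf_eq]
  have hU1 : Uo ≤ W.basicOpen ε₀ := by
    have := Scheme.basicOpen_res (X := W) ε₀ (homOfLE (le_sup_left : Uo ≤ Uo ⊔ Vo)).op
    rw [h1, Scheme.basicOpen_of_isUnit _ isUnit_one] at this
    exact le_trans (le_of_eq this) inf_le_right
  have hU0 : Vo ⊓ W.basicOpen ε₀ = ⊥ := by
    have := Scheme.basicOpen_res (X := W) ε₀ (homOfLE (le_sup_right : Vo ≤ Uo ⊔ Vo)).op
    rw [h0, Scheme.basicOpen_zero] at this
    exact this.symm
  rw [hD]
  apply Set.Subset.antisymm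
  · intro x hx
    by_contra hxU
    have : x ∈ Vo ⊓ W.basicOpen ε₀ := ⟨hxU, hx⟩
    rw [hU0] at this
    exact this
  · intro x hx
    exact hU1 hx

end Dictionary

section Jacobson

/-- every finite `Z ⟶ W` with empty base change along `j` is empty -/
def EmptyLift {W W₀ : Scheme.{u}} (j : W₀ ⟶ W) : Prop :=
  ∀ (Z : Scheme.{u}) (z : Z ⟶ W), IsFinite z → IsEmpty ↥(pullback z j) → IsEmpty ↥Z

theorem emptyLift_of_couple {X X₀ : Scheme.{u}} (i : X₀ ⟶ X)
    (hX : ∀ (Y : Scheme.{u}) (g : Y ⟶ X), IsFinite g →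
      ∀ V : Set ↥(pullback g i), IsClopen V →
        ∃! U : Set ↥Y, IsClopen U ∧ (pullback.fst g i).base ⁻¹' U = V) : EmptyLift i := by
  intro Z z hz hemp
  obtain ⟨U, hU, huniq⟩ := hX Z z hz ∅ isClopen_empty
  have h1 := huniq ∅ ⟨isClopen_empty, Set.preimage_empty⟩
  have h2 := huniq Set.univ ⟨isClopen_univ, Set.eq_empty_of_isEmpty _⟩
  exact Set.univ_eq_empty_iff.1 (h2.trans h1.symm)

theorem emptyLift_baseChange {X X₀ Y : Scheme.{u}} (i : X₀ ⟶ X) (g : Y ⟶ X) [IsFinite g]
    (h : EmptyLift i) : EmptyLift (pullback.fst g i) := by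
  intro Z z hz hemp
  haveI := hz
  refine h Z (z ≫ g) inferInstance ⟨fun t => ?_⟩
  let m : pullback (z ≫ g) i ⟶ pullback z (pullback.fst g i) :=
    pullback.lift (pullback.fst (z ≫ g) i)
      (pullback.lift (pullback.fst (z ≫ g) i ≫ z) (pullback.snd (z ≫ g) i)
        (by rw [Category.assoc]; exact pullback.condition))
      (pullback.lift_fst _ _ _).symm
  exact hemp.elim (m t)

theorem ker_le_jacobson {W W₀ : Scheme.{u}} (j : W₀ ⟶ W) (hj : EmptyLift j) :
    RingHom.ker j.appTop.hom ≤ Ideal.jacobson ⊥ := by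
  intro a ha
  rw [Ideal.mem_jacobson_bot]
  intro b
  have hs : j.appTop.hom (a * b + 1) = 1 := by
    rw [map_add, map_mul, (RingHom.mem_ker).1 ha, zero_mul, zero_add, map_one]
  generalize a * b + 1 = s at hs
  let I : W.IdealSheafData := Scheme.IdealSheafData.ofIdealTop (Ideal.span {s})
  have hrange : Set.range I.subschemeι = ((W.basicOpen s : Set W))ᶜ := by
    rw [I.range_subschemeι, Scheme.IdealSheafData.coe_support_ofIdealTop, Scheme.zeroLocus_span,
      Scheme.zeroLocus_singleton]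
  have hpre : j ⁻¹ᵁ W.basicOpen s = ⊤ := by
    rw [Scheme.preimage_basicOpen_top]
    exact Scheme.basicOpen_of_isUnit _ (by rw [show j.appTop s = 1 from hs]; exact isUnit_one)
  have hemp : IsEmpty ↥(pullback I.subschemeι j) := by
    refine ⟨fun t => ?_⟩
    have h1 : I.subschemeι (pullback.fst I.subschemeι j t) = j (pullback.snd I.subschemeι j t) := by
      rw [← Scheme.Hom.comp_apply, ← Scheme.Hom.comp_apply, pullback.condition]
    have h2 : I.subschemeι (pullback.fst I.subschemeι j t) ∈ ((W.basicOpen s : Set W))ᶜ :=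
      hrange ▸ ⟨_, rfl⟩
    have h3 : pullback.snd I.subschemeι j t ∈ j ⁻¹ᵁ W.basicOpen s := by rw [hpre]; trivial
    exact h2 (h1 ▸ h3)
  have hZ : IsEmpty ↥I.subscheme := hj _ I.subschemeι inferInstance hemp
  have htop : W.basicOpen s = ⊤ := by
    rw [eq_top_iff]
    intro x _
    by_contra hx
    have : x ∈ Set.range I.subschemeι := by rw [hrange]; exact hx
    obtain ⟨t, -⟩ := this
    exact hZ.elim t
  refine RingedSpace.isUnit_of_isUnit_germ W.toRingedSpace ⊤ s fun x hx => ?_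
  exact (W.mem_basicOpen_top s x).1 (by rw [htop]; trivial)

end Jacobson

section FlatBaseChange

theorem appLE_top_top {X Y : Scheme.{u}} (f : X ⟶ Y) (h : (⊤ : X.Opens) ≤ f ⁻¹ᵁ ⊤) :
    f.appLE ⊤ ⊤ h = f.appTop := (Scheme.Hom.app_eq_appLE f (U := ⊤)).symm

variable {X : Scheme.{u}} [CompactSpace X] [QuasiSeparatedSpace X]
  (C : Type u) [CommRing C] [Algebra Γ(X, ⊤) C] [Module.Flat Γ(X, ⊤) C]

/-- flat base change for global sections along `Spec C ⟶ Spec Γ(X, ⊤)` -/
theorem isIso_snd_appTop :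
    IsIso (pullback.snd X.toSpecΓ
      (Spec.map (CommRingCat.ofHom (algebraMap Γ(X, ⊤) C)))).appTop := by
  haveI : Flat (Spec.map (CommRingCat.ofHom (algebraMap Γ(X, ⊤) C))) :=
    Flat.SpecMap_iff.mpr (RingHom.flat_algebraMap_iff.mpr inferInstance)
  have H : IsPullback (pullback.fst X.toSpecΓ
        (Spec.map (CommRingCat.ofHom (algebraMap Γ(X, ⊤) C))))
      (pullback.snd X.toSpecΓ (Spec.map (CommRingCat.ofHom (algebraMap Γ(X, ⊤) C))))
      X.toSpecΓ (Spec.map (CommRingCat.ofHom (algebraMap Γ(X, ⊤) C))) :=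
    IsPullback.of_hasPullback _ _
  have hUY : (⊤ : (pullback X.toSpecΓ
      (Spec.map (CommRingCat.ofHom (algebraMap Γ(X, ⊤) C)))).Opens) =
      pullback.fst X.toSpecΓ (Spec.map (CommRingCat.ofHom (algebraMap Γ(X, ⊤) C))) ⁻¹ᵁ ⊤ ⊓
      pullback.snd X.toSpecΓ (Spec.map (CommRingCat.ofHom (algebraMap Γ(X, ⊤) C))) ⁻¹ᵁ ⊤ := by
    simp
  have hiso := isIso_pushoutSection_of_isQuasiSeparated_of_flat_right H
    (US := ⊤) (UT := ⊤) (UX := ⊤) (UY := ⊤) le_top le_top hUY
    (isAffineOpen_top _) (isAffineOpen_top _)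
    (by simpa using isCompact_univ (X := X))
    (by simpa using isQuasiSeparated_univ (α := X))
  have hpo := (isIso_pushoutSection_iff H le_top le_top hUY).mp hiso
  haveI : IsIso (X.toSpecΓ.appLE ⊤ ⊤ le_top) := by
    rw [appLE_top_top, Scheme.toSpecΓ_appTop]
    infer_instance
  have := hpo.isIso_inr_of_isIso
  rwa [appLE_top_top] at this

omit [CompactSpace X] [QuasiSeparatedSpace X] [Module.Flat Γ(X, ⊤) C] in
theorem appTop_fst_eq :
    (pullback.fst X.toSpecΓ (Spec.map (CommRingCat.ofHom (algebraMap Γ(X, ⊤) C)))).appTop =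
      CommRingCat.ofHom (algebraMap Γ(X, ⊤) C) ≫ (Scheme.ΓSpecIso (CommRingCat.of C)).inv ≫
        (pullback.snd X.toSpecΓ (Spec.map (CommRingCat.ofHom (algebraMap Γ(X, ⊤) C)))).appTop := by
  have h1 := congrArg Scheme.Hom.appTop (pullback.condition (f := X.toSpecΓ)
    (g := Spec.map (CommRingCat.ofHom (algebraMap Γ(X, ⊤) C))))
  rw [Scheme.Hom.comp_appTop, Scheme.Hom.comp_appTop, Scheme.toSpecΓ_appTop] at h1
  have h2 : (Spec.map (CommRingCat.ofHom (algebraMap Γ(X, ⊤) C))).appTop =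
      (Scheme.ΓSpecIso Γ(X, ⊤)).hom ≫ CommRingCat.ofHom (algebraMap Γ(X, ⊤) C) ≫
        (Scheme.ΓSpecIso (CommRingCat.of C)).inv := by
    rw [← Category.assoc, ← Scheme.ΓSpecIso_naturality, Category.assoc, Iso.hom_inv_id,
      Category.comp_id]
  rw [h2, Category.assoc, Category.assoc] at h1
  exact (cancel_epi (Scheme.ΓSpecIso Γ(X, ⊤)).hom).1 h1

end FlatBaseChange

end Groth.Agent.H68.ClopenIdem
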