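import Mathlib
import Groth.Agent.H68.Hartogs
import Groth.Agent.H68.ClopenIdem
import Groth.Agent.H68.FEtFF

/-!
# Base change of `O_S ≅ f_* O_X` along finite locally free morphisms (no qcqs hypothesis)

If `f : X ⟶ S` has `f.app U` bijective for all opens `U` and `g : W ⟶ S` is finite, flat and locally of
finite presentation, then in a pullback square `P = X ×_S W` the map `Γ(W, ⊤) → Γ(P, ⊤)` is bijective
(`appTop_bijective`).  Consequently clopen subsets lift uniquely (`clopen_lift_of_appTop_bijective`)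
and `FEt.restrict f` is fully faithful (`clopenBij`).
-/

set_option autoImplicit false
universe u

open AlgebraicGeometry CategoryTheory CategoryTheory.Limits TopologicalSpace Opposite

namespace Groth.Agent.H68.SecBC

open Groth.Agent.H68.Hartogs

/-- gluing of sections over a basis-like family of opens -/
theorem glue_sections {Z : Scheme.{u}} {ι : Type*} (𝒱 : ι → Z.Opens) (T₀ : Z.Opens)
    (hle : ∀ i, 𝒱 i ≤ T₀) (hcov : T₀ ≤ ⨆ i, 𝒱 i)
    (hinter : ∀ i j, 𝒱 i ⊓ 𝒱 j ≤ ⨆ (k : {k : ι // 𝒱 k ≤ 𝒱 i ⊓ 𝒱 j}), 𝒱 k.1)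
    (s : ∀ i, Γ(Z, 𝒱 i))
    (hs : ∀ i k (h : 𝒱 k ≤ 𝒱 i), res (𝒱 i) (𝒱 k) h (s i) = s k) :
    ∃ t : Γ(Z, T₀), ∀ i, res T₀ (𝒱 i) (hle i) t = s i := by
  have hcompat : TopCat.Presheaf.IsCompatible Z.sheaf.1 𝒱 s := by
    intro i j
    refine TopCat.Sheaf.eq_of_locally_eq' Z.sheaf
      (fun k : {k : ι // 𝒱 k ≤ 𝒱 i ⊓ 𝒱 j} => 𝒱 k.1) (𝒱 i ⊓ 𝒱 j) (fun k => homOfLE k.2)
      (hinter i j) _ _ ?_
    rintro ⟨k, hk⟩
    have h1 : res (𝒱 i ⊓ 𝒱 j) (𝒱 k) hk (res (𝒱 i) (𝒱 i ⊓ 𝒱 j) inf_le_left (s i)) = s k := by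
      rw [res_res]
      exact hs i k _
    have h2 : res (𝒱 i ⊓ 𝒱 j) (𝒱 k) hk (res (𝒱 j) (𝒱 i ⊓ 𝒱 j) inf_le_right (s j)) = s k := by
      rw [res_res]
      exact hs j k _
    exact h1.trans h2.symm
  obtain ⟨t, ht, -⟩ := TopCat.Sheaf.existsUnique_gluing' Z.sheaf 𝒱 T₀
    (fun i => homOfLE (hle i)) hcov s hcompat
  exact ⟨t, ht⟩

theorem appLE_res {X Y : Scheme.{u}} (f : X ⟶ Y) {U : Y.Opens} {V V' : X.Opens}
    (e : V ≤ f ⁻¹ᵁ U) (h : V' ≤ V) (s : Γ(Y, U)) :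
    res V V' h (f.appLE U V e s) = f.appLE U V' (h.trans e) s := by
  change (f.appLE U V e ≫ X.presheaf.map (homOfLE h).op) s = _
  rw [Scheme.Hom.appLE_map]

theorem res_appLE {X Y : Scheme.{u}} (f : X ⟶ Y) {U U' : Y.Opens} {V : X.Opens}
    (e : V ≤ f ⁻¹ᵁ U') (h : U' ≤ U) (s : Γ(Y, U)) :
    f.appLE U' V e (res U U' h s) = f.appLE U V (e.trans (fun _ hx => h hx)) s := by
  change (Y.presheaf.map (homOfLE h).op ≫ f.appLE U' V e) s = _
  rw [Scheme.Hom.map_appLE]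

theorem appLE_eq_res_app {X Y : Scheme.{u}} (f : X ⟶ Y) {U : Y.Opens} {V : X.Opens}
    (e : V ≤ f ⁻¹ᵁ U) (s : Γ(Y, U)) :
    f.appLE U V e s = res (f ⁻¹ᵁ U) V e (f.app U s) := rfl

section Alg

open TensorProduct

variable {R C B D : CommRingCat.{u}} {α : R ⟶ C} {β : R ⟶ B} {γ : C ⟶ D} {δ : B ⟶ D}

theorem pushout_tensor_iso (h : IsPushout α β γ δ) :
    letI := α.hom.toAlgebra
    letI := β.hom.toAlgebra
    ∃ e : (C ⊗[R] B) ≃+* D, ∀ (c : C) (b : B), e (c ⊗ₜ[R] b) = γ.hom c * δ.hom b := by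
  letI := α.hom.toAlgebra
  letI := β.hom.toAlgebra
  have hT : IsPushout α β
      (CommRingCat.ofHom (Algebra.TensorProduct.includeLeftRingHom : C →+* C ⊗[R] B))
      (CommRingCat.ofHom (Algebra.TensorProduct.includeRight.toRingHom : B →+* C ⊗[R] B)) :=
    CommRingCat.isPushout_tensorProduct R C B
  have h1 := IsPushout.inl_isoIsPushout_hom _ _ hT h
  have h2 := IsPushout.inr_isoIsPushout_hom _ _ hT h
  refine ⟨(hT.isoIsPushout _ _ h).commRingCatIsoToRingEquiv, fun c b => ?_⟩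
  have e1 : (hT.isoIsPushout _ _ h).hom.hom (c ⊗ₜ[R] (1 : B)) = γ.hom c := congr($(h1).hom c)
  have e2 : (hT.isoIsPushout _ _ h).hom.hom ((1 : C) ⊗ₜ[R] b) = δ.hom b := congr($(h2).hom b)
  have e3 : (c ⊗ₜ[R] b : C ⊗[R] B) = (c ⊗ₜ[R] (1 : B)) * ((1 : C) ⊗ₜ[R] b) := by
    rw [Algebra.TensorProduct.tmul_mul_tmul, mul_one, one_mul]
  change (hT.isoIsPushout _ _ h).hom.hom (c ⊗ₜ[R] b) = _
  rw [e3, map_mul, e1, e2]

theorem pushout_addHom_ext (h : IsPushout α β γ δ) {M : Type*} [AddCommMonoid M]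
    (F G : D →+ M) (hFG : ∀ (c : C) (b : B), F (γ.hom c * δ.hom b) = G (γ.hom c * δ.hom b)) :
    F = G := by
  letI := α.hom.toAlgebra
  letI := β.hom.toAlgebra
  obtain ⟨e, he⟩ := pushout_tensor_iso h
  ext d
  obtain ⟨z, rfl⟩ := e.surjective d
  induction z using TensorProduct.induction_on with
  | zero => simp
  | tmul c b => rw [he]; exact hFG c b
  | add x y hx hy => rw [map_add, map_add, map_add, hx, hy]

theorem pushout_coord (h : IsPushout α β γ δ) (φ : B → R)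
    (hφadd : ∀ x y, φ (x + y) = φ x + φ y) (hφ : ∀ (r : R) (x : B), φ (β.hom r * x) = r * φ x) :
    ∃ Φ : D →+ C, ∀ (c : C) (b : B), Φ (γ.hom c * δ.hom b) = c * α.hom (φ b) := by
  letI := α.hom.toAlgebra
  letI := β.hom.toAlgebra
  obtain ⟨e, he⟩ := pushout_tensor_iso h
  let φ' : B →ₗ[R] R :=
    { toFun := φ
      map_add' := hφadd
      map_smul' := fun r x => by
        rw [Algebra.smul_def, RingHom.algebraMap_toAlgebra, RingHom.id_apply, smul_eq_mul]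
        exact hφ r x }
  let Φ₀ : C ⊗[R] B →ₗ[R] C :=
    TensorProduct.lift ((LinearMap.mul R C).compl₂ ((Algebra.linearMap R C).comp φ'))
  refine ⟨Φ₀.toAddMonoidHom.comp e.symm.toAddMonoidHom, fun c b => ?_⟩
  rw [← he]
  have h1 : e.symm.toAddMonoidHom (e (c ⊗ₜ[R] b)) = c ⊗ₜ[R] b := e.symm_apply_apply _
  change Φ₀ (e.symm.toAddMonoidHom (e (c ⊗ₜ[R] b))) = _
  rw [h1]
  change TensorProduct.lift ((LinearMap.mul R C).compl₂ ((Algebra.linearMap R C).comp φ'))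
    (c ⊗ₜ[R] b) = _
  rw [TensorProduct.lift.tmul]
  rfl

end Alg

section Main

variable {P X W S : Scheme.{u}} {f : X ⟶ S} {g : W ⟶ S} {pX : P ⟶ X} {pW : P ⟶ W}

theorem app_bijective_of_isAffineOpen (H : IsPullback pX pW f g) [IsFinite g] [Flat g]
    [LocallyOfFinitePresentation g] (U : S.Opens) (hU : IsAffineOpen U)
    (hfU : Function.Bijective (f.app U).hom) :
    Function.Bijective (pW.app (g ⁻¹ᵁ U)).hom := by
  classical
  have hWU : IsAffineOpen (g ⁻¹ᵁ U) := hU.preimage g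
  letI algB : Algebra Γ(S, U) Γ(W, g ⁻¹ᵁ U) := (g.app U).hom.toAlgebra
  haveI : Module.Finite Γ(S, U) Γ(W, g ⁻¹ᵁ U) := g.finite_app U hU
  have hflat : (g.appLE U (g ⁻¹ᵁ U) le_rfl).hom.Flat :=
    HasRingHomProperty.appLE @Flat g inferInstance ⟨U, hU⟩ ⟨g ⁻¹ᵁ U, hWU⟩ le_rfl
  have hfp : (g.appLE U (g ⁻¹ᵁ U) le_rfl).hom.FinitePresentation :=
    HasRingHomProperty.appLE @LocallyOfFinitePresentation g inferInstance ⟨U, hU⟩
      ⟨g ⁻¹ᵁ U, hWU⟩ le_rfl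
  rw [Scheme.Hom.appLE_eq_app] at hflat hfp
  haveI : Module.Flat Γ(S, U) Γ(W, g ⁻¹ᵁ U) := hflat
  haveI : Algebra.FinitePresentation Γ(S, U) Γ(W, g ⁻¹ᵁ U) := hfp
  haveI : Module.FinitePresentation Γ(S, U) Γ(W, g ⁻¹ᵁ U) :=
    Module.FinitePresentation.of_finite_of_finitePresentation Γ(S, U) Γ(W, g ⁻¹ᵁ U)
  haveI : Module.Projective Γ(S, U) Γ(W, g ⁻¹ᵁ U) := Module.Flat.projective_of_finitePresentation
  obtain ⟨n, F, G, -, -, hFG⟩ :=
    Module.Finite.exists_comp_eq_id_of_projective Γ(S, U) Γ(W, g ⁻¹ᵁ U)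
  -- dual basis identity
  have hdual : ∀ x : Γ(W, g ⁻¹ᵁ U),
      x = ∑ i : Fin n, (g.app U).hom (G x i) * F (fun j => if i = j then 1 else 0) := by
    intro x
    have h1 : x = F (G x) := (LinearMap.congr_fun hFG x).symm
    conv_lhs => rw [h1, LinearMap.pi_apply_eq_sum_univ F (G x)]
    refine Finset.sum_congr rfl fun i _ => ?_
    rw [Algebra.smul_def]
    rfl
  have hadd : ∀ (i : Fin n) (x y : Γ(W, g ⁻¹ᵁ U)), G (x + y) i = G x i + G y i := by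
    intro i x y
    rw [map_add]
    rfl
  have hlin : ∀ (i : Fin n) (r : Γ(S, U)) (x : Γ(W, g ⁻¹ᵁ U)),
      G ((g.app U).hom r * x) i = r * G x i := by
    intro i r x
    have : (g.app U).hom r * x = r • x := by rw [Algebra.smul_def]; rfl
    rw [this, map_smul]
    rfl
  -- the pushout squares
  have key : ∀ (V : X.Opens) (_ : IsAffineOpen V) (hVT : V ≤ f ⁻¹ᵁ U),
      IsPushout (f.appLE U V hVT) (g.app U)
        (pX.appLE V (pX ⁻¹ᵁ V ⊓ pW ⁻¹ᵁ (g ⁻¹ᵁ U)) inf_le_left)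
        (pW.appLE (g ⁻¹ᵁ U) (pX ⁻¹ᵁ V ⊓ pW ⁻¹ᵁ (g ⁻¹ᵁ U)) inf_le_right) := by
    intro V hV hVT
    have := (isIso_pushoutSection_iff H (US := U) (UT := g ⁻¹ᵁ U) (UX := V) le_rfl hVT
      (UY := pX ⁻¹ᵁ V ⊓ pW ⁻¹ᵁ (g ⁻¹ᵁ U)) rfl).mp
      (isIso_pushoutSection_of_isAffineOpen H le_rfl hVT rfl hU hWU hV)
    rwa [Scheme.Hom.appLE_eq_app] at this
  -- cover of f⁻¹U by affine opens
  have hcovX : f ⁻¹ᵁ U ≤ ⨆ V : {V : X.Opens // IsAffineOpen V ∧ V ≤ f ⁻¹ᵁ U}, V.1 := by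
    intro y hy
    obtain ⟨_, ⟨V, hV, rfl⟩, hyV, hVT⟩ :=
      X.isBasis_affineOpens.exists_subset_of_mem_open hy (f ⁻¹ᵁ U).isOpen
    exact Opens.mem_iSup.mpr ⟨⟨V, hV, SetLike.coe_subset_coe.mp hVT⟩, hyV⟩
  have hPU : pW ⁻¹ᵁ (g ⁻¹ᵁ U) = pX ⁻¹ᵁ (f ⁻¹ᵁ U) := by
    rw [← Scheme.Hom.comp_preimage, ← Scheme.Hom.comp_preimage, H.w]
  have hcovP : pW ⁻¹ᵁ (g ⁻¹ᵁ U) ≤
      ⨆ V : {V : X.Opens // IsAffineOpen V ∧ V ≤ f ⁻¹ᵁ U}, pX ⁻¹ᵁ V.1 ⊓ pW ⁻¹ᵁ (g ⁻¹ᵁ U) := by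
    intro y hy
    have hy' : y ∈ pX ⁻¹ᵁ (f ⁻¹ᵁ U) := hPU ▸ hy
    obtain ⟨V, hyV⟩ := Opens.mem_iSup.mp (hcovX (show pX y ∈ f ⁻¹ᵁ U from hy'))
    exact Opens.mem_iSup.mpr ⟨V, hyV, hy⟩
  constructor
  · rw [injective_iff_map_eq_zero]
    intro x hx
    have hφ0 : ∀ i, G x i = 0 := by
      intro i
      apply hfU.1
      rw [map_zero]
      refine TopCat.Sheaf.eq_of_locally_eq' X.sheaf
        (fun V : {V : X.Opens // IsAffineOpen V ∧ V ≤ f ⁻¹ᵁ U} => V.1) (f ⁻¹ᵁ U)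
        (fun V => homOfLE V.2.2) hcovX _ 0 ?_
      rintro ⟨V, hV, hVT⟩
      change res (f ⁻¹ᵁ U) V hVT ((f.app U).hom (G x i)) = res (f ⁻¹ᵁ U) V hVT 0
      rw [map_zero]
      obtain ⟨Φ, hΦ⟩ := pushout_coord (key V hV hVT) (fun y => G y i) (hadd i) (hlin i)
      have h1 := hΦ 1 x
      rw [map_one, one_mul, one_mul] at h1
      have h2 : (pW.appLE (g ⁻¹ᵁ U) (pX ⁻¹ᵁ V ⊓ pW ⁻¹ᵁ (g ⁻¹ᵁ U)) inf_le_right).hom x = 0 := by
        change res (pW ⁻¹ᵁ (g ⁻¹ᵁ U)) _ inf_le_right ((pW.app (g ⁻¹ᵁ U)).hom x) = 0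
        rw [hx, map_zero]
      rw [h2, map_zero] at h1
      exact h1.symm
    rw [hdual x]
    refine Finset.sum_eq_zero fun i _ => ?_
    rw [hφ0 i, map_zero, zero_mul]
  · intro t
    -- choose coordinate maps
    have hΦex : ∀ (i : Fin n) (V : {V : X.Opens // IsAffineOpen V ∧ V ≤ f ⁻¹ᵁ U}),
        ∃ Φ : Γ(P, pX ⁻¹ᵁ V.1 ⊓ pW ⁻¹ᵁ (g ⁻¹ᵁ U)) →+ Γ(X, V.1),
          ∀ (c : Γ(X, V.1)) (b : Γ(W, g ⁻¹ᵁ U)),
            Φ ((pX.appLE V.1 _ inf_le_left).hom c * (pW.appLE (g ⁻¹ᵁ U) _ inf_le_right).hom b) =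
              c * (f.appLE U V.1 V.2.2).hom (G b i) :=
      fun i V => pushout_coord (key V.1 V.2.1 V.2.2) (fun y => G y i) (hadd i) (hlin i)
    choose Φ hΦ using hΦex
    -- compatibility of the coordinate maps with restriction
    have hcompat : ∀ (i : Fin n) (V V' : {V : X.Opens // IsAffineOpen V ∧ V ≤ f ⁻¹ᵁ U})
        (h : V'.1 ≤ V.1) (d : Γ(P, pX ⁻¹ᵁ V.1 ⊓ pW ⁻¹ᵁ (g ⁻¹ᵁ U))),
        res V.1 V'.1 h (Φ i V d) =
          Φ i V' (res _ (pX ⁻¹ᵁ V'.1 ⊓ pW ⁻¹ᵁ (g ⁻¹ᵁ U))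
            (inf_le_inf (fun _ hy => h hy) le_rfl) d) := by
      intro i V V' h d
      have hext := pushout_addHom_ext (key V.1 V.2.1 V.2.2)
        ((res V.1 V'.1 h).toAddMonoidHom.comp (Φ i V))
        ((Φ i V').comp (res _ (pX ⁻¹ᵁ V'.1 ⊓ pW ⁻¹ᵁ (g ⁻¹ᵁ U))
            (inf_le_inf (fun _ hy => h hy) le_rfl)).toAddMonoidHom) ?_
      · exact DFunLike.congr_fun hext d
      · intro c b
        simp only [AddMonoidHom.coe_comp, Function.comp_apply, RingHom.toAddMonoidHom_eq_coe,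
          AddMonoidHom.coe_coe]
        rw [hΦ i V c b, map_mul, map_mul, appLE_res, appLE_res, appLE_res,
          ← res_appLE pX (U := V.1) (U' := V'.1) inf_le_left h c]
        exact (hΦ i V' _ b).symm
    -- glue the coordinates
    have hcoord : ∀ i : Fin n, ∃ c : Γ(X, f ⁻¹ᵁ U),
        ∀ V : {V : X.Opens // IsAffineOpen V ∧ V ≤ f ⁻¹ᵁ U},
          res (f ⁻¹ᵁ U) V.1 V.2.2 c =
            Φ i V (res (pW ⁻¹ᵁ (g ⁻¹ᵁ U)) _ inf_le_right t) := by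
      intro i
      refine glue_sections (fun V : {V : X.Opens // IsAffineOpen V ∧ V ≤ f ⁻¹ᵁ U} => V.1)
        (f ⁻¹ᵁ U) (fun V => V.2.2) hcovX ?_ _ ?_
      · intro V V' y hy
        obtain ⟨_, ⟨V'', hV'', rfl⟩, hyV'', hV''le⟩ :=
          X.isBasis_affineOpens.exists_subset_of_mem_open hy (V.1 ⊓ V'.1).isOpen
        have hle : V'' ≤ V.1 ⊓ V'.1 := SetLike.coe_subset_coe.mp hV''le
        exact Opens.mem_iSup.mpr
          ⟨⟨⟨V'', hV'', hle.trans (inf_le_left.trans V.2.2)⟩, hle⟩, hyV''⟩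
      · intro V V' h
        rw [hcompat i V V' h, res_res]
    choose c hc using hcoord
    -- descend the coordinates to the base
    have hr : ∀ i : Fin n, ∃ r : Γ(S, U), (f.app U).hom r = c i := fun i => hfU.2 (c i)
    choose r hr using hr
    refine ⟨∑ i : Fin n, (g.app U).hom (r i) * F (fun j => if i = j then 1 else 0), ?_⟩
    refine TopCat.Sheaf.eq_of_locally_eq' P.sheaf
      (fun V : {V : X.Opens // IsAffineOpen V ∧ V ≤ f ⁻¹ᵁ U} =>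
        pX ⁻¹ᵁ V.1 ⊓ pW ⁻¹ᵁ (g ⁻¹ᵁ U)) (pW ⁻¹ᵁ (g ⁻¹ᵁ U))
      (fun V => homOfLE inf_le_right) hcovP _ _ ?_
    intro V
    change res (pW ⁻¹ᵁ (g ⁻¹ᵁ U)) _ inf_le_right ((pW.app (g ⁻¹ᵁ U)).hom _) =
      res (pW ⁻¹ᵁ (g ⁻¹ᵁ U)) _ inf_le_right t
    -- the reconstruction identity on the pushout
    have hrec : ∀ d : Γ(P, pX ⁻¹ᵁ V.1 ⊓ pW ⁻¹ᵁ (g ⁻¹ᵁ U)),
        d = ∑ i : Fin n, (pX.appLE V.1 _ inf_le_left).hom (Φ i V d) *
          (pW.appLE (g ⁻¹ᵁ U) _ inf_le_right).hom (F (fun j => if i = j then 1 else 0)) := by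
      intro d
      have hext := pushout_addHom_ext (key V.1 V.2.1 V.2.2)
        (AddMonoidHom.id _)
        (∑ i : Fin n, (AddMonoidHom.mulRight ((pW.appLE (g ⁻¹ᵁ U)
            (pX ⁻¹ᵁ V.1 ⊓ pW ⁻¹ᵁ (g ⁻¹ᵁ U)) inf_le_right).hom
              (F (fun j => if i = j then 1 else 0)))).comp
          ((pX.appLE V.1 (pX ⁻¹ᵁ V.1 ⊓ pW ⁻¹ᵁ (g ⁻¹ᵁ U))
            inf_le_left).hom.toAddMonoidHom.comp (Φ i V))) ?_
      · have := DFunLike.congr_fun hext d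
        simpa only [AddMonoidHom.id_apply, AddMonoidHom.finsetSum_apply, AddMonoidHom.coe_comp,
          Function.comp_apply, AddMonoidHom.coe_mulRight, RingHom.toAddMonoidHom_eq_coe,
          AddMonoidHom.coe_coe] using this
      · intro c' b'
        simp only [AddMonoidHom.id_apply, AddMonoidHom.finsetSum_apply, AddMonoidHom.coe_comp,
          Function.comp_apply, AddMonoidHom.coe_mulRight, RingHom.toAddMonoidHom_eq_coe,
          AddMonoidHom.coe_coe]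
        have hsq : ∀ r' : Γ(S, U), (pX.appLE V.1 (pX ⁻¹ᵁ V.1 ⊓ pW ⁻¹ᵁ (g ⁻¹ᵁ U))
            inf_le_left).hom ((f.appLE U V.1 V.2.2).hom r') =
            (pW.appLE (g ⁻¹ᵁ U) (pX ⁻¹ᵁ V.1 ⊓ pW ⁻¹ᵁ (g ⁻¹ᵁ U)) inf_le_right).hom
              ((g.app U).hom r') := fun r' =>
          congr($((key V.1 V.2.1 V.2.2).w).hom r')
        conv_lhs => rw [hdual b']
        rw [map_sum, Finset.mul_sum]
        refine Finset.sum_congr rfl fun i _ => ?_
        rw [hΦ i V c' b']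
        simp only [map_mul]
        rw [hsq]
        ring
    rw [hrec (res (pW ⁻¹ᵁ (g ⁻¹ᵁ U)) _ inf_le_right t), map_sum, map_sum]
    refine Finset.sum_congr rfl fun i _ => ?_
    rw [map_mul, map_mul]
    have hsq : (pW.appLE (g ⁻¹ᵁ U) (pX ⁻¹ᵁ V.1 ⊓ pW ⁻¹ᵁ (g ⁻¹ᵁ U)) inf_le_right).hom
        ((g.app U).hom (r i)) = (pX.appLE V.1 (pX ⁻¹ᵁ V.1 ⊓ pW ⁻¹ᵁ (g ⁻¹ᵁ U))
          inf_le_left).hom ((f.appLE U V.1 V.2.2).hom (r i)) :=
      (congr($((key V.1 V.2.1 V.2.2).w).hom (r i))).symm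
    have h3 : (f.appLE U V.1 V.2.2).hom (r i) =
        Φ i V (res (pW ⁻¹ᵁ (g ⁻¹ᵁ U)) _ inf_le_right t) := by
      rw [← hc i V, ← hr i]
      rfl
    change (pW.appLE (g ⁻¹ᵁ U) _ inf_le_right).hom ((g.app U).hom (r i)) *
      (pW.appLE (g ⁻¹ᵁ U) _ inf_le_right).hom _ = _
    rw [hsq, h3]

/-- base change of `O_S ≅ f_* O_X` along a finite locally free morphism, on global sections -/
theorem appTop_bijective (H : IsPullback pX pW f g) [IsFinite g] [Flat g]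
    [LocallyOfFinitePresentation g] (hf : ∀ U : S.Opens, Function.Bijective (f.app U).hom) :
    Function.Bijective pW.appTop.hom := by
  have hloc : ∀ U : {U : S.Opens // IsAffineOpen U},
      Function.Bijective (pW.app (g ⁻¹ᵁ U.1)).hom :=
    fun U => app_bijective_of_isAffineOpen H U.1 U.2 (hf U.1)
  have hcovS : ∀ (O : S.Opens) (x : S), x ∈ O →
      ∃ U : {U : S.Opens // IsAffineOpen U}, x ∈ U.1 ∧ U.1 ≤ O := by
    intro O x hx
    obtain ⟨_, ⟨U, hU, rfl⟩, hxU, hUO⟩ :=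
      S.isBasis_affineOpens.exists_subset_of_mem_open hx O.isOpen
    exact ⟨⟨U, hU⟩, hxU, SetLike.coe_subset_coe.mp hUO⟩
  have hcovW : (⊤ : W.Opens) ≤ ⨆ U : {U : S.Opens // IsAffineOpen U}, g ⁻¹ᵁ U.1 := by
    intro w _
    obtain ⟨U, hwU, -⟩ := hcovS ⊤ (g w) trivial
    exact Opens.mem_iSup.mpr ⟨U, hwU⟩
  have hcovP : (⊤ : P.Opens) ≤
      ⨆ U : {U : S.Opens // IsAffineOpen U}, pW ⁻¹ᵁ (g ⁻¹ᵁ U.1) := by
    intro y _
    obtain ⟨U, hwU, -⟩ := hcovS ⊤ (g (pW y)) trivial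
    exact Opens.mem_iSup.mpr ⟨U, hwU⟩
  -- naturality of `pW.app`
  have hnat : ∀ (O O' : W.Opens) (h : O' ≤ O) (s : Γ(W, O)),
      (pW.app O').hom (res O O' h s) =
        res (pW ⁻¹ᵁ O) (pW ⁻¹ᵁ O') (fun _ hy => h hy) ((pW.app O).hom s) := by
    intro O O' h s
    have h1 : (pW.app O').hom (res O O' h s) = (pW.appLE O' (pW ⁻¹ᵁ O') le_rfl).hom
        (res O O' h s) := by rw [Scheme.Hom.appLE_eq_app]
    have h2 : (pW.app O).hom s = (pW.appLE O (pW ⁻¹ᵁ O) le_rfl).hom s := by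
      rw [Scheme.Hom.appLE_eq_app]
    rw [h1, h2, res_appLE, appLE_res]
  constructor
  · rw [injective_iff_map_eq_zero]
    intro s hs
    refine TopCat.Sheaf.eq_of_locally_eq' W.sheaf
      (fun U : {U : S.Opens // IsAffineOpen U} => g ⁻¹ᵁ U.1) ⊤
      (fun U => homOfLE le_top) hcovW _ 0 ?_
    intro U
    change res ⊤ (g ⁻¹ᵁ U.1) le_top s = res ⊤ (g ⁻¹ᵁ U.1) le_top 0
    rw [map_zero]
    apply (hloc U).1
    rw [map_zero, hnat ⊤ (g ⁻¹ᵁ U.1) le_top s]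
    have : (pW.app ⊤).hom s = 0 := hs
    rw [this, map_zero]
  · intro t
    have hsU : ∀ U : {U : S.Opens // IsAffineOpen U}, ∃ s : Γ(W, g ⁻¹ᵁ U.1),
        (pW.app (g ⁻¹ᵁ U.1)).hom s = res ⊤ (pW ⁻¹ᵁ (g ⁻¹ᵁ U.1)) le_top t :=
      fun U => (hloc U).2 _
    choose sU hsU using hsU
    obtain ⟨s, hs⟩ := glue_sections (fun U : {U : S.Opens // IsAffineOpen U} => g ⁻¹ᵁ U.1) ⊤
      (fun _ => le_top) hcovW
      (by
        intro U U' w hw
        obtain ⟨U'', hwU'', hU''⟩ := hcovS (U.1 ⊓ U'.1) (g w) hw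
        refine Opens.mem_iSup.mpr ⟨⟨U'', ?_⟩, hwU''⟩
        intro w' hw'
        exact hU'' hw')
      sU
      (by
        intro U U'' h
        apply (hloc U'').1
        rw [hnat _ _ h, hsU U, hsU U'', res_res])
    refine ⟨s, ?_⟩
    refine TopCat.Sheaf.eq_of_locally_eq' P.sheaf
      (fun U : {U : S.Opens // IsAffineOpen U} => pW ⁻¹ᵁ (g ⁻¹ᵁ U.1)) ⊤
      (fun U => homOfLE le_top) hcovP _ _ ?_
    intro U
    change res ⊤ (pW ⁻¹ᵁ (g ⁻¹ᵁ U.1)) le_top ((pW.app ⊤).hom s) =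
      res ⊤ (pW ⁻¹ᵁ (g ⁻¹ᵁ U.1)) le_top t
    have := hnat ⊤ (g ⁻¹ᵁ U.1) le_top s
    rw [hs U, hsU U] at this
    exact this.symm

end Main

open Groth.Agent.H68.ClopenIdem in
/-- if `p.appTop` is bijective, clopen subsets lift uniquely along `p` -/
theorem clopen_lift_of_appTop_bijective {P W : Scheme.{u}} (p : P ⟶ W)
    (hp : Function.Bijective p.appTop.hom) :
    (∀ T : Set W, IsClopen T → p ⁻¹' T = Set.univ → T = Set.univ) ∧
    (∀ T' : Set P, IsClopen T' → ∃ T : Set W, IsClopen T ∧ p ⁻¹' T = T') := by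
  have hpre : ∀ ε : Γ(W, ⊤), p ⁻¹' (W.basicOpen ε : Set W) =
      (P.basicOpen (p.appTop.hom ε) : Set P) := by
    intro ε
    exact congrArg (fun O : P.Opens => (O : Set P)) (Scheme.preimage_basicOpen_top p ε)
  constructor
  · intro T hT hpreT
    obtain ⟨ε, hε, rfl⟩ := exists_idempotent_of_isClopen T hT
    rw [hpre] at hpreT
    have h1 : P.basicOpen (p.appTop.hom ε) = P.basicOpen (1 : Γ(P, ⊤)) := by
      apply SetLike.coe_injective
      rw [hpreT, Scheme.basicOpen_of_isUnit _ isUnit_one]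
      rfl
    have h2 : p.appTop.hom ε = 1 :=
      eq_of_basicOpen_eq (hε.map p.appTop.hom) IsIdempotentElem.one h1
    have h3 : ε = 1 := hp.1 (h2.trans (map_one _).symm)
    rw [h3, Scheme.basicOpen_of_isUnit _ isUnit_one]
    rfl
  · intro T' hT'
    obtain ⟨ε', hε', rfl⟩ := exists_idempotent_of_isClopen T' hT'
    obtain ⟨ε, rfl⟩ := hp.2 ε'
    have hε : IsIdempotentElem ε := by
      apply hp.1
      rw [map_mul]
      exact hε'
    exact ⟨W.basicOpen ε, isClopen_basicOpen hε, hpre ε⟩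

/-- `O_S ≅ f_* O_X` on all opens implies the clopen-lifting property for finite étale covers -/
theorem clopenBij {X S : Scheme.{u}} (f : X ⟶ S)
    (hf : ∀ U : S.Opens, Function.Bijective (f.app U).hom) :
    Groth.Agent.H68.FEtFF.ClopenBij f := by
  have key : ∀ W : FEt.Cat S, Function.Bijective (pullback.fst W.hom f).appTop.hom := by
    intro W
    haveI : IsFinite W.hom := W.prop.1
    haveI : Etale W.hom := W.prop.2
    exact appTop_bijective (IsPullback.of_hasPullback W.hom f).flip hf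
  exact ⟨fun W T hT h => (clopen_lift_of_appTop_bijective _ (key W)).1 T hT h,
    fun W T' hT' => (clopen_lift_of_appTop_bijective _ (key W)).2 T' hT'⟩

end Groth.Agent.H68.SecBC
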