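import Mathlib
import Groth.Agent.H68.SecBC
import Groth.Agent.H68.ClopenIdem

/-!
# Global sections of a base change `X_K` of a qcqs `k`-scheme, and connectedness

* `ConnRing A`: `A` is nontrivial with only the trivial idempotents.
* `connRing_of_connectedSpace`, `connectedSpace_of_connRing`: a scheme is connected iff its ring
  of global sections is a `ConnRing`.
* `exists_tensor_equiv`: for `f : X ⟶ Spec k` qcqs and a field map `φ : k ⟶ K`,
  `Γ(X ×ₖ K, ⊤) ≃+* K ⊗[k] Γ(X, ⊤)`.
* `isUnit_or_isNilpotent`: in an integral algebra over a field with only trivial idempotents every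
  element is a unit or nilpotent; `isLocalRing_of_conn`, `ringKrullDim_eq_zero_of_conn`.
* `connRing_tensor`: if `R` is nontrivial and every element of `R` has a `q^n`-th power in
  `k + nil(R)`, then `K ⊗[k] R` is a `ConnRing` for every field `K / k`.
* `forward`: conversely, if `K̄ ⊗[k] R` is a `ConnRing` for an algebraically closed `K̄`, then `R` is
  local of dimension `0` and its residue field is purely inseparable over `k`.
-/

set_option autoImplicit false
universe u

open CategoryTheory CategoryTheory.Limits AlgebraicGeometry TensorProduct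

namespace Groth.Agent.H68.GeomConnAlg

/-- nontrivial ring with only the trivial idempotents -/
def ConnRing (A : Type*) [CommRing A] : Prop :=
  Nontrivial A ∧ ∀ e : A, IsIdempotentElem e → e = 0 ∨ e = 1

theorem ConnRing.of_ringEquiv {A B : Type*} [CommRing A] [CommRing B] (e : A ≃+* B)
    (h : ConnRing A) : ConnRing B := by
  haveI := h.1
  refine ⟨e.injective.nontrivial, fun b hb => ?_⟩
  have hb' : IsIdempotentElem (e.symm b) := hb.map e.symm
  rcases h.2 _ hb' with h0 | h1
  · left
    exact (map_eq_zero_iff e.symm e.symm.injective).mp h0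
  · right
    exact (map_eq_one_iff e.symm e.symm.injective).mp h1

theorem eq_zero_of_idem_of_nilpotent {A : Type*} [CommRing A] {e : A} (he : IsIdempotentElem e)
    (hn : IsNilpotent e) : e = 0 := by
  obtain ⟨m, hm⟩ := hn
  cases m with
  | zero =>
    rw [pow_zero] at hm
    rw [← mul_one e, hm, mul_zero]
  | succ m => rw [← he.pow_succ_eq m, hm]

section Dictionary

theorem connRing_of_connectedSpace (P : Scheme.{u}) [ConnectedSpace P] : ConnRing Γ(P, ⊤) := by
  haveI : Nonempty ↥(⊤ : P.Opens) := ⟨⟨Classical.arbitrary P, trivial⟩⟩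
  refine ⟨inferInstance, fun e he => ?_⟩
  have hcl := ClopenIdem.isClopen_basicOpen he
  rcases isClopen_iff.mp hcl with h | h
  · left
    refine ClopenIdem.eq_of_basicOpen_eq he IsIdempotentElem.zero ?_
    rw [Scheme.basicOpen_zero]
    exact SetLike.coe_injective (by rw [h]; rfl)
  · right
    refine ClopenIdem.eq_of_basicOpen_eq he IsIdempotentElem.one ?_
    rw [Scheme.basicOpen_of_isUnit _ isUnit_one]
    exact SetLike.coe_injective (by rw [h]; rfl)

theorem connectedSpace_of_connRing (P : Scheme.{u}) (h : ConnRing Γ(P, ⊤)) : ConnectedSpace P := by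
  haveI := h.1
  haveI : Nonempty P := by
    by_contra hne
    rw [not_nonempty_iff] at hne
    have htop : (⊤ : P.Opens) = ⊥ := by
      ext x
      exact (IsEmpty.false x).elim
    haveI : Subsingleton Γ(P, ⊤) := by rw [htop]; infer_instance
    exact not_subsingleton Γ(P, ⊤) ‹_›
  haveI : PreconnectedSpace P := preconnectedSpace_iff_clopen.mpr fun s hs => by
    obtain ⟨ε, hε, rfl⟩ := ClopenIdem.exists_idempotent_of_isClopen s hs
    rcases h.2 ε hε with rfl | rfl
    · left
      rw [Scheme.basicOpen_zero]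
      rfl
    · right
      rw [Scheme.basicOpen_of_isUnit _ isUnit_one]
      rfl
  exact { toPreconnectedSpace := ‹_›, toNonempty := ‹_› }

end Dictionary

section Step1

theorem isUnit_or_isNilpotent_of_pow {A : Type*} [CommRing A]
    (hA : ∀ e : A, IsIdempotentElem e → e = 0 ∨ e = 1) {a b : A} {n : ℕ}
    (h : a ^ (n + 1) * b = a ^ n) : IsUnit a ∨ IsNilpotent a := by
  have key : ∀ j : ℕ, a ^ (n + j) * b ^ j = a ^ n := by
    intro j
    induction j with
    | zero => simp
    | succ j ih =>
      calc a ^ (n + (j + 1)) * b ^ (j + 1) = a ^ j * (a ^ (n + 1) * b) * b ^ j := by ring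
        _ = a ^ (n + j) * b ^ j := by rw [h]; ring
        _ = a ^ n := ih
  have hk := key (n + 1)
  have he : IsIdempotentElem (a ^ (n + 1) * b ^ (n + 1)) := by
    change a ^ (n + 1) * b ^ (n + 1) * (a ^ (n + 1) * b ^ (n + 1)) = _
    calc a ^ (n + 1) * b ^ (n + 1) * (a ^ (n + 1) * b ^ (n + 1))
        = a * (a ^ (n + (n + 1)) * b ^ (n + 1)) * b ^ (n + 1) := by ring
      _ = a * a ^ n * b ^ (n + 1) := by rw [hk]
      _ = a ^ (n + 1) * b ^ (n + 1) := by ring
  rcases hA _ he with h0 | h1
  · right
    refine ⟨n, ?_⟩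
    calc a ^ n = a ^ (n + (n + 1)) * b ^ (n + 1) := hk.symm
      _ = a ^ n * (a ^ (n + 1) * b ^ (n + 1)) := by ring
      _ = 0 := by rw [h0, mul_zero]
  · left
    refine IsUnit.of_mul_eq_one (a ^ n * b ^ (n + 1)) ?_
    rw [← h1]
    ring

variable {k A : Type*} [Field k] [CommRing A] [Algebra k A]

theorem isUnit_or_isNilpotent (hA : ∀ e : A, IsIdempotentElem e → e = 0 ∨ e = 1) (a : A)
    (ha : IsIntegral k a) : IsUnit a ∨ IsNilpotent a := by
  let B := Algebra.adjoin k ({a} : Set A)
  haveI : Module.Finite k B := Module.Finite.iff_fg.mpr ha.fg_adjoin_singleton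
  haveI : IsArtinianRing B := IsArtinianRing.of_finite k B
  let a' : B := ⟨a, Algebra.subset_adjoin (Set.mem_singleton a)⟩
  obtain ⟨n, y, hy⟩ := IsArtinian.exists_pow_succ_smul_dvd a' (1 : B)
  have h1 : a ^ (n + 1) * (y : A) = a ^ n := by
    have := congrArg (Subtype.val) hy
    simpa [smul_eq_mul, a'] using this
  exact isUnit_or_isNilpotent_of_pow hA h1

theorem isLocalRing_of_conn [Algebra.IsIntegral k A] (hA : ConnRing A) : IsLocalRing A := by
  haveI := hA.1
  refine IsLocalRing.of_nonunits_add ?_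
  intro a b ha hb
  have ha' := (isUnit_or_isNilpotent hA.2 a (Algebra.IsIntegral.isIntegral (R := k) a)).resolve_left ha
  have hb' := (isUnit_or_isNilpotent hA.2 b (Algebra.IsIntegral.isIntegral (R := k) b)).resolve_left hb
  have hab : IsNilpotent (a + b) := Commute.isNilpotent_add (Commute.all a b) ha' hb'
  intro hu
  obtain ⟨m, hm⟩ := hab
  have := hu.pow m
  rw [hm] at this
  exact not_isUnit_zero this

theorem ringKrullDim_eq_zero_of_conn [Algebra.IsIntegral k A] (hA : ConnRing A) :
    ringKrullDim A = 0 := by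
  haveI := hA.1
  haveI := isLocalRing_of_conn (k := k) hA
  refine ringKrullDimZero_iff_ringKrullDim_eq_zero.mp (Ring.KrullDimLE.mk₀ fun I hI => ?_)
  have : I = IsLocalRing.maximalIdeal A := by
    refine le_antisymm (IsLocalRing.le_maximalIdeal hI.ne_top) fun a ha => ?_
    have ha' := (isUnit_or_isNilpotent hA.2 a (Algebra.IsIntegral.isIntegral (R := k) a)).resolve_left
      ((IsLocalRing.mem_maximalIdeal a).mp ha)
    obtain ⟨m, hm⟩ := ha'
    exact hI.mem_of_pow_mem m (by rw [hm]; exact I.zero_mem)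
  rw [this]
  exact IsLocalRing.maximalIdeal.isMaximal A

end Step1


section Bridge

variable {k K : Type u} [Field k] [Field K] {X : Scheme.{u}} (f : X ⟶ Spec (CommRingCat.of k))

/-- the structure map `k → Γ(X, ⊤)` of a `k`-scheme -/
noncomputable abbrev strMap : CommRingCat.of k ⟶ Γ(X, ⊤) :=
  (Scheme.ΓSpecIso (CommRingCat.of k)).inv ≫ f.appTop

theorem strMap_isIntegral [UniversallyClosed f] : (strMap f).hom.IsIntegral := by
  apply RingHom.isIntegral_respectsIso.2
    (e := (Scheme.ΓSpecIso (CommRingCat.of k)).symm.commRingCatIsoToRingEquiv)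
  exact isIntegral_appTop_of_universallyClosed f

/-- flat base change of global sections along a field extension -/
theorem exists_tensor_equiv [QuasiCompact f] [QuasiSeparated f]
    (φ : CommRingCat.of k ⟶ CommRingCat.of K) :
    letI := φ.hom.toAlgebra
    letI := (strMap f).hom.toAlgebra
    Nonempty ((K ⊗[k] Γ(X, ⊤)) ≃+* Γ(pullback f (Spec.map φ), ⊤)) := by
  haveI : CompactSpace X := QuasiCompact.compactSpace_of_compactSpace f
  haveI : QuasiSeparatedSpace X := quasiSeparatedSpace_of_quasiSeparated f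
  letI := φ.hom.toAlgebra
  haveI : Flat (Spec.map φ) := by
    rw [Flat.SpecMap_iff]
    exact RingHom.flat_algebraMap_iff.mpr inferInstance
  have H : IsPullback (pullback.fst f (Spec.map φ)) (pullback.snd f (Spec.map φ)) f
      (Spec.map φ) := IsPullback.of_hasPullback _ _
  have hUY : (⊤ : (pullback f (Spec.map φ)).Opens) =
      pullback.fst f (Spec.map φ) ⁻¹ᵁ ⊤ ⊓ pullback.snd f (Spec.map φ) ⁻¹ᵁ ⊤ := by
    simp
  have hiso := isIso_pushoutSection_of_isQuasiSeparated_of_flat_right H
    (US := ⊤) (UT := ⊤) (UX := ⊤) (UY := ⊤) le_top le_top hUY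
    (isAffineOpen_top _) (isAffineOpen_top _)
    (by simpa using isCompact_univ (X := X))
    (by simpa using isQuasiSeparated_univ (α := X))
  have hpo := (isIso_pushoutSection_iff H le_top le_top hUY).mp hiso
  rw [ClopenIdem.appLE_top_top, ClopenIdem.appLE_top_top, ClopenIdem.appLE_top_top,
    ClopenIdem.appLE_top_top] at hpo
  have hpo' : IsPushout (strMap f) φ (pullback.fst f (Spec.map φ)).appTop
      ((Scheme.ΓSpecIso (CommRingCat.of K)).inv ≫ (pullback.snd f (Spec.map φ)).appTop) :=
    IsPushout.of_iso hpo (Scheme.ΓSpecIso (CommRingCat.of k)) (Iso.refl _)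
      (Scheme.ΓSpecIso (CommRingCat.of K)) (Iso.refl _) (by simp [strMap])
      (Scheme.ΓSpecIso_naturality φ) (by simp) (by simp)
  obtain ⟨e, -⟩ := SecBC.pushout_tensor_iso hpo'.flip
  exact ⟨e⟩

end Bridge


section Tensor

variable {k R K : Type*} [Field k] [CommRing R] [Algebra k R] [Field K] [Algebra k K]

/-- if every element of `R` has a `q^n`-th power in `k + nil(R)`, then `K ⊗[k] R` has only the
trivial idempotents -/
theorem connRing_tensor (q : ℕ) [ExpChar k q] [Nontrivial R]
    (hpi : ∀ a : R, ∃ (n : ℕ) (c : k), IsNilpotent (a ^ q ^ n - algebraMap k R c)) :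
    ConnRing (K ⊗[k] R) := by
  haveI : Nontrivial (K ⊗[k] R) :=
    Algebra.TensorProduct.nontrivial_of_algebraMap_injective_of_flat_left k K R
      (algebraMap k R).injective
  set N : Ideal (K ⊗[k] R) := nilradical (K ⊗[k] R) with hN
  have hNtop : N ≠ ⊤ := by
    intro h
    have h1 : (1 : K ⊗[k] R) ∈ N := by rw [h]; trivial
    obtain ⟨m, hm⟩ := mem_nilradical.mp h1
    rw [one_pow] at hm
    exact one_ne_zero hm
  haveI : Nontrivial ((K ⊗[k] R) ⧸ N) := Ideal.Quotient.nontrivial_iff.mpr hNtop
  haveI : ExpChar ((K ⊗[k] R) ⧸ N) q :=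
    expChar_of_injective_algebraMap (algebraMap k ((K ⊗[k] R) ⧸ N)).injective q
  have hmem : ∀ x : K ⊗[k] R,
      Ideal.Quotient.mk N x ∈ Subalgebra.perfectClosure K ((K ⊗[k] R) ⧸ N) q := by
    intro x
    induction x using TensorProduct.induction_on with
    | zero => rw [map_zero]; exact zero_mem _
    | add x y hx hy => rw [map_add]; exact add_mem hx hy
    | tmul c a =>
      have h1 : Ideal.Quotient.mk N ((1 : K) ⊗ₜ[k] a) ∈
          Subalgebra.perfectClosure K ((K ⊗[k] R) ⧸ N) q := by
        obtain ⟨n, c', hc'⟩ := hpi a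
        refine ⟨n, algebraMap k K c', ?_⟩
        rw [← map_pow, Algebra.TensorProduct.tmul_pow, one_pow]
        symm
        rw [← Ideal.Quotient.mk_algebraMap, Ideal.Quotient.mk_eq_mk_iff_sub_mem]
        have : ((1 : K) ⊗ₜ[k] (a ^ q ^ n) : K ⊗[k] R) -
            algebraMap K (K ⊗[k] R) (algebraMap k K c') =
            (1 : K) ⊗ₜ[k] (a ^ q ^ n - algebraMap k R c') := by
          rw [TensorProduct.tmul_sub, Algebra.TensorProduct.algebraMap_apply,
            Algebra.algebraMap_self, RingHom.id_apply, Algebra.algebraMap_eq_smul_one c',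
            Algebra.algebraMap_eq_smul_one c', TensorProduct.smul_tmul]
        rw [this, hN, mem_nilradical]
        obtain ⟨m, hm⟩ := hc'
        exact ⟨m, by rw [Algebra.TensorProduct.tmul_pow, hm, TensorProduct.tmul_zero]⟩
      have h2 : (c ⊗ₜ[k] a : K ⊗[k] R) = c • ((1 : K) ⊗ₜ[k] a) := by
        rw [TensorProduct.smul_tmul', smul_eq_mul, mul_one]
      rw [h2]
      have h3 : Ideal.Quotient.mk N (c • ((1 : K) ⊗ₜ[k] a)) =
          c • Ideal.Quotient.mk N ((1 : K) ⊗ₜ[k] a) := rfl
      rw [h3]
      exact Subalgebra.smul_mem _ h1 c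
  refine ⟨inferInstance, fun e he => ?_⟩
  obtain ⟨n, c, hc⟩ := hmem e
  have hq : q ^ n ≠ 0 := pow_ne_zero _ (expChar_pos k q).ne'
  obtain ⟨j, hj⟩ := Nat.exists_eq_succ_of_ne_zero hq
  have hpow : (Ideal.Quotient.mk N e) ^ q ^ n = Ideal.Quotient.mk N e := by
    rw [← map_pow, hj, he.pow_succ_eq j]
  rw [hpow] at hc
  -- hc : algebraMap K _ c = mk e
  have hc2 : c * c = c := by
    apply (algebraMap K ((K ⊗[k] R) ⧸ N)).injective
    rw [map_mul, hc, ← map_mul, he.eq]
  have hc01 : c = 0 ∨ c = 1 := by
    have h : c * (c - 1) = 0 := by rw [mul_sub, mul_one, hc2, sub_self]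
    rcases mul_eq_zero.mp h with h | h
    · exact Or.inl h
    · exact Or.inr (sub_eq_zero.mp h)
  rcases hc01 with rfl | rfl
  · left
    rw [map_zero] at hc
    have : e ∈ N := Ideal.Quotient.eq_zero_iff_mem.mp hc.symm
    exact eq_zero_of_idem_of_nilpotent he (mem_nilradical.mp this)
  · right
    rw [map_one] at hc
    have : 1 - e ∈ N := by
      rw [← Ideal.Quotient.eq_zero_iff_mem, map_sub, map_one, ← hc, sub_self]
    have h0 := eq_zero_of_idem_of_nilpotent he.one_sub (mem_nilradical.mp this)
    exact (sub_eq_zero.mp h0).symm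

end Tensor

section Forward

variable {k R : Type*} [Field k] [CommRing R] [Algebra k R] [Algebra.IsIntegral k R]

/-- if `K̄ ⊗[k] R` has only trivial idempotents for an algebraically closed field `K̄ / k`, then `R` is
local of dimension zero with purely inseparable residue field -/
theorem forward (Kb : Type*) [Field Kb] [IsAlgClosed Kb] [Algebra k Kb]
    (h : ConnRing (Kb ⊗[k] R)) (q : ℕ) [ExpChar k q] :
    IsLocalRing R ∧ ringKrullDim R = 0 ∧
      ∀ a : R, ∃ (n : ℕ) (c : k), IsNilpotent (a ^ q ^ n - algebraMap k R c) := by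
  haveI := h.1
  have hinj : Function.Injective (Algebra.TensorProduct.includeRight : R →ₐ[k] Kb ⊗[k] R) :=
    Algebra.TensorProduct.includeRight_injective (algebraMap k Kb).injective
  haveI : Nontrivial R := by
    by_contra hne
    haveI : Subsingleton R := not_nontrivial_iff_subsingleton.mp hne
    have : (1 : Kb ⊗[k] R) = 0 := by
      rw [Algebra.TensorProduct.one_def, Subsingleton.elim (1 : R) 0, TensorProduct.tmul_zero]
    exact one_ne_zero this
  have hR : ConnRing R := by
    refine ⟨inferInstance, fun e he => ?_⟩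
    have he' : IsIdempotentElem ((Algebra.TensorProduct.includeRight : R →ₐ[k] Kb ⊗[k] R) e) :=
      he.map _
    rcases h.2 _ he' with h0 | h1
    · left
      exact hinj (by rw [h0, map_zero])
    · right
      exact hinj (by rw [h1, map_one])
  haveI hloc : IsLocalRing R := isLocalRing_of_conn (k := k) hR
  refine ⟨hloc, ringKrullDim_eq_zero_of_conn (k := k) hR, ?_⟩
  have dich : ∀ a : R, IsUnit a ∨ IsNilpotent a := fun a =>
    isUnit_or_isNilpotent hR.2 a (Algebra.IsIntegral.isIntegral (R := k) a)
  have dichD : ∀ x : Kb ⊗[k] R, IsUnit x ∨ IsNilpotent x := fun x =>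
    isUnit_or_isNilpotent h.2 x (Algebra.IsIntegral.isIntegral (R := Kb) x)
  -- the residue field
  let κ := IsLocalRing.ResidueField R
  haveI : Algebra.IsIntegral k κ :=
    Algebra.IsIntegral.of_surjective (IsScalarTower.toAlgHom k R κ) IsLocalRing.residue_surjective
  haveI : Algebra.IsAlgebraic k κ := Algebra.IsIntegral.isAlgebraic
  have hsub : Subsingleton (κ →ₐ[k] Kb) := by
    refine ⟨fun σ τ => ?_⟩
    ext x
    obtain ⟨a, rfl⟩ := IsLocalRing.residue_surjective x
    let Sg : Kb ⊗[k] R →ₐ[Kb] Kb :=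
      Algebra.TensorProduct.lift (AlgHom.id Kb Kb) (σ.comp (IsScalarTower.toAlgHom k R κ))
        (fun _ _ => Commute.all _ _)
    let Tg : Kb ⊗[k] R →ₐ[Kb] Kb :=
      Algebra.TensorProduct.lift (AlgHom.id Kb Kb) (τ.comp (IsScalarTower.toAlgHom k R κ))
        (fun _ _ => Commute.all _ _)
    set s : Kb := σ (IsLocalRing.residue R a) with hs
    set x : Kb ⊗[k] R := (1 : Kb) ⊗ₜ[k] a - s ⊗ₜ[k] (1 : R) with hx
    have hSg : Sg x = 0 := by
      have e1 : (σ.comp (IsScalarTower.toAlgHom k R κ)) a = s := rfl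
      have e2 : (σ.comp (IsScalarTower.toAlgHom k R κ)) 1 = 1 := map_one _
      rw [hx, map_sub, Algebra.TensorProduct.lift_tmul, Algebra.TensorProduct.lift_tmul, e1, e2,
        AlgHom.id_apply, AlgHom.id_apply, one_mul, mul_one, sub_self]
    have hT : Tg x = τ (IsLocalRing.residue R a) - s := by
      have e1 : (τ.comp (IsScalarTower.toAlgHom k R κ)) a = τ (IsLocalRing.residue R a) := rfl
      have e2 : (τ.comp (IsScalarTower.toAlgHom k R κ)) 1 = 1 := map_one _
      rw [hx, map_sub, Algebra.TensorProduct.lift_tmul, Algebra.TensorProduct.lift_tmul, e1, e2,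
        AlgHom.id_apply, AlgHom.id_apply, one_mul, mul_one]
    have hxn : IsNilpotent x := by
      refine (dichD x).resolve_left fun hu => ?_
      have := hu.map Sg
      rw [hSg] at this
      exact not_isUnit_zero this
    have := (hxn.map Tg).eq_zero
    rw [hT, sub_eq_zero] at this
    exact this.symm
  haveI : IsPurelyInseparable k κ := by
    rw [isPurelyInseparable_iff_finSepDegree_eq_one, Field.finSepDegree_eq_of_isAlgClosed k κ Kb,
      Nat.card_eq_one_iff_unique]
    exact ⟨hsub, ⟨IsAlgClosed.lift⟩⟩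
  intro a
  obtain ⟨n, c, hc⟩ := IsPurelyInseparable.pow_mem k q (IsLocalRing.residue R a)
  refine ⟨n, c, (dich _).resolve_left ?_⟩
  change a ^ q ^ n - algebraMap k R c ∈ IsLocalRing.maximalIdeal R
  rw [← IsLocalRing.residue_eq_zero_iff, map_sub, map_pow, ← hc, sub_eq_zero]
  rfl

end Forward

end Groth.Agent.H68.GeomConnAlg
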