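import Mathlib

/-!
# (ITOP) for helper38's S1336/S1338 squad: counting irreducible components by a finite
family of locally closed irreducible pieces
-/

set_option autoImplicit false

namespace Groth.Agent.H68.IrrCountITOP

open Set

/-- The intersection of a preirreducible set with an open set is preirreducible. -/
theorem isPreirreducible_inter_open {Z : Type*} [TopologicalSpace Z] {W U : Set Z}
    (hW : IsPreirreducible W) (hU : IsOpen U) : IsPreirreducible (W ∩ U) := by
  intro u v hu hv ⟨x, ⟨hxW, hxU⟩, hxu⟩ ⟨y, ⟨hyW, hyU⟩, hyv⟩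
  obtain ⟨z, hzW, ⟨hzU, hzu⟩, ⟨_, hzv⟩⟩ := hW (U ∩ u) (U ∩ v) (hU.inter hu) (hU.inter hv)
    ⟨x, hxW, hxU, hxu⟩ ⟨y, hyW, hyU, hyv⟩
  exact ⟨z, ⟨hzW, hzU⟩, hzu, hzv⟩

theorem encard_irreducibleComponents_eq_card_quot {Z : Type*} [TopologicalSpace Z]
    {s N : Type*} [Finite N] (ι : N → s) (O : s → Set Z) (hO : ∀ i, IsOpen (O i))
    (C : N → Set Z) (F : N → Set Z) (hF : ∀ n, IsClosed (F n)) (hC : ∀ n, C n = F n ∩ O (ι n))
    (hirr : ∀ n, IsIrreducible (C n)) (hcov : ∀ i, O i ⊆ ⋃ n ∈ {n | ι n = i}, C n)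
    (hOcov : ⋃ i, O i = Set.univ) (hred : ∀ n k, ι n = ι k → C n ⊆ C k → n = k) :
    (irreducibleComponents Z).encard =
      ENat.card (Quot (fun n m : N => (C m ∩ O (ι n)).Nonempty ∧ C m ∩ O (ι n) ⊆ C n)) := by
  classical
  have hCO : ∀ n, C n ⊆ O (ι n) := fun n => by rw [hC n]; exact inter_subset_right
  have hCF : ∀ n, C n ⊆ F n := fun n => by rw [hC n]; exact inter_subset_left
  -- (F2)
  have hF2 : ∀ n, closure (C n) ∩ O (ι n) = C n := fun n => by
    apply subset_antisymm
    · rw [hC n]
      exact inter_subset_inter_left _ (closure_minimal (by rw [← hC n]; exact hCF n) (hF n))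
    · exact subset_inter subset_closure (hCO n)
  -- key: an irreducible set inside `O i` lies in some `C n` with `ι n = i`
  have key : ∀ (i : s) (W : Set Z), IsIrreducible W → W ⊆ O i → ∃ n, ι n = i ∧ W ⊆ C n := by
    intro i W hW hWO
    have hfin : {n | ι n = i}.Finite := Set.toFinite _
    have h1 := (isIrreducible_iff_sUnion_isClosed.mp hW) (hfin.toFinset.image F)
      (by
        intro z hz
        rw [Finset.mem_image] at hz
        obtain ⟨n, -, rfl⟩ := hz
        exact hF n)
      (by
        intro x hx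
        have := hcov i (hWO hx)
        rw [mem_iUnion₂] at this
        obtain ⟨n, hn, hxn⟩ := this
        refine mem_sUnion.mpr ⟨F n, ?_, hCF n hxn⟩
        rw [Finset.mem_coe, Finset.mem_image]
        exact ⟨n, hfin.mem_toFinset.mpr hn, rfl⟩)
    obtain ⟨z, hz, hWz⟩ := h1
    rw [Finset.mem_image] at hz
    obtain ⟨n, hn, rfl⟩ := hz
    have hn' : ι n = i := hfin.mem_toFinset.mp hn
    refine ⟨n, hn', ?_⟩
    rw [hC n, hn']
    exact subset_inter hWz hWO
  -- (F3)
  have hF3 : ∀ W : Set Z, IsIrreducible W → ∃ n, W ⊆ closure (C n) := by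
    intro W hW
    obtain ⟨x, hx⟩ := hW.nonempty
    have hxU : x ∈ ⋃ i, O i := by rw [hOcov]; exact mem_univ x
    obtain ⟨i, hi⟩ := mem_iUnion.mp hxU
    have hne : (W ∩ O i).Nonempty := ⟨x, hx, hi⟩
    obtain ⟨n, -, hn⟩ := key i (W ∩ O i)
      ⟨hne, isPreirreducible_inter_open hW.isPreirreducible (hO i)⟩ inter_subset_right
    exact ⟨n, (subset_closure_inter_of_isPreirreducible_of_isOpen hW.isPreirreducible (hO i)
      hne).trans (closure_mono hn)⟩
  have hclirr : ∀ n, IsIrreducible (closure (C n)) := fun n => (hirr n).closure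
  -- (F5')
  have hF5' : ∀ n m, C n ⊆ closure (C m) → closure (C m) ⊆ closure (C n) := by
    intro n m h
    have hne : (closure (C m) ∩ O (ι n)).Nonempty := by
      obtain ⟨x, hx⟩ := (hirr n).nonempty
      exact ⟨x, h hx, hCO n hx⟩
    obtain ⟨k, hk1, hk2⟩ := key (ι n) (closure (C m) ∩ O (ι n))
      ⟨hne, isPreirreducible_inter_open (hclirr m).isPreirreducible (hO _)⟩ inter_subset_right
    have hnk : n = k := hred n k hk1.symm ((subset_inter h (hCO n)).trans hk2)
    subst hnk
    exact (subset_closure_inter_of_isPreirreducible_of_isOpen (hclirr m).isPreirreducible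
      (hO _) hne).trans (closure_mono hk2)
  have hF5 : ∀ n m, closure (C n) ⊆ closure (C m) → closure (C n) = closure (C m) :=
    fun n m h => subset_antisymm h (hF5' n m (subset_closure.trans h))
  -- Claim 1
  have hcomp : irreducibleComponents Z = Set.range (fun n => closure (C n)) := by
    ext W
    constructor
    · intro hW
      obtain ⟨n, hn⟩ := hF3 W hW.1
      exact ⟨n, (hW.eq_of_ge (hclirr n) hn).symm ▸ rfl⟩
    · rintro ⟨n, rfl⟩
      refine ⟨hclirr n, ?_⟩
      intro W hW hnW
      obtain ⟨m, hm⟩ := hF3 W hW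
      have := hF5 n m (hnW.trans hm)
      exact hm.trans this.symm.subset
  -- Claim 2
  have hrel : ∀ n m, closure (C n) = closure (C m) ↔
      ((C m ∩ O (ι n)).Nonempty ∧ C m ∩ O (ι n) ⊆ C n) := by
    intro n m
    constructor
    · intro h
      constructor
      · obtain ⟨x, hx⟩ := (hirr n).nonempty
        have hx' : x ∈ closure (C m) := h ▸ subset_closure hx
        obtain ⟨y, hy1, hy2⟩ := mem_closure_iff.mp hx' (O (ι n)) (hO _) (hCO n hx)
        exact ⟨y, hy2, hy1⟩
      · calc C m ∩ O (ι n) ⊆ closure (C m) ∩ O (ι n) := inter_subset_inter_left _ subset_closure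
          _ = closure (C n) ∩ O (ι n) := by rw [h]
          _ = C n := hF2 n
    · rintro ⟨hne, hsub⟩
      have h1 : C m ⊆ closure (C n) :=
        (subset_closure_inter_of_isPreirreducible_of_isOpen (hirr m).isPreirreducible (hO _)
          hne).trans (closure_mono hsub)
      exact (hF5 m n (closure_minimal h1 isClosed_closure)).symm
  -- the bijection
  rw [hcomp]
  change ENat.card (Set.range fun n => closure (C n)) = _
  symm
  apply ENat.card_congr
  refine Equiv.ofBijective
    (Quot.lift (fun n => (⟨closure (C n), n, rfl⟩ : Set.range fun n => closure (C n)))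
      (fun n m h => Subtype.ext ((hrel n m).mpr h))) ⟨?_, ?_⟩
  · intro a b
    induction a using Quot.ind with | _ n => ?_
    induction b using Quot.ind with | _ m => ?_
    intro h
    exact Quot.sound ((hrel n m).mp (congrArg Subtype.val h))
  · rintro ⟨_, n, rfl⟩
    exact ⟨Quot.mk _ n, rfl⟩

end Groth.Agent.H68.IrrCountITOP
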