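import Mathlib

/-!
# (PRUNE) for helper38's S1336/S1338 squad: irredundant subfamily of a finite family of sets
-/

set_option autoImplicit false

namespace Groth.Agent.H68.IrrCountPRUNE

theorem exists_irredundant_subfamily {s N : Type*} [Finite N] {Z : Type*} (ι : N → s)
    (C : N → Set Z) :
    ∃ N' : Set N, (∀ n, ∃ n' ∈ N', ι n' = ι n ∧ C n ⊆ C n') ∧
      ∀ n ∈ N', ∀ k ∈ N', ι n = ι k → C n ⊆ C k → n = k := by
  classical
  rcases isEmpty_or_nonempty N with hN | hN
  · exact ⟨∅, fun n => (hN.false n).elim, fun n hn => (hN.false n).elim⟩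
  -- the key of an index, and a chosen representative for each key
  let key : N → s × Set Z := fun n => (ι n, C n)
  let rep : N → N := fun n => Function.invFun key (key n)
  have hkey_rep : ∀ n, key (rep n) = key n := fun n =>
    Function.invFun_eq (f := key) ⟨n, rfl⟩
  have hrep_congr : ∀ n k, key n = key k → rep n = rep k := fun n k h => by
    show Function.invFun key (key n) = Function.invFun key (key k)
    rw [h]
  have hι_rep : ∀ n, ι (rep n) = ι n := fun n => congrArg Prod.fst (hkey_rep n)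
  have hC_rep : ∀ n, C (rep n) = C n := fun n => congrArg Prod.snd (hkey_rep n)
  refine ⟨{n | rep n = n ∧ ∀ k, ι n = ι k → C n ⊆ C k → C k ⊆ C n}, ?_, ?_⟩
  · intro n
    -- pick `k` above `n` with `C k` maximal
    obtain ⟨k, hk⟩ := Set.Finite.exists_maximalFor C {k | ι k = ι n ∧ C n ⊆ C k}
      (Set.toFinite _) ⟨n, rfl, subset_rfl⟩
    obtain ⟨⟨hk1, hk2⟩, hk3⟩ := hk
    refine ⟨rep k, ⟨?_, ?_⟩, ?_, ?_⟩
    · exact hrep_congr _ _ (hkey_rep k)
    · intro m hm1 hm2
      rw [hC_rep] at hm2 ⊢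
      rw [hι_rep] at hm1
      exact hk3 (j := m) ⟨hm1.symm.trans hk1, hk2.trans hm2⟩ hm2
    · rw [hι_rep]; exact hk1
    · rw [hC_rep]; exact hk2
  · rintro n ⟨hn1, hn2⟩ k ⟨hk1, _⟩ h1 h2
    have h3 : C k ⊆ C n := hn2 k h1 h2
    have h4 : key n = key k := Prod.ext h1 (subset_antisymm h2 h3)
    rw [← hn1, ← hk1]
    exact hrep_congr _ _ h4

end Groth.Agent.H68.IrrCountPRUNE
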