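import Mathlib
import Groth.Prelude.Def_FEt
import Groth.Agent.H47.SmoothNormal
import Groth.Agent.H68.FEtFF

/-!
# Finite étale covers of a normal integral scheme: restriction to a preimmersion through the
generic point is fully faithful
-/

set_option autoImplicit false
universe u

namespace Groth.Agent.H68.FEtNormal

open CategoryTheory CategoryTheory.Limits AlgebraicGeometry

/-- normality ascends along étale morphisms at a point (no Noetherian hypothesis);
the argument is helper49's proof of S0066, direction `⇐`. -/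
theorem normal_stalk_of_etale {X Y : Scheme.{u}} (f : X ⟶ Y) [Etale f] (x : X)
    (h1 : IsDomain (Y.presheaf.stalk (f.base x)))
    (h2 : IsIntegrallyClosed (Y.presheaf.stalk (f.base x))) :
    IsDomain (X.presheaf.stalk x) ∧ IsIntegrallyClosed (X.presheaf.stalk x) := by
  haveI := h1
  haveI := h2
  obtain ⟨_, ⟨V, hV : IsAffineOpen V, rfl⟩, hfxV, -⟩ :=
    Y.isBasis_affineOpens.exists_subset_of_mem_open (Set.mem_univ (f x)) isOpen_univ
  obtain ⟨_, ⟨U, hU : IsAffineOpen U, rfl⟩, hxU, hUV⟩ :=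
    X.isBasis_affineOpens.exists_subset_of_mem_open
      (show x ∈ ((f ⁻¹ᵁ V : X.Opens) : Set X) from hfxV) (f ⁻¹ᵁ V).isOpen
  have e : U ≤ f ⁻¹ᵁ V := hUV
  have het : (f.appLE V U e).hom.Etale := HasRingHomProperty.appLE _ f ‹_› ⟨V, hV⟩ ⟨U, hU⟩ e
  letI algAB : Algebra Γ(Y, V) Γ(X, U) := (f.appLE V U e).hom.toAlgebra
  haveI : Algebra.Etale Γ(Y, V) Γ(X, U) := het
  haveI : Algebra.Smooth Γ(Y, V) Γ(X, U) := inferInstance
  have hcomap := IsAffineOpen.comap_primeIdealOf_appLE (f := f) (x := x) V hV U hU e hxU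
  have hp : (hV.primeIdealOf ⟨f x, e hxU⟩).asIdeal =
      (hU.primeIdealOf ⟨x, hxU⟩).asIdeal.comap (algebraMap Γ(Y, V) Γ(X, U)) :=
    (congrArg PrimeSpectrum.asIdeal hcomap).symm
  letI algX : Algebra Γ(X, U) (X.presheaf.stalk x) := (X.presheaf.germ U x hxU).hom.toAlgebra
  haveI locX : IsLocalization.AtPrime (X.presheaf.stalk x) (hU.primeIdealOf ⟨x, hxU⟩).asIdeal :=
    hU.isLocalization_stalk ⟨x, hxU⟩
  letI algY : Algebra Γ(Y, V) (Y.presheaf.stalk (f x)) :=
    (Y.presheaf.germ V (f x) (e hxU)).hom.toAlgebra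
  haveI locY : IsLocalization.AtPrime (Y.presheaf.stalk (f x))
      (hV.primeIdealOf ⟨f x, e hxU⟩).asIdeal :=
    hV.isLocalization_stalk ⟨f x, e hxU⟩
  let eX : Localization.AtPrime (hU.primeIdealOf ⟨x, hxU⟩).asIdeal ≃ₐ[Γ(X, U)]
      X.presheaf.stalk x :=
    IsLocalization.algEquiv (hU.primeIdealOf ⟨x, hxU⟩).asIdeal.primeCompl _ _
  let eY : Localization.AtPrime (hV.primeIdealOf ⟨f x, e hxU⟩).asIdeal ≃ₐ[Γ(Y, V)]
      Y.presheaf.stalk (f x) :=
    IsLocalization.algEquiv (hV.primeIdealOf ⟨f x, e hxU⟩).asIdeal.primeCompl _ _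
  haveI : IsDomain (Localization.AtPrime (hV.primeIdealOf ⟨f x, e hxU⟩).asIdeal) :=
    MulEquiv.isDomain (Y.presheaf.stalk (f x)) eY.toRingEquiv.toMulEquiv
  haveI : IsIntegrallyClosed (Localization.AtPrime (hV.primeIdealOf ⟨f x, e hxU⟩).asIdeal) :=
    IsIntegrallyClosed.of_equiv eY.symm.toRingEquiv
  obtain ⟨k1, k2⟩ :=
    Groth.Agent.H47.EtaleNormal.isDomain_isIntegrallyClosed_atPrime_of_smooth_of_under
      Γ(Y, V) Γ(X, U) (hU.primeIdealOf ⟨x, hxU⟩).asIdeal
      (hV.primeIdealOf ⟨f x, e hxU⟩).asIdeal hp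
  haveI := k1
  haveI := k2
  exact ⟨MulEquiv.isDomain (Localization.AtPrime (hU.primeIdealOf ⟨x, hxU⟩).asIdeal)
    eX.symm.toRingEquiv.toMulEquiv, IsIntegrallyClosed.of_equiv eX.toRingEquiv⟩

/-- decomposition of a finite étale cover (with domain stalks) of an integral scheme by the
closures of the points of the generic fibre -/
theorem generic_fibre_decomp {X Y : Scheme.{u}} [IsIntegral X] (f : Y ⟶ X) [IsFinite f]
    [Etale f] (hdom : ∀ y : Y, IsDomain (Y.presheaf.stalk y)) :
    (f ⁻¹' {genericPoint X}).Finite ∧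
    (∀ z ∈ f ⁻¹' {genericPoint X}, ∀ w : Y, w ⤳ z → w = z) ∧
    (∀ y : Y, ∃ z ∈ f ⁻¹' {genericPoint X}, y ∈ closure ({z} : Set Y)) ∧
    (∀ y : Y, ∀ z ∈ f ⁻¹' {genericPoint X}, ∀ z' ∈ f ⁻¹' {genericPoint X},
      y ∈ closure ({z} : Set Y) → y ∈ closure ({z'} : Set Y) → z = z') := by
  classical
  have hFfin : (f ⁻¹' {genericPoint X}).Finite := f.finite_preimage_singleton (genericPoint X)
  have hFdisc : _root_.IsDiscrete (f ⁻¹' {genericPoint X}) :=
    f.isDiscrete_preimage_singleton (genericPoint X)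
  -- points of the generic fibre are maximal
  have hmax : ∀ z ∈ f ⁻¹' {genericPoint X}, ∀ w : Y, w ⤳ z → w = z := by
    intro z hz w hwz
    have h1 : f w ⤳ f z := hwz.map f.continuous
    have hz' : f z = genericPoint X := hz
    rw [hz'] at h1
    have h2 : genericPoint X ⤳ f w := genericPoint_specializes (f w)
    have hw : w ∈ f ⁻¹' {genericPoint X} := (h1.antisymm h2).eq
    haveI : DiscreteTopology (f ⁻¹' {genericPoint X}) := hFdisc.to_subtype
    have h3 : (⟨w, hw⟩ : f ⁻¹' {genericPoint X}) ⤳ ⟨z, hz⟩ :=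
      (subtype_specializes_iff _ _).mpr hwz
    exact congrArg Subtype.val h3.eq
  -- every point is in the closure of a point of the generic fibre
  have hcover : ∀ y : Y, ∃ z ∈ f ⁻¹' {genericPoint X}, y ∈ closure ({z} : Set Y) := by
    intro y
    have hy : y ∈ closure (f ⁻¹' {genericPoint X}) := by
      rw [mem_closure_iff]
      intro V hV hyV
      have hopen : IsOpen (f '' V) := f.isOpenMap V hV
      have hne : (f '' V).Nonempty := ⟨f y, y, hyV, rfl⟩
      have hη : genericPoint X ∈ f '' V := by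
        rw [(genericPoint_spec X).mem_open_set_iff hopen]
        simpa using hne
      obtain ⟨v, hvV, hv⟩ := hη
      exact ⟨v, hvV, hv⟩
    have hrw : f ⁻¹' {genericPoint X} = ⋃ z ∈ f ⁻¹' {genericPoint X}, ({z} : Set Y) :=
      (Set.biUnion_of_singleton _).symm
    rw [hrw, hFfin.closure_biUnion] at hy
    simpa using hy
  -- two points of the generic fibre specializing to a common point are equal
  have huniq : ∀ y : Y, ∀ z ∈ f ⁻¹' {genericPoint X}, ∀ z' ∈ f ⁻¹' {genericPoint X},
      y ∈ closure ({z} : Set Y) → y ∈ closure ({z'} : Set Y) → z = z' := by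
    intro y z hz z' hz' hyz hyz'
    haveI := hdom y
    have key : ∀ t ∈ f ⁻¹' {genericPoint X}, y ∈ closure ({t} : Set Y) →
        t = Y.fromSpecStalk y ⟨⊥, Ideal.isPrime_bot⟩ := by
      intro t ht hyt
      have hsp : t ⤳ y := specializes_iff_mem_closure.mpr hyt
      have hmem : t ∈ Set.range (Y.fromSpecStalk y) := by
        rw [Scheme.range_fromSpecStalk]; exact hsp
      obtain ⟨𝔭, h𝔭⟩ := hmem
      have h0 : (⟨⊥, Ideal.isPrime_bot⟩ : PrimeSpectrum (Y.presheaf.stalk y)) ⤳ 𝔭 :=
        (PrimeSpectrum.le_iff_specializes _ _).mp bot_le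
      have h1 := h0.map (Y.fromSpecStalk y).continuous
      rw [h𝔭] at h1
      exact (hmax t ht _ h1).symm
    rw [key z hz hyz, key z' hz' hyz']
  exact ⟨hFfin, hmax, hcover, huniq⟩

/-- over a normal integral scheme, clopen subsets of finite étale covers are determined by,
and can be prescribed on, the restriction along a preimmersion through the generic point. -/
theorem clopenBij_of_normal {X X' : Scheme.{u}} [IsIntegral X]
    (hX : ∀ x : X, IsDomain (X.presheaf.stalk x) ∧ IsIntegrallyClosed (X.presheaf.stalk x))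
    (j : X' ⟶ X) [IsPreimmersion j] (hη : genericPoint X ∈ Set.range j) :
    FEtFF.ClopenBij j := by
  have main : ∀ W : FEt.Cat X,
      (∀ T : Set W.left, IsClopen T → (pullback.fst W.hom j) ⁻¹' T = Set.univ → T = Set.univ) ∧
      (∀ T' : Set ↥(pullback W.hom j), IsClopen T' →
        ∃ T : Set W.left, IsClopen T ∧ (pullback.fst W.hom j) ⁻¹' T = T') := by
    intro W
    obtain ⟨f, hf⟩ : ∃ f : W.left ⟶ X, f = W.hom := ⟨_, rfl⟩
    haveI : IsFinite f := by rw [hf]; exact W.prop.1
    haveI : Etale f := by rw [hf]; exact W.prop.2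
    have hdom : ∀ y : W.left, IsDomain (W.left.presheaf.stalk y) := fun y =>
      (normal_stalk_of_etale f y (hX _).1 (hX _).2).1
    obtain ⟨hFfin, hmax, hcover, huniq⟩ := generic_fibre_decomp f hdom
    obtain ⟨p, hp⟩ : ∃ p : pullback f j ⟶ W.left, p = pullback.fst f j := ⟨_, rfl⟩
    haveI : IsPreimmersion p := by rw [hp]; infer_instance
    have hemb : Topology.IsEmbedding p := p.isEmbedding
    have hrange : f ⁻¹' {genericPoint X} ⊆ Set.range p := by
      rw [hp, Scheme.Pullback.range_fst]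
      intro z hz
      have hz' : f z = genericPoint X := hz
      show f z ∈ Set.range j
      rw [hz']; exact hη
    subst hf
    rw [← hp]
    constructor
    · intro T hT hpre
      rw [Set.eq_univ_iff_forall]
      intro y
      obtain ⟨z, hz, hyz⟩ := hcover y
      obtain ⟨z', rfl⟩ := hrange hz
      have hzT : p z' ∈ T := by
        have : z' ∈ p ⁻¹' T := by rw [hpre]; trivial
        exact this
      exact (hT.isClosed.closure_subset_iff.mpr (Set.singleton_subset_iff.mpr hzT)) hyz
    · intro T' hT'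
      classical
      -- the clopen subset
      let F : Set W.left := W.hom ⁻¹' {genericPoint X}
      let T : Set W.left := ⋃ z ∈ F ∩ p '' T', closure ({z} : Set W.left)
      have hTclosed : IsClosed T :=
        (hFfin.subset Set.inter_subset_left).isClosed_biUnion (fun _ _ => isClosed_closure)
      have hTc : Tᶜ = ⋃ z ∈ F \ p '' T', closure ({z} : Set W.left) := by
        ext y
        simp only [T, Set.mem_compl_iff, Set.mem_iUnion, Set.mem_inter_iff, Set.mem_sdiff,
          exists_prop, not_exists, not_and]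
        constructor
        · intro hy
          obtain ⟨z, hz, hyz⟩ := hcover y
          exact ⟨z, ⟨hz, fun hzT => hy z ⟨hz, hzT⟩ hyz⟩, hyz⟩
        · rintro ⟨z, ⟨hz, hzT⟩, hyz⟩ z₁ ⟨hz₁, hz₁T⟩ hyz₁
          exact hzT (huniq y z hz z₁ hz₁ hyz hyz₁ ▸ hz₁T)
      have hTcclosed : IsClosed Tᶜ := by
        rw [hTc]
        exact (hFfin.subset Set.sdiff_subset).isClosed_biUnion (fun _ _ => isClosed_closure)
      refine ⟨T, ⟨hTclosed, isClosed_compl_iff.mp hTcclosed⟩, ?_⟩
      -- key: for `w'` with `p w' ∈ closure {p z'}`: `z' ∈ T' ↔ w' ∈ T'`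
      have key : ∀ (w' z' : ↥(pullback W.hom j)), p w' ∈ closure ({p z'} : Set W.left) →
          (z' ∈ T' ↔ w' ∈ T') := by
        intro w' z' hw
        have hsp : z' ⤳ w' :=
          hemb.isInducing.specializes_iff.mp (specializes_iff_mem_closure.mpr hw)
        have hw' : w' ∈ closure ({z'} : Set ↥(pullback W.hom j)) :=
          specializes_iff_mem_closure.mp hsp
        have hpre : _root_.IsPreconnected (closure ({z'} : Set ↥(pullback W.hom j))) :=
          isPreconnected_singleton.closure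
        constructor
        · intro hz'
          exact hpre.subset_isClopen hT' ⟨z', subset_closure rfl, hz'⟩ hw'
        · intro hw'T
          exact hpre.subset_isClopen hT' ⟨w', hw', hw'T⟩ (subset_closure rfl)
      ext w'
      simp only [Set.mem_preimage]
      obtain ⟨z, hz, hwz⟩ := hcover (p w')
      obtain ⟨z', rfl⟩ := hrange hz
      constructor
      · intro hw
        simp only [T, Set.mem_iUnion, Set.mem_inter_iff, exists_prop] at hw
        obtain ⟨z₁, ⟨hz₁, ⟨z₁', hz₁'T, rfl⟩⟩, hwz₁⟩ := hw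
        exact (key w' z₁' hwz₁).mp hz₁'T
      · intro hw
        have hz'T : z' ∈ T' := (key w' z' hwz).mpr hw
        simp only [T, Set.mem_iUnion, Set.mem_inter_iff, exists_prop]
        exact ⟨p z', ⟨hz, ⟨z', hz'T, rfl⟩⟩, hwz⟩
  exact ⟨fun W => (main W).1, fun W => (main W).2⟩

end Groth.Agent.H68.FEtNormal
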