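import Mathlib

/-!
# Closed points with finite separable residue field on smooth algebras over a field (helper68)

`exists_max_sep` : a nontrivial smooth algebra `C` over a field `K` has a maximal ideal `m` with
`C ⧸ m` finite and separable over `K`.
-/

set_option autoImplicit false
universe u v w

namespace Groth.Agent.H68.SepPt

/-- The kernel of an algebra map to a finite separable field extension is a maximal ideal with
finite separable residue field. -/
theorem max_of_algHom_field {K : Type u} {C : Type v} {L : Type w} [Field K] [CommRing C]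
    [Algebra K C] [Field L] [Algebra K L] [Module.Finite K L] [Algebra.IsSeparable K L]
    (φ : C →ₐ[K] L) :
    (RingHom.ker φ).IsMaximal ∧ Module.Finite K (C ⧸ RingHom.ker φ) ∧
      Algebra.IsSeparable K (C ⧸ RingHom.ker φ) := by
  let ψ : (C ⧸ RingHom.ker φ) →ₐ[K] L := Ideal.Quotient.liftₐ (RingHom.ker φ) φ (fun a ha => ha)
  have hψ : Function.Injective ψ := by
    rw [injective_iff_map_eq_zero]
    intro x hx
    obtain ⟨c, rfl⟩ := Ideal.Quotient.mk_surjective x
    have : φ c = 0 := hx
    exact Ideal.Quotient.eq_zero_iff_mem.mpr this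
  have hfin : Module.Finite K (C ⧸ RingHom.ker φ) := Module.Finite.of_injective ψ.toLinearMap hψ
  have hsep : Algebra.IsSeparable K (C ⧸ RingHom.ker φ) := by
    refine ⟨fun x => ?_⟩
    have := Algebra.IsSeparable.isSeparable K (ψ x)
    rwa [IsSeparable, minpoly.algHom_eq ψ hψ] at this
  refine ⟨?_, hfin, hsep⟩
  haveI : IsDomain (C ⧸ RingHom.ker φ) := hψ.isDomain ψ.toRingHom
  have hinj : Function.Injective (algebraMap K (C ⧸ RingHom.ker φ)) :=
    (algebraMap K (C ⧸ RingHom.ker φ)).injective
  exact Ideal.Quotient.maximal_of_isField _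
    ((Algebra.IsIntegral.isField_iff_isField hinj).mp (Field.toIsField K))

/-- Perfect base field: every maximal ideal works. -/
theorem exists_of_perfect (K : Type u) [Field K] [PerfectField K] (C : Type v) [CommRing C]
    [Algebra K C] [Algebra.FiniteType K C] [Nontrivial C] :
    ∃ m : Ideal C, m.IsMaximal ∧ Module.Finite K (C ⧸ m) ∧ Algebra.IsSeparable K (C ⧸ m) := by
  obtain ⟨m, hm⟩ := Ideal.exists_maximal C
  letI := Ideal.Quotient.field m
  haveI : Algebra.FiniteType K (C ⧸ m) :=
    Algebra.FiniteType.of_surjective (Ideal.Quotient.mkₐ K m) (Ideal.Quotient.mkₐ_surjective K m)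
  haveI : Module.Finite K (C ⧸ m) := finite_of_finite_type_of_isJacobsonRing K (C ⧸ m)
  exact ⟨m, hm, inferInstance, inferInstance⟩

/-- Infinite base field: use an étale chart to affine space and a rational point. -/
theorem exists_of_infinite (K : Type u) [Field K] [Infinite K] (C : Type u) [CommRing C]
    [Algebra K C] [Algebra.Smooth K C] [Nontrivial C] :
    ∃ m : Ideal C, m.IsMaximal ∧ Module.Finite K (C ⧸ m) ∧ Algebra.IsSeparable K (C ⧸ m) := by
  classical
  obtain ⟨p, hp⟩ := Ideal.exists_maximal C
  haveI := hp.isPrime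
  obtain ⟨f, hfp, n, _, _, _⟩ :=
    Algebra.IsSmoothAt.exists_isStandardEtale_mvPolynomial (R := K) (p := p)
  have hq : (p.map (algebraMap C (Localization.Away f))).IsPrime :=
    IsLocalization.isPrime_of_isPrime_disjoint (.powers f) _ _ ‹_›
      ((Ideal.disjoint_powers_iff_notMem_of_isPrime _).mpr hfp)
  let q0 : PrimeSpectrum (Localization.Away f) := ⟨_, hq⟩
  have hopen : IsOpen (Set.range (PrimeSpectrum.comap
      (algebraMap (MvPolynomial (Fin n) K) (Localization.Away f)))) :=
    (PrimeSpectrum.isOpenMap_comap_of_hasGoingDown_of_finitePresentation).isOpen_range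
  have hy : PrimeSpectrum.comap (algebraMap (MvPolynomial (Fin n) K) (Localization.Away f)) q0 ∈
      Set.range (PrimeSpectrum.comap
        (algebraMap (MvPolynomial (Fin n) K) (Localization.Away f))) := ⟨q0, rfl⟩
  obtain ⟨_, ⟨h, rfl⟩, hyh, hsub⟩ :=
    PrimeSpectrum.isTopologicalBasis_basic_opens.exists_subset_of_mem_open hy hopen
  have hne : h ≠ 0 := by
    rintro rfl
    exact hyh (Ideal.zero_mem _)
  obtain ⟨a, ha⟩ : ∃ a : Fin n → K, MvPolynomial.eval a h ≠ 0 := by
    by_contra hcon
    push Not at hcon
    exact hne (MvPolynomial.funext (fun x => by simpa using hcon x))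
  let ma : PrimeSpectrum (MvPolynomial (Fin n) K) :=
    ⟨RingHom.ker (MvPolynomial.eval a), RingHom.ker_isPrime _⟩
  have hma : ma ∈ (PrimeSpectrum.basicOpen h : Set (PrimeSpectrum (MvPolynomial (Fin n) K))) := by
    show h ∉ RingHom.ker (MvPolynomial.eval a)
    exact ha
  obtain ⟨Q, hQ⟩ := hsub hma
  obtain ⟨N, hN, hQN⟩ := Ideal.exists_le_maximal Q.asIdeal Q.2.ne_top
  -- algebra structures
  letI algPK : Algebra (MvPolynomial (Fin n) K) K := (MvPolynomial.eval a).toAlgebra
  letI := Ideal.Quotient.field N
  have hker : ∀ g : MvPolynomial (Fin n) K, MvPolynomial.eval a g = 0 →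
      algebraMap (MvPolynomial (Fin n) K) (Localization.Away f) g ∈ N := by
    intro g hg
    apply hQN
    have : g ∈ ma.asIdeal := hg
    rw [← hQ] at this
    exact this
  haveI tow : IsScalarTower (MvPolynomial (Fin n) K) K (Localization.Away f ⧸ N) := by
    refine IsScalarTower.of_algebraMap_eq (fun g => ?_)
    have h1 : MvPolynomial.eval a (g - MvPolynomial.C (MvPolynomial.eval a g)) = 0 := by simp
    have h2 := hker _ h1
    rw [map_sub, ← Ideal.Quotient.eq] at h2
    change Ideal.Quotient.mk N (algebraMap _ _ g) =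
      algebraMap K (Localization.Away f ⧸ N) (MvPolynomial.eval a g)
    rw [h2, IsScalarTower.algebraMap_apply K (Localization.Away f) (Localization.Away f ⧸ N),
      IsScalarTower.algebraMap_apply K (MvPolynomial (Fin n) K) (Localization.Away f)]
    rfl
  haveI : Algebra.FormallyUnramified (MvPolynomial (Fin n) K) (Localization.Away f ⧸ N) :=
    Algebra.FormallyUnramified.of_surjective (Ideal.Quotient.mkₐ (MvPolynomial (Fin n) K) N)
      (Ideal.Quotient.mkₐ_surjective _ N)
  haveI : Algebra.FormallyUnramified K (Localization.Away f ⧸ N) :=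
    Algebra.FormallyUnramified.of_restrictScalars (MvPolynomial (Fin n) K) K _
  haveI : Algebra.FiniteType K (Localization.Away f) :=
    Algebra.FiniteType.trans (S := MvPolynomial (Fin n) K) inferInstance inferInstance
  haveI : Algebra.FiniteType K (Localization.Away f ⧸ N) :=
    Algebra.FiniteType.of_surjective (Ideal.Quotient.mkₐ K N) (Ideal.Quotient.mkₐ_surjective K N)
  haveI : Module.Finite K (Localization.Away f ⧸ N) :=
    Algebra.FormallyUnramified.finite_of_free K _
  haveI : Algebra.IsSeparable K (Localization.Away f ⧸ N) :=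
    Algebra.FormallyUnramified.isSeparable K _
  let φ : C →ₐ[K] (Localization.Away f ⧸ N) :=
    (Ideal.Quotient.mkₐ K N).comp (IsScalarTower.toAlgHom K C (Localization.Away f))
  exact ⟨_, max_of_algHom_field φ⟩

/-- A nontrivial smooth algebra over a field has a closed point with finite separable residue
field. -/
theorem exists_max_sep (K : Type u) [Field K] (C : Type u) [CommRing C]
    [Algebra K C] [Algebra.Smooth K C] [Nontrivial C] :
    ∃ m : Ideal C, m.IsMaximal ∧ Module.Finite K (C ⧸ m) ∧ Algebra.IsSeparable K (C ⧸ m) := by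
  rcases finite_or_infinite K with hK | hK
  · exact exists_of_perfect K C
  · exact exists_of_infinite K C

end Groth.Agent.H68.SepPt
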