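import Mathlib
import Groth.Agent.H68.SepPt
import Groth.Agent.H10.SmoothChart
import Groth.Agent.H22.EtaleNbhd

/-!
# Smooth algebras admit sections étale locally (helper68)

`exists_etale_section` : `R → B` smooth, `q` a prime of `B` over `p`. Then there are an étale
`R`-algebra `R'`, a prime `p'` of `R'` over `p` and an `R`-algebra map `B → R'`.
Uses helper22's `exists_etale_with_point` and helper10's `chart_of_smooth`.
-/

set_option autoImplicit false
set_option linter.style.haveILetI false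
universe u

namespace Groth.Agent.H68.SmoothSec

open TensorProduct
open Groth.Agent.H22.EtaleNbhd

theorem fracSurj_residueField {R : Type u} [CommRing R] (p : Ideal R) [p.IsPrime] :
    FracSurj (algebraMap R p.ResidueField) := by
  intro x
  obtain ⟨y, rfl⟩ := IsLocalRing.residue_surjective (R := Localization.AtPrime p) x
  obtain ⟨⟨a, s⟩, hab⟩ := IsLocalization.surj p.primeCompl y
  refine ⟨a, s, ?_, ?_⟩
  · rw [Ne, Ideal.algebraMap_residueField_eq_zero]
    exact s.2
  · have := congrArg (IsLocalRing.residue (Localization.AtPrime p)) hab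
    rw [map_mul] at this
    exact this

theorem exists_etale_section (R : Type u) [CommRing R] (B : Type u) [CommRing B] [Algebra R B]
    [Algebra.Smooth R B] (p : Ideal R) [p.IsPrime] (q : Ideal B) [q.IsPrime] [q.LiesOver p] :
    ∃ (R' : Type u) (_ : CommRing R') (_ : Algebra R R') (_ : Algebra.Etale R R') (p' : Ideal R')
      (_ : p'.IsPrime), p'.comap (algebraMap R R') = p ∧ Nonempty (B →ₐ[R] R') := by
  classical
  haveI : Nontrivial (p.ResidueField ⊗[R] B) :=
    PrimeSpectrum.nonempty_iff_nontrivial.mp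
      ⟨PrimeSpectrum.primesOverOrderIsoFiber R B p ⟨q, inferInstance, inferInstance⟩⟩
  obtain ⟨n, hn, hfin, hsep⟩ := SepPt.exists_max_sep p.ResidueField (p.ResidueField ⊗[R] B)
  letI := Ideal.Quotient.field n
  obtain ⟨A, _, _, ψ, hEt, hcompat, hψ⟩ :=
    exists_etale_with_point (algebraMap R p.ResidueField) (fracSurj_residueField p)
      ((p.ResidueField ⊗[R] B) ⧸ n)
  haveI := hEt
  let σ₀ : B →+* (p.ResidueField ⊗[R] B) ⧸ n :=
    (Ideal.Quotient.mk n).comp
      (Algebra.TensorProduct.includeRight : B →ₐ[R] p.ResidueField ⊗[R] B).toRingHom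
  have hcompat' : ∀ r : R, ψ (algebraMap R A r) =
      algebraMap p.ResidueField ((p.ResidueField ⊗[R] B) ⧸ n) (algebraMap R p.ResidueField r) :=
    fun r => congrArg (fun g : R →+* (p.ResidueField ⊗[R] B) ⧸ n => g r) hcompat
  have hσ₀ : ∀ r : R, σ₀ (algebraMap R B r) = ψ (algebraMap R A r) := by
    intro r
    rw [hcompat']
    show Ideal.Quotient.mk n ((1 : p.ResidueField) ⊗ₜ[R] algebraMap R B r) =
      Ideal.Quotient.mk n (algebraMap p.ResidueField (p.ResidueField ⊗[R] B)
        (algebraMap R p.ResidueField r))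
    congr 1
    rw [Algebra.TensorProduct.algebraMap_apply, Algebra.algebraMap_eq_smul_one r,
      Algebra.algebraMap_eq_smul_one (A := p.ResidueField) r, TensorProduct.tmul_smul,
      Algebra.algebraMap_self_apply, TensorProduct.smul_tmul']
  obtain ⟨t, ht⟩ := (Algebra.FiniteType.out : (⊤ : Subalgebra R B).FG)
  choose a d hd had using fun b : B => hψ (σ₀ b)
  have hD : ψ (∏ b ∈ t, d b) ≠ 0 := by
    rw [map_prod]
    exact Finset.prod_ne_zero_iff.mpr (fun b _ => hd b)
  let ψ₁ : Localization.Away (∏ b ∈ t, d b) →+* (p.ResidueField ⊗[R] B) ⧸ n :=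
    IsLocalization.Away.lift (∏ b ∈ t, d b) (g := ψ) (isUnit_iff_ne_zero.mpr hD)
  have hψ₁ : ∀ x : A, ψ₁ (algebraMap A (Localization.Away (∏ b ∈ t, d b)) x) = ψ x :=
    fun x => IsLocalization.Away.lift_eq _ _ x
  let ι₁ : Localization.Away (∏ b ∈ t, d b) ⧸ RingHom.ker ψ₁ →+* (p.ResidueField ⊗[R] B) ⧸ n :=
    RingHom.kerLift ψ₁
  have hι₁ : Function.Injective ι₁ := RingHom.kerLift_injective ψ₁
  have hι₁mk : ∀ x : Localization.Away (∏ b ∈ t, d b),
      ι₁ (Ideal.Quotient.mk (RingHom.ker ψ₁) x) = ψ₁ x := fun x => RingHom.kerLift_mk ψ₁ x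
  have hrange : ∀ b : B, σ₀ b ∈ ψ₁.range := by
    intro b
    have hb : b ∈ Algebra.adjoin R (t : Set B) := by rw [ht]; trivial
    induction hb using Algebra.adjoin_induction with
    | mem x hx =>
      have hx' : x ∈ t := Finset.mem_coe.mp hx
      refine ⟨IsLocalization.mk' _ (a x * ∏ c ∈ t.erase x, d c)
        (⟨∏ b ∈ t, d b, Submonoid.mem_powers _⟩ : Submonoid.powers (∏ b ∈ t, d b)), ?_⟩
      have h1 : ψ₁ (IsLocalization.mk' _ (a x * ∏ c ∈ t.erase x, d c)
          (⟨∏ b ∈ t, d b, Submonoid.mem_powers _⟩ : Submonoid.powers (∏ b ∈ t, d b))) *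
          ψ (∏ b ∈ t, d b) = ψ (a x * ∏ c ∈ t.erase x, d c) := by
        rw [← hψ₁ (∏ b ∈ t, d b), ← map_mul]
        have := IsLocalization.mk'_spec (Localization.Away (∏ b ∈ t, d b))
          (a x * ∏ c ∈ t.erase x, d c)
          (⟨∏ b ∈ t, d b, Submonoid.mem_powers _⟩ : Submonoid.powers (∏ b ∈ t, d b))
        rw [this, hψ₁]
      have h2 : ψ (a x * ∏ c ∈ t.erase x, d c) = σ₀ x * ψ (∏ b ∈ t, d b) := by
        rw [map_mul, ← had x, mul_assoc, ← map_mul, Finset.mul_prod_erase t d hx']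
      exact mul_right_cancel₀ hD (h1.trans h2)
    | algebraMap r =>
      exact ⟨algebraMap A _ (algebraMap R A r), by rw [hψ₁, hσ₀]⟩
    | add x y _ _ hx hy => rw [map_add]; exact ψ₁.range.add_mem hx hy
    | mul x y _ _ hx hy => rw [map_mul]; exact ψ₁.range.mul_mem hx hy
  have hex : ∀ b : B, ∃ z : Localization.Away (∏ b ∈ t, d b) ⧸ RingHom.ker ψ₁, ι₁ z = σ₀ b := by
    intro b
    obtain ⟨x, hx⟩ := hrange b
    exact ⟨Ideal.Quotient.mk _ x, by rw [hι₁mk, hx]⟩
  choose σf hσf using hex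
  have hcomm : ∀ r : R, algebraMap R (Localization.Away (∏ b ∈ t, d b) ⧸ RingHom.ker ψ₁) r =
      Ideal.Quotient.mk _ (algebraMap A (Localization.Away (∏ b ∈ t, d b)) (algebraMap R A r)) := by
    intro r
    rw [IsScalarTower.algebraMap_apply R (Localization.Away (∏ b ∈ t, d b))
      (Localization.Away (∏ b ∈ t, d b) ⧸ RingHom.ker ψ₁),
      IsScalarTower.algebraMap_apply R A (Localization.Away (∏ b ∈ t, d b))]
    rfl
  let σ : B →ₐ[R] Localization.Away (∏ b ∈ t, d b) ⧸ RingHom.ker ψ₁ :=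
    { toFun := σf
      map_one' := hι₁ (by rw [hσf, map_one, map_one])
      map_mul' := fun x y => hι₁ (by rw [hσf, map_mul, map_mul, hσf, hσf])
      map_zero' := hι₁ (by rw [hσf, map_zero, map_zero])
      map_add' := fun x y => hι₁ (by rw [hσf, map_add, map_add, hσf, hσf])
      commutes' := fun r => hι₁ (by rw [hσf, hσ₀, hcomm, hι₁mk, hψ₁]) }
  obtain ⟨E, _, _, hE, σE, ι, hι1, hι2⟩ :=
    Groth.Agent.H10.SmoothChart.chart_of_smooth R B (Localization.Away (∏ b ∈ t, d b))
      (RingHom.ker ψ₁) σ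
  haveI := hE
  letI : Algebra R E :=
    ((algebraMap (Localization.Away (∏ b ∈ t, d b)) E).comp
      (algebraMap R (Localization.Away (∏ b ∈ t, d b)))).toAlgebra
  haveI : IsScalarTower R (Localization.Away (∏ b ∈ t, d b)) E :=
    IsScalarTower.of_algebraMap_eq' rfl
  haveI : Algebra.Etale R (Localization.Away (∏ b ∈ t, d b)) := inferInstance
  haveI : Algebra.Etale R E := Algebra.Etale.comp R (Localization.Away (∏ b ∈ t, d b)) E
  let χ : E →+* (p.ResidueField ⊗[R] B) ⧸ n := ι₁.comp σE.toRingHom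
  refine ⟨E, inferInstance, inferInstance, inferInstance, RingHom.ker χ, RingHom.ker_isPrime χ, ?_,
    ⟨{ ι with commutes' := hι1 }⟩⟩
  ext r
  rw [Ideal.mem_comap, RingHom.mem_ker]
  have h1 : χ (algebraMap R E r) = ψ (algebraMap R A r) := by
    show ι₁ (σE (algebraMap (Localization.Away (∏ b ∈ t, d b)) E
      (algebraMap R (Localization.Away (∏ b ∈ t, d b)) r))) = _
    rw [σE.commutes, IsScalarTower.algebraMap_apply R A (Localization.Away (∏ b ∈ t, d b))]
    show ι₁ (Ideal.Quotient.mk _ _) = _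
    rw [hι₁mk, hψ₁]
  rw [h1, hcompat', map_eq_zero_iff _ (algebraMap p.ResidueField
    ((p.ResidueField ⊗[R] B) ⧸ n)).injective, Ideal.algebraMap_residueField_eq_zero]

end Groth.Agent.H68.SmoothSec
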