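import Mathlib

/-!
Helper lemmas (helper68): topological invariance of étale morphisms, fully faithful part.
For `a : Y' ⟶ Y` integral, universally injective and surjective, and `X` étale over `S`,
precomposition with `a` is a bijection `Hom_S(Y, X) → Hom_S(Y', X)`.
-/

universe u
open AlgebraicGeometry CategoryTheory Limits

namespace Groth.Agent.H68.TopInv

/-- injectivity: only needs `a` surjective and the diagonal of `π` an open immersion. -/
lemma inj {X Y Y' S : Scheme.{u}} (π : X ⟶ S) [IsOpenImmersion (pullback.diagonal π)]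
    (a : Y' ⟶ Y) [Surjective a] (φ ψ : Y ⟶ X) (h : φ ≫ π = ψ ≫ π) (hφψ : a ≫ φ = a ≫ ψ) :
    φ = ψ := by
  let c : Y ⟶ pullback π π := pullback.lift φ ψ h
  have hc : Set.range c ⊆ Set.range (pullback.diagonal π) := by
    rintro _ ⟨y, rfl⟩
    obtain ⟨y', rfl⟩ := a.surjective y
    refine ⟨(a ≫ φ) y', ?_⟩
    have hac : (a ≫ φ) ≫ pullback.diagonal π = a ≫ c := by
      apply pullback.hom_ext
      · simp only [Category.assoc, pullback.diagonal_fst, Category.comp_id, c]
        rw [pullback.lift_fst]
      · simp only [Category.assoc, pullback.diagonal_snd, Category.comp_id, c]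
        rw [pullback.lift_snd, hφψ]
    rw [← Scheme.Hom.comp_apply, ← Scheme.Hom.comp_apply, hac]
  let l := IsOpenImmersion.lift (pullback.diagonal π) c hc
  have hl : l ≫ pullback.diagonal π = c := IsOpenImmersion.lift_fac _ _ _
  have h1 : φ = l := by
    have := congrArg (· ≫ pullback.fst π π) hl
    simp only [Category.assoc, pullback.diagonal_fst, Category.comp_id] at this
    rw [this, pullback.lift_fst]
  have h2 : ψ = l := by
    have := congrArg (· ≫ pullback.snd π π) hl
    simp only [Category.assoc, pullback.diagonal_snd, Category.comp_id] at this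
    rw [this, pullback.lift_snd]
  rw [h1, h2]

lemma isOpenImmersion_of_section {P Y : Scheme.{u}} (p : P ⟶ Y) [LocallyOfFiniteType p]
    [FormallyUnramified p] (σ : Y ⟶ P) (hσ : σ ≫ p = 𝟙 Y) : IsOpenImmersion σ := by
  have : MorphismProperty.HasOfPostcompProperty @IsOpenImmersion
      (@LocallyOfFiniteType ⊓ @FormallyUnramified) := by
    rw [MorphismProperty.hasOfPostcompProperty_iff_le_diagonal]
    intro X Y f ⟨hft, hfu⟩
    exact inferInstanceAs <| IsOpenImmersion (pullback.diagonal f)
  exact MorphismProperty.of_postcomp (W := @IsOpenImmersion)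
    (W' := @LocallyOfFiniteType ⊓ @FormallyUnramified) σ p ⟨‹_›, ‹_›⟩
    (by rw [hσ]; infer_instance)

lemma epi_Spec_of_fields (K L : Type u) [Field K] [Field L]
    (e : Spec (.of L) ⟶ Spec (.of K)) : Epi e := by
  obtain ⟨θ, rfl⟩ := Spec.map_surjective e
  have hflat : Flat (Spec.map θ) := by
    rw [HasRingHomProperty.Spec_iff (P := @Flat)]
    algebraize [θ.hom]
    show Module.Flat K L
    infer_instance
  have hsurj : Surjective (Spec.map θ) := by
    refine ⟨fun x => ⟨IsLocalRing.closedPoint L, ?_⟩⟩
    exact Subsingleton.elim (α := PrimeSpectrum K) _ _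
  exact Flat.epi_of_flat_of_surjective _

/-- An étale morphism which becomes an isomorphism after a surjective base change `a` through
which sufficiently many field points lift (abstractly: the hypothesis `hlift`) is an
isomorphism. Here in the concrete form needed below. -/
lemma surj {X Y Y' S : Scheme.{u}} (π : X ⟶ S) [Etale π] (y : Y ⟶ S)
    (a : Y' ⟶ Y) [IsIntegralHom a] [UniversallyInjective a] [Surjective a]
    (ψ : Y' ⟶ X) (hψ : ψ ≫ π = a ≫ y) : ∃ φ : Y ⟶ X, φ ≫ π = y ∧ a ≫ φ = ψ := by
  let p : pullback π y ⟶ Y := pullback.snd π y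
  have hp : Etale p := MorphismProperty.pullback_snd (P := @Etale) _ _ inferInstance
  let σ' : Y' ⟶ pullback π y := pullback.lift ψ a hψ
  have hσ'p : σ' ≫ p = a := pullback.lift_snd _ _ _
  have hσ'f : σ' ≫ pullback.fst π y = ψ := pullback.lift_fst _ _ _
  let q : pullback p a ⟶ pullback π y := pullback.fst p a
  let p' : pullback p a ⟶ Y' := pullback.snd p a
  have hqp : q ≫ p = p' ≫ a := pullback.condition
  have hp' : Etale p' := MorphismProperty.pullback_snd (P := @Etale) _ _ inferInstance
  have hq1 : IsIntegralHom q := MorphismProperty.pullback_fst (P := @IsIntegralHom) _ _ inferInstance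
  have hq2 : UniversallyInjective q :=
    MorphismProperty.pullback_fst (P := @UniversallyInjective) _ _ inferInstance
  have hq3 : Surjective q := MorphismProperty.pullback_fst (P := @Surjective) _ _ inferInstance
  let τ : Y' ⟶ pullback p a := pullback.lift σ' (𝟙 Y') (by rw [hσ'p, Category.id_comp])
  have hτp' : τ ≫ p' = 𝟙 Y' := pullback.lift_snd _ _ _
  have hτq : τ ≫ q = σ' := pullback.lift_fst _ _ _
  have hτ : IsOpenImmersion τ := isOpenImmersion_of_section p' τ hτp'
  -- `q` is a homeomorphism
  have hqinj : Function.Injective q := q.injective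
  have hqsurj : Function.Surjective q := q.surjective
  have hqcl : IsClosedMap q := q.isClosedMap
  have hWopen : IsOpen (q '' Set.range τ) := by
    rw [← isClosed_compl_iff, ← Set.image_compl_eq ⟨hqinj, hqsurj⟩]
    exact hqcl _ τ.isOpenEmbedding.isOpen_range.isClosed_compl
  let W : (pullback π y).Opens := ⟨q '' Set.range τ, hWopen⟩
  have hmemW : ∀ t : ↥(pullback p a), q t ∈ W → t ∈ Set.range τ := by
    rintro t ⟨t', ht', htt'⟩
    rw [← hqinj htt']; exact ht'
  let r : (W : Scheme) ⟶ Y := W.ι ≫ p
  have hr : Etale r := inferInstance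
  -- σ' factors through W
  have hσ'W : Set.range σ' ⊆ Set.range W.ι := by
    rintro _ ⟨y', rfl⟩
    rw [Scheme.Opens.range_ι]
    refine ⟨τ y', ⟨y', rfl⟩, ?_⟩
    rw [← Scheme.Hom.comp_apply, hτq]
  let l : Y' ⟶ W := IsOpenImmersion.lift W.ι σ' hσ'W
  have hl : l ≫ W.ι = σ' := IsOpenImmersion.lift_fac _ _ _
  have hlr : l ≫ r = a := by
    show l ≫ W.ι ≫ p = a
    rw [reassoc_of% hl, hσ'p]
  -- r is surjective
  have hrsurj : Surjective r := by
    refine ⟨fun y₀ => ?_⟩
    obtain ⟨y', rfl⟩ := a.surjective y₀
    exact ⟨l y', by rw [← Scheme.Hom.comp_apply, hlr]⟩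
  -- r is universally injective
  have hruinj : UniversallyInjective r := by
    refine ((tfae_universallyInjective r).out 0 1).mpr ?_
    intro K _ u v huv
    have huv : u ≫ r = v ≫ r := huv
    let yK : Spec (.of K) ⟶ Y := u ≫ r
    have hZs : Surjective (pullback.fst yK a) :=
      MorphismProperty.pullback_fst (P := @Surjective) _ _ inferInstance
    obtain ⟨z, -⟩ := (pullback.fst yK a).surjective (IsLocalRing.closedPoint K)
    let ζ := (pullback yK a).fromSpecResidueField z
    let e : Spec ((pullback yK a).residueField z) ⟶ Spec (.of K) := ζ ≫ pullback.fst yK a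
    let yL' : Spec ((pullback yK a).residueField z) ⟶ Y' := ζ ≫ pullback.snd yK a
    have hey : e ≫ yK = yL' ≫ a := by
      simp only [e, yL', Category.assoc, pullback.condition]
    have hu1 : (e ≫ u ≫ W.ι) ≫ p = yL' ≫ a := by
      rw [← hey]; simp only [Category.assoc, yK, r]
    have hv1 : (e ≫ v ≫ W.ι) ≫ p = yL' ≫ a := by
      rw [← hey]; simp only [Category.assoc, yK, r]
      rw [show v ≫ W.ι ≫ p = u ≫ W.ι ≫ p from huv.symm]
    let uL : Spec ((pullback yK a).residueField z) ⟶ pullback p a := pullback.lift _ _ hu1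
    let vL : Spec ((pullback yK a).residueField z) ⟶ pullback p a := pullback.lift _ _ hv1
    have key : ∀ (w : Spec (.of K) ⟶ W)
        (wL : Spec ((pullback yK a).residueField z) ⟶ pullback p a)
        (h1 : wL ≫ q = e ≫ w ≫ W.ι) (h2 : wL ≫ p' = yL'), wL = yL' ≫ τ := by
      intro w wL h1 h2
      have hrange : Set.range wL ⊆ Set.range τ := by
        rintro _ ⟨pt, rfl⟩
        apply hmemW
        rw [← Scheme.Hom.comp_apply, h1, Scheme.Hom.comp_apply, Scheme.Hom.comp_apply,
          Scheme.Opens.ι_apply]
        exact Subtype.property _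
      let lw := IsOpenImmersion.lift τ wL hrange
      have hlw : lw ≫ τ = wL := IsOpenImmersion.lift_fac _ _ _
      have : lw = yL' := by
        have := congrArg (· ≫ p') hlw
        simp only [Category.assoc, hτp', Category.comp_id] at this
        rw [this, h2]
      rw [← hlw, this]
    have hu2 : uL = yL' ≫ τ := key u uL (pullback.lift_fst _ _ _) (pullback.lift_snd _ _ _)
    have hv2 : vL = yL' ≫ τ := key v vL (pullback.lift_fst _ _ _) (pullback.lift_snd _ _ _)
    have h3 : e ≫ u ≫ W.ι = e ≫ v ≫ W.ι := by
      have e1 : uL ≫ q = e ≫ u ≫ W.ι := pullback.lift_fst _ _ _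
      have e2 : vL ≫ q = e ≫ v ≫ W.ι := pullback.lift_fst _ _ _
      rw [← e1, ← e2, hu2, hv2]
    have hepi : Epi e := epi_Spec_of_fields K ((pullback yK a).residueField z) e
    have h4 : e ≫ u = e ≫ v := by
      rw [← cancel_mono W.ι]; simpa only [Category.assoc] using h3
    exact (cancel_epi e).mp h4
  -- hence r is an isomorphism
  have hdiag : IsIso (pullback.diagonal r) := by
    rw [isIso_iff_isOpenImmersion_and_surjective]
    exact ⟨inferInstance, (UniversallyInjective.iff_diagonal r).mp hruinj⟩
  have hmono : Mono r := (pullback.isIso_diagonal_iff r).mp hdiag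
  have hopen : IsOpenImmersion r := IsOpenImmersion.of_flat_of_mono r
  have hiso : IsIso r := (isIso_iff_isOpenImmersion_and_surjective r).mpr ⟨hopen, hrsurj⟩
  refine ⟨inv r ≫ W.ι ≫ pullback.fst π y, ?_, ?_⟩
  · simp only [Category.assoc, pullback.condition]
    show inv r ≫ r ≫ y = y
    simp
  · have : a ≫ inv r = l := by rw [← hlr]; simp
    rw [reassoc_of% this, reassoc_of% hl, hσ'f]

/-- Topological invariance of the étale site, fully faithful part. -/
theorem bijective_pullback_map {S S' : Scheme.{u}} (g : S' ⟶ S) [IsIntegralHom g]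
    [UniversallyInjective g] [Surjective g] (X Y : Over S) [AlgebraicGeometry.Etale X.hom] :
    Function.Bijective (fun φ : Y ⟶ X => (Over.pullback g).map φ) := by
  have ha1 : IsIntegralHom (pullback.fst Y.hom g) :=
    MorphismProperty.pullback_fst (P := @IsIntegralHom) _ _ inferInstance
  have ha2 : UniversallyInjective (pullback.fst Y.hom g) :=
    MorphismProperty.pullback_fst (P := @UniversallyInjective) _ _ inferInstance
  have ha3 : Surjective (pullback.fst Y.hom g) :=
    MorphismProperty.pullback_fst (P := @Surjective) _ _ inferInstance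
  have e1 : ∀ φ : Y ⟶ X, ((Over.pullback g).map φ).left ≫ pullback.fst X.hom g =
      pullback.fst Y.hom g ≫ φ.left := fun φ => pullback.lift_fst _ _ _
  have e2 : ∀ φ : Y ⟶ X, ((Over.pullback g).map φ).left ≫ pullback.snd X.hom g =
      pullback.snd Y.hom g := fun φ => pullback.lift_snd _ _ _
  constructor
  · intro φ ψ hφψ
    have hφψ : (Over.pullback g).map φ = (Over.pullback g).map ψ := hφψ
    have h2 : pullback.fst Y.hom g ≫ φ.left = pullback.fst Y.hom g ≫ ψ.left := by
      rw [← e1, ← e1, hφψ]
    apply Over.OverMorphism.ext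
    exact inj X.hom (pullback.fst Y.hom g) φ.left ψ.left (by rw [Over.w φ, Over.w ψ]) h2
  · intro χ
    have hχ : χ.left ≫ pullback.snd X.hom g = pullback.snd Y.hom g := Over.w χ
    have hψ : (χ.left ≫ pullback.fst X.hom g) ≫ X.hom = pullback.fst Y.hom g ≫ Y.hom := by
      calc (χ.left ≫ pullback.fst X.hom g) ≫ X.hom
          = χ.left ≫ pullback.snd X.hom g ≫ g := by
            rw [Category.assoc, pullback.condition (f := X.hom) (g := g)]
        _ = pullback.snd Y.hom g ≫ g := by rw [reassoc_of% hχ]
        _ = pullback.fst Y.hom g ≫ Y.hom := (pullback.condition (f := Y.hom) (g := g)).symm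
    obtain ⟨φ₀, hφ₀, hφ₀'⟩ := surj X.hom Y.hom (pullback.fst Y.hom g)
      (χ.left ≫ pullback.fst X.hom g) hψ
    refine ⟨Over.homMk φ₀ hφ₀, ?_⟩
    apply Over.OverMorphism.ext
    apply pullback.hom_ext
    · rw [e1]; exact hφ₀'
    · rw [e2, hχ]

end Groth.Agent.H68.TopInv
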