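import Mathlib
import Groth.Agent.S2195

/-!
# Finite flat algebras unramified in codimension ≤ 1 are étale (purity for finite flat morphisms)

* `discr_baseChange` : the discriminant of a basis commutes with base change.
* `isUnit_discr_of_codim_one` : over a Noetherian ring, the discriminant of a free algebra is a unit
  as soon as the fibres over primes of height ≤ 1 are unramified (Krull's Hauptidealsatz).
* `formallyUnramified_of_forall_isMaximal` : formal unramifiedness is local on the base.
* `etale_of_fibres` : ring-level purity.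
* `etale_of_fibres_sch`, `etale_of_etale_over_open` : scheme-level versions.
-/

set_option autoImplicit false
universe u

open TensorProduct

namespace Groth.Agent.H68.CodimOne

section ring

theorem trace_tmul {A B : Type*} [CommRing A] [CommRing B] [Algebra A B] (K : Type*) [CommRing K]
    [Algebra A K] [Module.Free A B] [Module.Finite A B] (x : B) :
    Algebra.trace K (K ⊗[A] B) (1 ⊗ₜ[A] x) = algebraMap A K (Algebra.trace A B x) := by
  have h : Algebra.lmul K (K ⊗[A] B) (1 ⊗ₜ[A] x) = (Algebra.lmul A B x).baseChange K := by
    ext y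
    simp
  rw [Algebra.trace_apply, Algebra.trace_apply, h, LinearMap.trace_baseChange]

theorem discr_baseChange {A B : Type*} [CommRing A] [CommRing B] [Algebra A B] (K : Type*)
    [CommRing K] [Algebra A K] {ι : Type*} [Fintype ι] [DecidableEq ι] (b : Module.Basis ι A B) :
    Algebra.discr K (Algebra.TensorProduct.basis K b) = algebraMap A K (Algebra.discr A b) := by
  have : Module.Free A B := Module.Free.of_basis b
  have : Module.Finite A B := Module.Finite.of_basis b
  rw [Algebra.discr_def, Algebra.discr_def, RingHom.map_det]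
  congr 1
  ext i j
  simp only [Algebra.traceMatrix_apply, Algebra.traceForm_apply, Algebra.TensorProduct.basis_apply,
    Algebra.TensorProduct.tmul_mul_tmul, mul_one, RingHom.mapMatrix_apply, Matrix.map_apply]
  exact trace_tmul K _

theorem isUnit_discr_of_codim_one {R S : Type u} [CommRing R] [IsNoetherianRing R] [CommRing S]
    [Algebra R S] {ι : Type} [Fintype ι] [DecidableEq ι] (b : Module.Basis ι R S)
    (H : ∀ q : Ideal R, q.IsPrime → q.height ≤ 1 → ∃ (K : Type u) (_ : Field K) (_ : Algebra R K),
        q ≤ RingHom.ker (algebraMap R K) ∧ Algebra.FormallyUnramified K (K ⊗[R] S)) :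
    IsUnit (Algebra.discr R b) := by
  by_contra hd
  have hne : Ideal.span {Algebra.discr R b} ≠ ⊤ := by
    rwa [Ne, Ideal.span_singleton_eq_top]
  obtain ⟨q, hq⟩ := Ideal.nonempty_minimalPrimes hne
  have hqp : q.IsPrime := hq.1.1
  have hht : q.height ≤ 1 := Ideal.height_le_one_of_isPrincipal_of_mem_minimalPrimes _ q hq
  obtain ⟨K, _, _, hK, hun⟩ := H q hqp hht
  have hdq : Algebra.discr R b ∈ q := hq.1.2 (Ideal.subset_span rfl)
  have h0 : algebraMap R K (Algebra.discr R b) = 0 := hK hdq
  have hu := Groth.Agent.S2195.isUnit_of_formallyUnramified (Algebra.TensorProduct.basis K b)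
  rw [discr_baseChange, h0] at hu
  exact not_isUnit_zero hu

theorem formallyUnramified_of_forall_isMaximal {A B : Type u} [CommRing A] [CommRing B]
    [Algebra A B]
    (H : ∀ (p : Ideal A) [p.IsMaximal], Algebra.FormallyUnramified (Localization.AtPrime p)
      (Localization.AtPrime p ⊗[A] B)) :
    Algebra.FormallyUnramified A B := by
  rw [Algebra.formallyUnramified_iff]
  refine subsingleton_of_forall_eq 0 fun x => ?_
  by_contra hx
  let I : Ideal A := LinearMap.ker (LinearMap.toSpanSingleton A (Ω[B⁄A]) x)
  have hI : I ≠ ⊤ := by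
    intro h
    have h1 : (1 : A) ∈ I := h ▸ Submodule.mem_top
    rw [LinearMap.mem_ker, LinearMap.toSpanSingleton_apply, one_smul] at h1
    exact hx h1
  obtain ⟨p, hp, hIp⟩ := Ideal.exists_le_maximal I hI
  haveI := hp
  let R := Localization.AtPrime p
  let S' := Localization (Algebra.algebraMapSubmonoid B p.primeCompl)
  have hpo : Algebra.IsPushout A R B S' :=
    (Algebra.isPushout_of_isLocalization p.primeCompl R B S').symm
  have h1 : Algebra.FormallyUnramified R S' :=
    haveI := H p
    Algebra.FormallyUnramified.of_equiv (Algebra.IsPushout.equiv A R B S')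
  haveI : Algebra.FormallyUnramified A R := .of_isLocalization p.primeCompl
  have h2 : Algebra.FormallyUnramified A S' := Algebra.FormallyUnramified.comp A R S'
  have h3 : Subsingleton (Ω[S'⁄A]) := (Algebra.formallyUnramified_iff A S').mp h2
  have h4 : KaehlerDifferential.map A A B S' x = 0 := Subsingleton.elim _ _
  obtain ⟨⟨c, s, hs, rfl⟩, hc⟩ := (IsLocalizedModule.eq_zero_iff
    (Algebra.algebraMapSubmonoid B p.primeCompl) (KaehlerDifferential.map A A B S')).mp h4
  have hsI : s ∈ I := by
    rw [LinearMap.mem_ker, LinearMap.toSpanSingleton_apply]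
    rw [← algebraMap_smul B s x]
    exact hc
  exact hs (hIp hsI)

theorem formallyUnramified_localization {A B : Type u} [CommRing A] [CommRing B] [Algebra A B]
    [IsNoetherianRing A] [Module.Finite A B] [Module.Flat A B]
    (H : ∀ (P : Ideal A) [P.IsPrime], P.height ≤ 1 →
      Algebra.FormallyUnramified P.ResidueField (P.ResidueField ⊗[A] B))
    (𝔭 : Ideal A) [𝔭.IsPrime] :
    Algebra.FormallyUnramified (Localization.AtPrime 𝔭) (Localization.AtPrime 𝔭 ⊗[A] B) := by
  have hfree : Module.Free (Localization.AtPrime 𝔭) (Localization.AtPrime 𝔭 ⊗[A] B) :=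
    Module.free_of_flat_of_isLocalRing
  apply Groth.Agent.S2195.formallyUnramified_of_isUnit
    (Module.finBasis (Localization.AtPrime 𝔭) (Localization.AtPrime 𝔭 ⊗[A] B))
  apply isUnit_discr_of_codim_one
  intro q hq hht
  haveI := hq
  have hPht : (q.under A).height ≤ 1 := by
    rw [IsLocalization.height_under 𝔭.primeCompl q]; exact hht
  have hP𝔭 : ∀ s : 𝔭.primeCompl, (s : A) ∉ q.under A := by
    intro s hs
    have hu : IsUnit (algebraMap A (Localization.AtPrime 𝔭) s) :=
      IsLocalization.map_units (Localization.AtPrime 𝔭) s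
    exact hq.ne_top (Ideal.eq_top_of_isUnit_mem _ (Ideal.mem_comap.mp hs) hu)
  let g : Localization.AtPrime 𝔭 →+* (q.under A).ResidueField :=
    IsLocalization.lift (M := 𝔭.primeCompl) (g := algebraMap A (q.under A).ResidueField)
      (fun s => by
        rw [isUnit_iff_ne_zero, Ne, Ideal.algebraMap_residueField_eq_zero]; exact hP𝔭 s)
  letI : Algebra (Localization.AtPrime 𝔭) (q.under A).ResidueField := g.toAlgebra
  haveI : IsScalarTower A (Localization.AtPrime 𝔭) (q.under A).ResidueField :=
    .of_algebraMap_eq fun x => (IsLocalization.lift_eq _ x).symm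
  refine ⟨(q.under A).ResidueField, inferInstance, inferInstance, ?_, ?_⟩
  · intro x hx
    rw [RingHom.mem_ker]
    obtain ⟨⟨a, s⟩, hxs⟩ := IsLocalization.surj 𝔭.primeCompl x
    have ha : a ∈ q.under A := by
      rw [Ideal.under_def, Ideal.mem_comap, ← hxs]
      exact q.mul_mem_right _ hx
    have h1 : algebraMap (Localization.AtPrime 𝔭) (q.under A).ResidueField x *
        algebraMap A (q.under A).ResidueField s = algebraMap A (q.under A).ResidueField a := by
      rw [IsScalarTower.algebraMap_apply A (Localization.AtPrime 𝔭) (q.under A).ResidueField,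
        IsScalarTower.algebraMap_apply A (Localization.AtPrime 𝔭) (q.under A).ResidueField a,
        ← map_mul, hxs]
    rw [Ideal.algebraMap_residueField_eq_zero.mpr ha] at h1
    have hs : algebraMap A (q.under A).ResidueField s ≠ 0 := by
      rw [Ne, Ideal.algebraMap_residueField_eq_zero]; exact hP𝔭 s
    exact (mul_eq_zero.mp h1).resolve_right hs
  · haveI := H (q.under A) hPht
    exact Algebra.FormallyUnramified.of_equiv (Algebra.TensorProduct.cancelBaseChange A
      (Localization.AtPrime 𝔭) (q.under A).ResidueField (q.under A).ResidueField B).symm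

/-- **Purity for finite flat algebras.** A finite flat algebra over a Noetherian ring whose fibres
over the primes of height at most one are unramified is étale. -/
theorem etale_of_fibres {A B : Type u} [CommRing A] [CommRing B] [Algebra A B]
    [IsNoetherianRing A] [Module.Finite A B] [Module.Flat A B]
    (H : ∀ (P : Ideal A) [P.IsPrime], P.height ≤ 1 →
      Algebra.FormallyUnramified P.ResidueField (P.ResidueField ⊗[A] B)) :
    Algebra.Etale A B := by
  have : Algebra.FinitePresentation A B :=
    Algebra.FinitePresentation.of_finiteType.mp inferInstance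
  have : Algebra.FormallyUnramified A B :=
    formallyUnramified_of_forall_isMaximal fun p _ => formallyUnramified_localization H p
  exact Algebra.Etale.of_formallyUnramified_of_flat

end ring

section scheme

open CategoryTheory CategoryTheory.Limits AlgebraicGeometry

theorem ringKrullDim_stalk_Spec (R : CommRingCat.{u}) (p : PrimeSpectrum R) :
    ringKrullDim ((Spec R).presheaf.stalk p) = p.asIdeal.height := by
  have e : (Spec R).presheaf.stalk p ≃+* Localization.AtPrime p.asIdeal :=
    (StructureSheaf.stalkIso R p).symm.toRingEquiv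
  rw [ringKrullDim_eq_of_ringEquiv e,
    IsLocalization.AtPrime.ringKrullDim_eq_height p.asIdeal (Localization.AtPrime p.asIdeal)]

/-- Scheme-level purity for finite flat morphisms: a finite flat morphism to a locally Noetherian
scheme whose fibres over the points of codimension at most one are étale is étale. -/
theorem etale_of_fibres_sch {X Y : Scheme.{u}} [IsLocallyNoetherian Y] (f : X ⟶ Y) [IsFinite f]
    [Flat f]
    (h : ∀ y : Y, ringKrullDim (Y.presheaf.stalk y) ≤ 1 → Etale (f.fiberToSpecResidueField y)) :
    Etale f := by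
  wlog hR : ∃ R, Y = Spec R generalizing X Y with IH
  · rw [IsZariskiLocalAtTarget.iff_of_openCover (P := @Etale) Y.affineCover]
    intro i
    dsimp [Scheme.Cover.pullbackHom]
    haveI : IsLocallyNoetherian (Y.affineCover.X i) :=
      isLocallyNoetherian_of_isOpenImmersion (Y.affineCover.f i)
    haveI : IsFinite (pullback.snd f (Y.affineCover.f i)) :=
      MorphismProperty.pullback_snd (P := @IsFinite) _ _ inferInstance
    haveI : Flat (pullback.snd f (Y.affineCover.f i)) :=
      MorphismProperty.pullback_snd (P := @Flat) _ _ inferInstance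
    refine IH (pullback.snd f (Y.affineCover.f i)) (fun y hy ↦ ?_) ⟨_, rfl⟩
    apply MorphismProperty.of_isPullback
    · exact isPullback_fiberToSpecResidueField_of_isPullback (IsPullback.of_hasPullback _ _) _
    · apply h
      have e : Y.presheaf.stalk ((Y.affineCover.f i) y) ≃+* (Y.affineCover.X i).presheaf.stalk y :=
        (asIso ((Y.affineCover.f i).stalkMap y)).commRingCatIsoToRingEquiv
      rw [ringKrullDim_eq_of_ringEquiv e]
      exact hy
  obtain ⟨R, rfl⟩ := hR
  wlog hS : ∃ S, X = Spec S generalizing X with IH
  · have : IsAffine X := isAffine_of_isAffineHom f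
    have key := IH (X.isoSpec.inv ≫ f) (fun y hy => ?_) ⟨_, rfl⟩
    · exact (MorphismProperty.cancel_left_of_respectsIso @Etale X.isoSpec.inv f).mp key
    · have hpb : IsPullback X.isoSpec.inv (X.isoSpec.inv ≫ f) f (𝟙 _) :=
        IsPullback.of_horiz_isIso ⟨by simp⟩
      have hsq := isPullback_fiberToSpecResidueField_of_isPullback hpb y
      exact MorphismProperty.of_isPullback (P := @Etale) hsq (h _ hy)
  obtain ⟨S, rfl⟩ := hS
  obtain ⟨φ, rfl⟩ := Spec.map_surjective f
  have hfin : φ.hom.Finite := (IsFinite.SpecMap_iff φ).mp inferInstance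
  have hflat : φ.hom.Flat := (HasRingHomProperty.Spec_iff (P := @Flat)).mp inferInstance
  have hnoeth : IsNoetherianRing R := isLocallyNoetherian_Spec.mp inferInstance
  rw [HasRingHomProperty.Spec_iff (P := @Etale)]
  algebraize [φ.hom]
  rw [show φ.hom = algebraMap R S from rfl, RingHom.etale_algebraMap]
  refine etale_of_fibres (fun P _ hP => ?_)
  have hE := h ⟨P, inferInstance⟩ (by rw [ringKrullDim_stalk_Spec]; exact_mod_cast hP)
  rw [show φ = CommRingCat.ofHom (algebraMap R S) from rfl,
    MorphismProperty.arrow_mk_iso_iff (P := @Etale) (Spec.fiberToSpecResidueFieldIso R S ⟨P, inferInstance⟩),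
    HasRingHomProperty.Spec_iff (P := @Etale), CommRingCat.hom_ofHom, RingHom.etale_algebraMap] at hE
  exact inferInstance

/-- A finite flat morphism to a locally Noetherian scheme which is étale over an open whose
complement has codimension at least two is étale. -/
theorem etale_of_etale_over_open {X Y : Scheme.{u}} [IsLocallyNoetherian Y] (f : X ⟶ Y)
    [IsFinite f] [Flat f] (U : Y.Opens)
    (hU : ∀ y : Y, y ∉ U → (2 : WithBot ℕ∞) ≤ ringKrullDim (Y.presheaf.stalk y))
    [Etale (pullback.snd f U.ι)] : Etale f := by
  refine etale_of_fibres_sch f fun y hy => ?_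
  have hyU : y ∈ U := by
    by_contra hn
    have h2 := (hU y hn).trans hy
    have h3 : ((2 : ℕ) : WithBot ℕ∞) ≤ ((1 : ℕ) : WithBot ℕ∞) := by exact_mod_cast h2
    have h4 : (2 : ℕ) ≤ 1 := by exact_mod_cast h3
    omega
  have hrange : Set.range (Y.fromSpecResidueField y) ⊆ Set.range U.ι := by
    rw [Scheme.range_fromSpecResidueField, Scheme.Opens.range_ι]
    simpa using hyU
  have key : ∀ (g : Spec (Y.residueField y) ⟶ Y) (t : Spec (Y.residueField y) ⟶ U.toScheme),
      g = t ≫ U.ι → Etale (pullback.snd f g) := by
    rintro g t rfl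
    rw [← pullbackLeftPullbackSndIso_inv_snd_snd f U.ι t]
    infer_instance
  exact key _ (IsOpenImmersion.lift U.ι (Y.fromSpecResidueField y) hrange)
    (IsOpenImmersion.lift_fac _ _ _).symm

end scheme

end Groth.Agent.H68.CodimOne
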