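import Mathlib

set_option autoImplicit false
universe u

namespace Groth.Agent.H68.DvrConn

open AlgebraicGeometry CategoryTheory Limits TensorProduct

section Alg

variable {B : Type*} [CommRing B]

/-- Idempotents of `B[1/π]` come from `B` when `π` is regular and `(π)` is radical. -/
theorem idem_lift {B' : Type*} [CommRing B'] [Algebra B B'] (π : B) [IsLocalization.Away π B']
    (hreg : ∀ b : B, π * b = 0 → b = 0) (hrad : (Ideal.span {π}).IsRadical)
    (e' : B') (he' : IsIdempotentElem e') :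
    ∃ e : B, IsIdempotentElem e ∧ algebraMap B B' e = e' := by
  have hinj : Function.Injective (algebraMap B B') := by
    apply IsLocalization.injective B' (M := Submonoid.powers π)
    rw [Submonoid.powers_le]
    exact mem_nonZeroDivisors_iff_left.mpr hreg
  have hunit : IsUnit (algebraMap B B' π) := IsLocalization.Away.algebraMap_isUnit π
  have hee : e' * e' = e' := he'
  have key : ∀ (n : ℕ) (b : B), algebraMap B B' b = algebraMap B B' π ^ n * e' →
      ∃ e : B, algebraMap B B' e = e' := by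
    intro n
    induction n with
    | zero => intro b hb; exact ⟨b, by simpa using hb⟩
    | succ n ih =>
      intro b hb
      have h1 : b * b = π ^ (n + 1) * b := by
        apply hinj
        rw [map_mul, map_mul, map_pow, hb]
        calc algebraMap B B' π ^ (n + 1) * e' * (algebraMap B B' π ^ (n + 1) * e')
            = algebraMap B B' π ^ (n + 1) * (algebraMap B B' π ^ (n + 1) * (e' * e')) := by ring
          _ = algebraMap B B' π ^ (n + 1) * (algebraMap B B' π ^ (n + 1) * e') := by rw [hee]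
      have h2 : b ∈ Ideal.span {π} := by
        apply hrad
        refine Ideal.mem_radical_iff.mpr ⟨2, ?_⟩
        rw [pow_two, h1, pow_succ', mul_assoc]
        exact Ideal.mul_mem_right _ _ (Ideal.subset_span (Set.mem_singleton π))
      obtain ⟨c, hc⟩ := Ideal.mem_span_singleton'.mp h2
      apply ih c
      apply hunit.mul_left_cancel
      calc algebraMap B B' π * algebraMap B B' c = algebraMap B B' (c * π) := by
            rw [map_mul]; ring
        _ = algebraMap B B' π ^ (n + 1) * e' := by rw [hc, hb]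
        _ = algebraMap B B' π * (algebraMap B B' π ^ n * e') := by ring
  obtain ⟨n, a, ha⟩ := IsLocalization.Away.surj π e'
  obtain ⟨e, he⟩ := key n a (by rw [← ha]; ring)
  refine ⟨e, ?_, he⟩
  apply hinj
  rw [map_mul, he]
  exact he'

open PrimeSpectrum in
/-- Local separation on `Spec B`. -/
theorem local_sep (π : B) (hreg : ∀ b : B, π * b = 0 → b = 0)
    (hrad : (Ideal.span {π}).IsRadical)
    (P₁ P₂ : Set (PrimeSpectrum B)) (h₁ : IsOpen P₁) (h₂ : IsOpen P₂) (hd : Disjoint P₁ P₂)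
    (hu : P₁ ∪ P₂ = (basicOpen π : Set (PrimeSpectrum B))) (p : PrimeSpectrum B) :
    ∃ E : Set (PrimeSpectrum B), IsOpen E ∧ p ∈ E ∧ (E ∩ P₁ = ∅ ∨ E ∩ P₂ = ∅) := by
  let B' := Localization.Away π
  let ι : PrimeSpectrum B' → PrimeSpectrum B := comap (algebraMap B B')
  have hι : Continuous ι := continuous_comap _
  have hrange : Set.range ι = (basicOpen π : Set (PrimeSpectrum B)) :=
    localization_away_comap_range B' π
  have hQ₂ : IsOpen (ι ⁻¹' P₂) := h₂.preimage hι
  have hQu : ι ⁻¹' P₁ ∪ ι ⁻¹' P₂ = Set.univ := by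
    rw [← Set.preimage_union, hu, ← hrange]
    exact Set.preimage_range ι
  have hQd : Disjoint (ι ⁻¹' P₁) (ι ⁻¹' P₂) := hd.preimage ι
  have hQc : IsClopen (ι ⁻¹' P₁) := by
    refine ⟨?_, h₁.preimage hι⟩
    have : ι ⁻¹' P₁ = (ι ⁻¹' P₂)ᶜ := by
      ext q
      constructor
      · intro hq hq2
        exact Set.disjoint_left.mp hQd hq hq2
      · intro hq
        have : q ∈ ι ⁻¹' P₁ ∪ ι ⁻¹' P₂ := hQu ▸ Set.mem_univ q
        exact this.resolve_right hq
    rw [this]
    exact hQ₂.isClosed_compl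
  obtain ⟨e', he', hQe⟩ := PrimeSpectrum.isClopen_iff.mp hQc
  obtain ⟨e, he, hee⟩ := idem_lift π hreg hrad e' he'
  have hP₁ : ∀ q ∈ P₁, e ∉ q.asIdeal := by
    intro q hq
    have hqπ : q ∈ Set.range ι := by rw [hrange, ← hu]; exact Or.inl hq
    obtain ⟨q', rfl⟩ := hqπ
    have h1 : q' ∈ ι ⁻¹' P₁ := hq
    rw [hQe] at h1
    intro hmem
    apply (mem_basicOpen _ _).mp h1
    rw [← hee]
    exact hmem
  have hP₂ : ∀ q ∈ P₂, e ∈ q.asIdeal := by
    intro q hq
    have hqπ : q ∈ Set.range ι := by rw [hrange, ← hu]; exact Or.inr hq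
    obtain ⟨q', rfl⟩ := hqπ
    have h2 : q' ∈ ι ⁻¹' P₂ := hq
    have h1 : q' ∉ ι ⁻¹' P₁ := fun h => Set.disjoint_left.mp hQd h h2
    rw [hQe] at h1
    have h3 : e' ∈ q'.asIdeal := by
      by_contra hcon
      exact h1 ((mem_basicOpen _ _).mpr hcon)
    show algebraMap B B' e ∈ q'.asIdeal
    rw [hee]
    exact h3
  by_cases hp : e ∈ p.asIdeal
  · refine ⟨basicOpen (1 - e), (basicOpen (1 - e)).isOpen, ?_, Or.inl ?_⟩
    · apply (mem_basicOpen _ _).mpr
      intro h
      apply p.isPrime.ne_top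
      rw [Ideal.eq_top_iff_one]
      have := Ideal.add_mem _ h hp
      simpa using this
    · rw [Set.eq_empty_iff_forall_notMem]
      rintro q ⟨hq1, hq2⟩
      have h0 : e * (1 - e) ∈ q.asIdeal := by
        have : e * (1 - e) = 0 := by rw [mul_sub, mul_one, he.eq, sub_self]
        rw [this]
        exact zero_mem _
      rcases q.isPrime.mem_or_mem h0 with h | h
      · exact hP₁ q hq2 h
      · exact (mem_basicOpen _ _).mp hq1 h
  · refine ⟨basicOpen e, (basicOpen e).isOpen, (mem_basicOpen _ _).mpr hp, Or.inr ?_⟩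
    rw [Set.eq_empty_iff_forall_notMem]
    rintro q ⟨hq1, hq2⟩
    exact (mem_basicOpen _ _).mp hq1 (hP₂ q hq2)

/-- `π` is a nonzerodivisor on a Noetherian ring if `(π)` is radical and `D(π)` is dense. -/
theorem torsion_free_of_dense [IsNoetherianRing B] (π : B)
    (hrad : (Ideal.span {π}).IsRadical)
    (hdense : Dense (PrimeSpectrum.basicOpen π : Set (PrimeSpectrum B))) :
    ∀ b : B, π * b = 0 → b = 0 := by
  let N : Ideal B :=
    { carrier := {t | ∃ k : ℕ, π ^ k * t = 0}
      add_mem' := by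
        rintro a b ⟨k, hk⟩ ⟨l, hl⟩
        refine ⟨k + l, ?_⟩
        calc π ^ (k + l) * (a + b) = π ^ l * (π ^ k * a) + π ^ k * (π ^ l * b) := by ring
          _ = 0 := by rw [hk, hl]; simp
      zero_mem' := ⟨0, by simp⟩
      smul_mem' := by
        rintro c t ⟨k, hk⟩
        exact ⟨k, by rw [smul_eq_mul, mul_left_comm, hk, mul_zero]⟩ }
  have hnil : ∀ t ∈ N, IsNilpotent t := by
    rintro t ⟨k, hk⟩
    rw [← PrimeSpectrum.basicOpen_eq_bot_iff]
    by_contra hne
    have hne' : (PrimeSpectrum.basicOpen t : Set (PrimeSpectrum B)).Nonempty := by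
      rw [Set.nonempty_iff_ne_empty, Ne, TopologicalSpace.Opens.coe_eq_empty]
      exact hne
    obtain ⟨q, hq1, hq2⟩ :=
      hdense.inter_open_nonempty _ (PrimeSpectrum.basicOpen t).isOpen hne'
    have h0 : π ^ k * t ∈ q.asIdeal := by rw [hk]; exact zero_mem _
    rcases q.isPrime.mem_or_mem h0 with h | h
    · exact (PrimeSpectrum.mem_basicOpen _ _).mp hq2 (q.isPrime.mem_of_pow_mem _ h)
    · exact (PrimeSpectrum.mem_basicOpen _ _).mp hq1 h
  have hle : N ≤ Ideal.span {π} • N := by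
    intro t ht
    have h1 : t ∈ Ideal.span {π} := by
      apply hrad
      obtain ⟨n, hn⟩ := hnil t ht
      exact Ideal.mem_radical_iff.mpr ⟨n, by rw [hn]; exact zero_mem _⟩
    obtain ⟨c, hc⟩ := Ideal.mem_span_singleton'.mp h1
    obtain ⟨k, hk⟩ := ht
    have hcN : c ∈ N := ⟨k + 1, by rw [pow_succ, mul_assoc, mul_comm π c, hc]; exact hk⟩
    rw [smul_eq_mul, ← hc, mul_comm c π]
    exact Ideal.mul_mem_mul (Ideal.subset_span (Set.mem_singleton π)) hcN
  obtain ⟨r, hr1, hr2⟩ :=
    Submodule.exists_sub_one_mem_and_smul_eq_zero_of_fg_of_le_smul (Ideal.span {π}) N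
      (IsNoetherian.noetherian N) hle
  obtain ⟨c₀, hc₀⟩ := Ideal.mem_span_singleton'.mp hr1
  intro b hb
  have hbN : b ∈ N := ⟨1, by rw [pow_one]; exact hb⟩
  have h3 := hr2 b hbN
  rw [smul_eq_mul] at h3
  have hr : r = 1 + c₀ * π := by rw [hc₀]; ring
  rw [hr] at h3
  calc b = (1 + c₀ * π) * b - c₀ * (π * b) := by ring
    _ = 0 := by rw [h3, hb]; simp

end Alg

section Sch

variable {R : Type u} [CommRing R]

theorem preimage_basicOpen_of_eq (π : R) {X : Scheme.{u}}
    (f : X ⟶ Spec (CommRingCat.of R)) (B : CommRingCat.{u}) (φ : CommRingCat.of R ⟶ B)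
    (j : Spec B ⟶ X) (h : Spec.map φ = j ≫ f) :
    j ⁻¹' (f ⁻¹' (PrimeSpectrum.basicOpen π : Set (PrimeSpectrum R))) =
      (PrimeSpectrum.basicOpen (φ.hom π) : Set (PrimeSpectrum B)) := by
  ext q
  have h1 : f (j q) = (Spec.map φ) q := by rw [h]; rfl
  simp only [Set.mem_preimage, h1]
  rfl

/-- Density of `f⁻¹ D(π)` when `π` is regular on all charts. -/
theorem dense_preimage_basicOpen (π : R) {X : Scheme.{u}}
    (f : X ⟶ Spec (CommRingCat.of R))
    (H : ∀ (B : CommRingCat.{u}) (φ : CommRingCat.of R ⟶ B) (j : Spec B ⟶ X)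
      [IsOpenImmersion j], Spec.map φ = j ≫ f → (∀ b : B, φ.hom π * b = 0 → b = 0)) :
    Dense (f ⁻¹' (PrimeSpectrum.basicOpen π : Set (PrimeSpectrum R))) := by
  rw [dense_iff_inter_open]
  rintro O hO ⟨x, hx⟩
  obtain ⟨W, hW, hxW, hWO⟩ :=
    exists_isAffineOpen_mem_and_subset (X := X) (x := x) (U := ⟨O, hO⟩) hx
  let φ := Spec.preimage (hW.fromSpec ≫ f)
  have hφ : Spec.map φ = hW.fromSpec ≫ f := Spec.map_preimage _
  have hreg := H _ φ hW.fromSpec hφ
  obtain ⟨p, hp⟩ : x ∈ Set.range hW.fromSpec := by rw [hW.range_fromSpec]; exact hxW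
  haveI hnontriv : Nontrivial Γ(X, W) := PrimeSpectrum.nonempty_iff_nontrivial.mp ⟨p⟩
  have hnn : ¬ IsNilpotent (φ.hom π) := by
    rintro ⟨n, hn⟩
    induction n with
    | zero =>
      rw [pow_zero] at hn
      exact one_ne_zero hn
    | succ n ih => exact ih (hreg _ (by rw [← pow_succ']; exact hn))
  have hne : (PrimeSpectrum.basicOpen (φ.hom π) : Set (PrimeSpectrum Γ(X, W))).Nonempty := by
    rw [Set.nonempty_iff_ne_empty, Ne, TopologicalSpace.Opens.coe_eq_empty,
      PrimeSpectrum.basicOpen_eq_bot_iff]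
    exact hnn
  obtain ⟨q, hq⟩ := hne
  rw [← preimage_basicOpen_of_eq π f _ φ hW.fromSpec hφ] at hq
  refine ⟨hW.fromSpec q, hWO ?_, hq⟩
  have : hW.fromSpec q ∈ Set.range hW.fromSpec := ⟨q, rfl⟩
  rw [hW.range_fromSpec] at this
  exact this

/-- The scheme-level statement: the open `f⁻¹ D(π)` is preconnected. -/
theorem isPreconnected_preimage_basicOpen (π : R) {X : Scheme.{u}}
    (f : X ⟶ Spec (CommRingCat.of R)) [PreconnectedSpace X]
    (H : ∀ (B : CommRingCat.{u}) (φ : CommRingCat.of R ⟶ B) (j : Spec B ⟶ X)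
      [IsOpenImmersion j], Spec.map φ = j ≫ f →
        (∀ b : B, φ.hom π * b = 0 → b = 0) ∧ (Ideal.span {φ.hom π}).IsRadical) :
    _root_.IsPreconnected (f ⁻¹' (PrimeSpectrum.basicOpen π : Set (PrimeSpectrum R))) := by
  set U : Set X := f ⁻¹' (PrimeSpectrum.basicOpen π : Set (PrimeSpectrum R)) with hU
  have hUo : IsOpen U := (PrimeSpectrum.basicOpen π).isOpen.preimage f.continuous
  have hdense : Dense U :=
    dense_preimage_basicOpen π f (fun B φ j _ h => (H B φ j h).1)
  rw [isPreconnected_iff_subset_of_disjoint]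
  intro u v hu hv huv huv'
  have hV₁ : IsOpen (U ∩ u) := hUo.inter hu
  have hV₂ : IsOpen (U ∩ v) := hUo.inter hv
  have hVd : Disjoint (U ∩ u) (U ∩ v) := by
    rw [Set.disjoint_iff_inter_eq_empty, ← Set.inter_inter_distrib_left]
    exact huv'
  have hVu : (U ∩ u) ∪ (U ∩ v) = U := by
    rw [← Set.inter_union_distrib_left]
    exact Set.inter_eq_left.mpr huv
  have hcl : closure (U ∩ u) ∩ closure (U ∩ v) = ∅ := by
    rw [Set.eq_empty_iff_forall_notMem]
    rintro x ⟨hx1, hx2⟩
    obtain ⟨W, hW, hxW, -⟩ :=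
      exists_isAffineOpen_mem_and_subset (X := X) (x := x) (U := ⊤) trivial
    let φ := Spec.preimage (hW.fromSpec ≫ f)
    have hφ : Spec.map φ = hW.fromSpec ≫ f := Spec.map_preimage _
    obtain ⟨hreg, hrad⟩ := H _ φ hW.fromSpec hφ
    obtain ⟨p, rfl⟩ : x ∈ Set.range hW.fromSpec := by rw [hW.range_fromSpec]; exact hxW
    obtain ⟨E, hE, hpE, hEP⟩ := local_sep (φ.hom π) hreg hrad
      (hW.fromSpec ⁻¹' (U ∩ u)) (hW.fromSpec ⁻¹' (U ∩ v))
      (hV₁.preimage hW.fromSpec.continuous) (hV₂.preimage hW.fromSpec.continuous)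
      (hVd.preimage _)
      (by rw [← Set.preimage_union, hVu]
          exact preimage_basicOpen_of_eq π f _ φ hW.fromSpec hφ) p
    have hjE : IsOpen (hW.fromSpec '' E) := hW.fromSpec.isOpenEmbedding.isOpenMap E hE
    rcases hEP with h | h
    · obtain ⟨y, ⟨q, hqE, rfl⟩, hy⟩ := mem_closure_iff.mp hx1 _ hjE ⟨p, hpE, rfl⟩
      exact (Set.eq_empty_iff_forall_notMem.mp h q) ⟨hqE, hy⟩
    · obtain ⟨y, ⟨q, hqE, rfl⟩, hy⟩ := mem_closure_iff.mp hx2 _ hjE ⟨p, hpE, rfl⟩
      exact (Set.eq_empty_iff_forall_notMem.mp h q) ⟨hqE, hy⟩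
  have hun : closure (U ∩ u) ∪ closure (U ∩ v) = Set.univ := by
    rw [← closure_union, hVu]
    exact hdense.closure_eq
  have hclopen : IsClopen (closure (U ∩ u)) := by
    refine ⟨isClosed_closure, ?_⟩
    have : closure (U ∩ u) = (closure (U ∩ v))ᶜ := by
      ext x
      constructor
      · intro h1 h2
        exact (Set.eq_empty_iff_forall_notMem.mp hcl x) ⟨h1, h2⟩
      · intro h2
        have : x ∈ closure (U ∩ u) ∪ closure (U ∩ v) := hun ▸ Set.mem_univ x
        exact this.resolve_right h2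
    rw [this]
    exact isClosed_closure.isOpen_compl
  rcases isClopen_iff.mp hclopen with h | h
  · right
    intro x hx
    rcases huv hx with hxu | hxv
    · exfalso
      have : x ∈ closure (U ∩ u) := subset_closure ⟨hx, hxu⟩
      rw [h] at this
      exact this
    · exact hxv
  · left
    intro x hx
    rcases huv hx with hxu | hxv
    · exact hxu
    · exfalso
      have h2 : x ∈ closure (U ∩ v) := subset_closure ⟨hx, hxv⟩
      have h1 : x ∈ closure (U ∩ u) := h ▸ Set.mem_univ x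
      exact (Set.eq_empty_iff_forall_notMem.mp hcl x) ⟨h1, h2⟩

/-- `(φ π)` is radical on charts when the fibre over the closed point `V(π)` is reduced. -/
theorem radical_of_isReduced_fiber (π : R) (s : PrimeSpectrum R) [hs : s.asIdeal.IsMaximal]
    (hsπ : s.asIdeal = Ideal.span {π}) {X : Scheme.{u}} (f : X ⟶ Spec (CommRingCat.of R))
    (hred : IsReduced (f.fiber s)) (B : CommRingCat.{u}) (φ : CommRingCat.of R ⟶ B)
    (j : Spec B ⟶ X) [IsOpenImmersion j] (h : Spec.map φ = j ≫ f) :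
    (Ideal.span {φ.hom π}).IsRadical := by
  haveI : IsReduced ((Spec.map φ).fiber s) := by
    let i : (Spec.map φ).fiber s ⟶ f.fiber s :=
      pullback.map (Spec.map φ) ((Spec (CommRingCat.of R)).fromSpecResidueField s) f
        ((Spec (CommRingCat.of R)).fromSpecResidueField s)
        j (𝟙 _) (𝟙 _) (by rw [Category.comp_id, h]) (by rw [Category.comp_id, Category.id_comp])
    haveI : IsOpenImmersion i :=
      Scheme.pullback_map_isOpenImmersion _ _ _ _ _ _ _ _ _
    exact isReduced_of_isOpenImmersion i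
  algebraize [φ.hom]
  have e := Spec.fiberToSpecResidueFieldIso R B s
  have e' : (Spec.map φ).fiber s ≅ Spec (CommRingCat.of (s.asIdeal.Fiber B)) :=
    Arrow.leftFunc.mapIso e
  haveI : IsReduced (Spec (CommRingCat.of (s.asIdeal.Fiber B))) :=
    isReduced_of_isOpenImmersion e'.inv
  haveI hredring : _root_.IsReduced (s.asIdeal.Fiber B) :=
    (affine_isReduced_iff (CommRingCat.of (s.asIdeal.Fiber B))).mp inferInstance
  intro b hb
  obtain ⟨n, hn⟩ := Ideal.mem_radical_iff.mp hb
  obtain ⟨c, hc⟩ := Ideal.mem_span_singleton'.mp hn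
  have hπs : π ∈ s.asIdeal := by rw [hsπ]; exact Ideal.subset_span (Set.mem_singleton π)
  have hψ : ((1 : s.asIdeal.ResidueField) ⊗ₜ[R] (b : B)) ^ n = 0 := by
    rw [Algebra.TensorProduct.tmul_pow, one_pow, ← hc]
    have h1 : c * φ.hom π = π • c := by rw [Algebra.smul_def, mul_comm]; rfl
    rw [h1, ← TensorProduct.smul_tmul, Algebra.smul_def, mul_one,
      Ideal.algebraMap_residueField_eq_zero.mpr hπs, TensorProduct.zero_tmul]
  have h0 : ((1 : s.asIdeal.ResidueField) ⊗ₜ[R] (b : B)) = 0 := IsReduced.eq_zero _ ⟨n, hψ⟩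
  let eκ : (R ⧸ s.asIdeal) ≃ₗ[R] s.asIdeal.ResidueField :=
    LinearEquiv.ofBijective
      ((Algebra.linearMap (R ⧸ s.asIdeal) s.asIdeal.ResidueField).restrictScalars R)
      (Ideal.bijective_algebraMap_quotient_residueField s.asIdeal)
  have h1 : ((1 : R ⧸ s.asIdeal) ⊗ₜ[R] (b : B)) = 0 := by
    apply (LinearEquiv.rTensor B eκ).injective
    rw [map_zero, LinearEquiv.rTensor_tmul]
    have : eκ 1 = 1 := by simp [eκ]
    rw [this]
    exact h0
  have h2 : b ∈ s.asIdeal • (⊤ : Submodule R B) := by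
    rw [← Submodule.Quotient.mk_eq_zero]
    have := TensorProduct.quotTensorEquivQuotSMul_mk_one_tmul (M := B) s.asIdeal b
    rw [h1, map_zero] at this
    exact this.symm
  have hle : (s.asIdeal • (⊤ : Submodule R B)) ≤ (Ideal.span {φ.hom π}).restrictScalars R := by
    rw [Submodule.smul_le]
    intro r hr x _
    rw [hsπ, Ideal.mem_span_singleton'] at hr
    obtain ⟨a, rfl⟩ := hr
    show (a * π) • x ∈ Ideal.span {φ.hom π}
    rw [Algebra.smul_def, map_mul]
    exact Ideal.mul_mem_right _ _ (Ideal.mul_mem_left _ _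
      (Ideal.subset_span (Set.mem_singleton_iff.mpr rfl)))
  exact hle h2

theorem regular_of_flat (π : R) (hπ : ∀ r : R, π * r = 0 → r = 0) {X : Scheme.{u}}
    (f : X ⟶ Spec (CommRingCat.of R)) [Flat f]
    (B : CommRingCat.{u}) (φ : CommRingCat.of R ⟶ B) (j : Spec B ⟶ X) [IsOpenImmersion j]
    (h : Spec.map φ = j ≫ f) :
    ∀ b : B, φ.hom π * b = 0 → b = 0 := by
  haveI : Flat (Spec.map φ) := by rw [h]; infer_instance
  have hfl : φ.hom.Flat := (HasRingHomProperty.Spec_iff (P := @Flat)).mp inferInstance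
  algebraize [φ.hom]
  haveI : Module.Flat R B := hfl
  have hreg : IsSMulRegular R π := by
    intro a b hab
    have : π * (a - b) = 0 := by
      rw [mul_sub, sub_eq_zero]
      exact hab
    exact sub_eq_zero.mp (hπ _ this)
  have h2 : IsSMulRegular B (algebraMap R B π) := IsSMulRegular.of_flat hreg
  intro b hb
  apply h2
  simp only [smul_eq_mul, mul_zero]
  exact hb

theorem regular_of_open_lft [IsNoetherianRing R] (π : R) (η : PrimeSpectrum R)
    (hη : ∀ z : PrimeSpectrum R, η ⤳ z)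
    (hηπ : η ∈ (PrimeSpectrum.basicOpen π : Set (PrimeSpectrum R)))
    {X : Scheme.{u}} (f : X ⟶ Spec (CommRingCat.of R)) [LocallyOfFiniteType f]
    (hopen : IsOpenMap f)
    (B : CommRingCat.{u}) (φ : CommRingCat.of R ⟶ B) (j : Spec B ⟶ X) [IsOpenImmersion j]
    (h : Spec.map φ = j ≫ f) (hrad : (Ideal.span {φ.hom π}).IsRadical) :
    ∀ b : B, φ.hom π * b = 0 → b = 0 := by
  haveI : LocallyOfFiniteType (Spec.map φ) := by rw [h]; infer_instance
  have hft : φ.hom.FiniteType :=
    (HasRingHomProperty.Spec_iff (P := @LocallyOfFiniteType)).mp inferInstance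
  algebraize [φ.hom]
  haveI : Algebra.FiniteType R B := hft
  haveI : IsNoetherianRing B := Algebra.FiniteType.isNoetherianRing R B
  apply torsion_free_of_dense (φ.hom π) hrad
  rw [dense_iff_inter_open]
  rintro O hO ⟨q, hq⟩
  have h1 : IsOpen (f '' (j '' O)) := hopen _ (j.isOpenEmbedding.isOpenMap _ hO)
  have h2 : η ∈ f '' (j '' O) := (hη (f (j q))).mem_open h1 ⟨j q, ⟨q, hq, rfl⟩, rfl⟩
  obtain ⟨_, ⟨q', hq', rfl⟩, hq''⟩ := h2
  refine ⟨q', hq', ?_⟩
  rw [← preimage_basicOpen_of_eq π f B φ j h]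
  show f (j q') ∈ (PrimeSpectrum.basicOpen π : Set (PrimeSpectrum R))
  rw [hq'']
  exact hηπ

theorem preconnectedSpace_fiber {X Y : Scheme.{u}} (f : X ⟶ Y) (y : Y)
    (h : _root_.IsPreconnected (f ⁻¹' {y})) : PreconnectedSpace (f.fiber y) := by
  haveI : PreconnectedSpace (f ⁻¹' {y}) := isPreconnected_iff_preconnectedSpace.mp h
  exact ((f.fiberHomeo y).symm.surjective.denseRange).preconnectedSpace
    (f.fiberHomeo y).symm.continuous

end Sch

end Groth.Agent.H68.DvrConn
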