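import Mathlib
import Groth.Agent.H7.PurelyInsepLoc

set_option autoImplicit false

universe u

open AlgebraicGeometry CategoryTheory Limits

namespace Groth.Agent.H68.EtLoc

/-- An unramified morphism locally of finite type is locally quasi-finite. -/
theorem locallyQuasiFinite_of_unramified {X Y : Scheme.{u}} (f : X ⟶ Y)
    [LocallyOfFiniteType f] [FormallyUnramified f] : LocallyQuasiFinite f := by
  refine ⟨fun {U} hU {V} hV e => ?_⟩
  have h1 : (f.appLE U V e).hom.FiniteType := f.finiteType_appLE hU hV e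
  have h2 : (f.appLE U V e).hom.FormallyUnramified := f.formallyUnramified_appLE hU hV e
  algebraize [(f.appLE U V e).hom]
  show (algebraMap _ _).QuasiFinite
  rw [RingHom.quasiFinite_algebraMap]
  infer_instance

/-- Restricting to a smaller open of the target. -/
lemma restrict_of_le (P : MorphismProperty Scheme.{u}) [IsZariskiLocalAtTarget P] {X Y : Scheme.{u}}
    (f : X ⟶ Y) {U₁ U₂ : Y.Opens} (h : U₂ ≤ U₁) (hP : P (f ∣_ U₁)) : P (f ∣_ U₂) := by
  have h1 : P ((f ∣_ U₁) ∣_ (U₁.ι ⁻¹ᵁ U₂)) := IsZariskiLocalAtTarget.restrict hP _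
  have h3 : U₁.ι ''ᵁ (U₁.ι ⁻¹ᵁ U₂) = U₂ := by
    rw [Scheme.Hom.image_preimage_eq_opensRange_inf, Scheme.Opens.opensRange_ι]
    exact inf_eq_right.mpr h
  exact (P.arrow_mk_iso_iff
    (morphismRestrictRestrict f U₁ (U₁.ι ⁻¹ᵁ U₂) ≪≫ morphismRestrictEq f h3)).mp h1

/-- A source-local property holds on a union of opens if it holds on each. -/
lemma comp_iSup_ι (P : MorphismProperty Scheme.{u}) [IsZariskiLocalAtSource P] {X S : Scheme.{u}}
    (f : X ⟶ S) {ι : Type*} (W : ι → X.Opens) (h : ∀ i, P ((W i).ι ≫ f)) :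
    P ((⨆ i, W i).ι ≫ f) := by
  refine IsZariskiLocalAtSource.of_iSup_eq_top (fun i => (⨆ i, W i).ι ⁻¹ᵁ W i) ?_ fun i => ?_
  · rw [eq_top_iff]
    rintro ⟨a, ha⟩ -
    obtain ⟨i, hi⟩ := TopologicalSpace.Opens.mem_iSup.mp ha
    exact TopologicalSpace.Opens.mem_iSup.mpr ⟨i, hi⟩
  · have : ((⨆ i, W i).ι ⁻¹ᵁ W i).ι ≫ (⨆ i, W i).ι ≫ f =
        ((⨆ i, W i).ι ∣_ W i) ≫ (W i).ι ≫ f := by
      rw [← Category.assoc, ← morphismRestrict_ι, Category.assoc]
    rw [this]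
    exact IsZariskiLocalAtSource.comp (h i) _

section rho

variable {X S U : Scheme.{u}} (f : X ⟶ S) (g : U ⟶ S)

/-- The open immersion `X ×_S U₂ ⟶ X ×_S U` for an open `U₂ ⊆ U`. -/
noncomputable def rho (U₂ : U.Opens) : pullback f (U₂.ι ≫ g) ⟶ pullback f g :=
  pullback.map f (U₂.ι ≫ g) f g (𝟙 X) U₂.ι (𝟙 S) (by simp) (by simp)

lemma rho_fst (U₂ : U.Opens) :
    rho f g U₂ ≫ pullback.fst f g = pullback.fst f (U₂.ι ≫ g) := by
  unfold rho
  exact (pullback.lift_fst _ _ _).trans (Category.comp_id _)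

lemma rho_snd (U₂ : U.Opens) :
    rho f g U₂ ≫ pullback.snd f g = pullback.snd f (U₂.ι ≫ g) ≫ U₂.ι := by
  unfold rho
  exact pullback.lift_snd _ _ _

instance (U₂ : U.Opens) : IsOpenImmersion (rho f g U₂) := by
  unfold rho; infer_instance

lemma isPullback_rho (U₂ : U.Opens) :
    IsPullback (rho f g U₂) (pullback.snd f (U₂.ι ≫ g)) (pullback.snd f g) U₂.ι := by
  have big : IsPullback (rho f g U₂ ≫ pullback.fst f g) (pullback.snd f (U₂.ι ≫ g)) f
      (U₂.ι ≫ g) := by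
    rw [rho_fst]; exact IsPullback.of_hasPullback f (U₂.ι ≫ g)
  exact IsPullback.of_right big (rho_snd f g U₂) (IsPullback.of_hasPullback f g)

lemma range_rho (U₂ : U.Opens) :
    Set.range (rho f g U₂) = pullback.snd f g ⁻¹' (U₂ : Set U) := by
  unfold rho
  rw [Scheme.Pullback.range_map]
  simp

lemma rho_fst_apply (U₂ : U.Opens) (w : ↑(pullback f (U₂.ι ≫ g))) :
    pullback.fst f g (rho f g U₂ w) = pullback.fst f (U₂.ι ≫ g) w := by
  rw [← Scheme.Hom.comp_apply, rho_fst]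

lemma rho_snd_apply (U₂ : U.Opens) (w : ↑(pullback f (U₂.ι ≫ g))) :
    pullback.snd f g (rho f g U₂ w) = (pullback.snd f (U₂.ι ≫ g) w).1 := by
  rw [← Scheme.Hom.comp_apply, rho_snd]
  rfl

lemma of_rho (P : MorphismProperty Scheme.{u}) [P.IsStableUnderBaseChange] (U₂ : U.Opens)
    (V : (pullback f g).Opens) (h : P (V.ι ≫ pullback.snd f g)) :
    P ((rho f g U₂ ⁻¹ᵁ V).ι ≫ pullback.snd f (U₂.ι ≫ g)) := by
  have sq1 := isPullback_morphismRestrict (rho f g U₂) V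
  have sq := sq1.paste_vert (isPullback_rho f g U₂)
  exact P.of_isPullback sq h

/-- The open immersion `Y ×_S U ⟶ X ×_S U` for an open `Y ⊆ X`. -/
noncomputable def theta (Y : X.Opens) : pullback (Y.ι ≫ f) g ⟶ pullback f g :=
  pullback.map (Y.ι ≫ f) g f g Y.ι (𝟙 U) (𝟙 S) (by simp) (by simp)

lemma theta_fst (Y : X.Opens) :
    theta f g Y ≫ pullback.fst f g = pullback.fst (Y.ι ≫ f) g ≫ Y.ι := by
  unfold theta
  exact pullback.lift_fst _ _ _

lemma theta_snd (Y : X.Opens) :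
    theta f g Y ≫ pullback.snd f g = pullback.snd (Y.ι ≫ f) g := by
  unfold theta
  exact (pullback.lift_snd _ _ _).trans (Category.comp_id _)

instance (Y : X.Opens) : IsOpenImmersion (theta f g Y) := by
  unfold theta; infer_instance

lemma range_theta (Y : X.Opens) :
    Set.range (theta f g Y) = pullback.fst f g ⁻¹' (Y : Set X) := by
  unfold theta
  rw [Scheme.Pullback.range_map]
  simp

end rho


/-- Engine: étale-local splitting of finitely many unramified points of a fibre into pieces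
satisfying a target-local property `P`, given a local criterion `hloc` for finite pieces with a
one-point fibre with trivial residue field extension. -/
theorem main (P : MorphismProperty Scheme.{u}) [IsZariskiLocalAtTarget P]
    {X S : Scheme.{u}} (f : X ⟶ S) (s : S) {ι : Type} [Finite ι] (x : ι → ↑X)
    (hinj : Function.Injective x) (hs : ∀ i, f (x i) = s)
    (Y : X.Opens) (hxY : ∀ i, x i ∈ Y) [LocallyOfFiniteType (Y.ι ≫ f)]
    [FormallyUnramified (Y.ι ≫ f)]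
    (hloc : ∀ {U : Scheme.{u}} (g : U ⟶ S) (V : (pullback (Y.ι ≫ f) g).Opens) (u : U)
      (v : ↑(V.toScheme)),
      IsFinite (V.ι ≫ pullback.snd (Y.ι ≫ f) g) →
      (V.ι ≫ pullback.snd (Y.ι ≫ f) g).base ⁻¹' {u} = {v} →
      Function.Surjective ((V.ι ≫ pullback.snd (Y.ι ≫ f) g).residueFieldMap v) →
      ∃ U' : U.Opens, u ∈ U' ∧ P ((V.ι ≫ pullback.snd (Y.ι ≫ f) g) ∣_ U')) :
    ∃ (U : Scheme.{u}) (g : U ⟶ S) (u : U), Etale g ∧ g u = s ∧
      ∃ (K : Type) (_ : Finite K) (lab : K → ι) (V : K → (pullback f g).Opens),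
        (∀ k, P ((V k).ι ≫ pullback.snd f g) ∧
          ∃ w : ↑(pullback f g), w ∈ V k ∧ pullback.snd f g w = u) ∧
        (∀ (k k' : K) (w : ↑(pullback f g)), w ∈ V k → w ∈ V k' → pullback.snd f g w = u →
          k = k') ∧
        (∀ (w : ↑(pullback f g)) (i : ι), pullback.snd f g w = u → pullback.fst f g w = x i →
          ∃ k, lab k = i ∧ w ∈ V k) := by
  classical
  have hlqf : LocallyQuasiFinite (Y.ι ≫ f) := locallyQuasiFinite_of_unramified (Y.ι ≫ f)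
  let y : ι → ↑(Y.toScheme) := fun i => ⟨x i, hxY i⟩
  have hyinj : Function.Injective y := fun i j h => hinj (congrArg Subtype.val h)
  have hys : ∀ i, (Y.ι ≫ f) (y i) = s := fun i => by
    rw [Scheme.Hom.comp_apply]; exact hs i
  obtain ⟨U, g, u, hg, hgu, J, hJ, V, v, hV, hvinj, hvex⟩ :=
    Groth.Agent.H7.exists_etale_nbhd_purelyInsep_parts (Y.ι ≫ f) s y hyinj hys
      (fun i => (Y.ι ≫ f).quasiFiniteAt (y i))
  haveI : ∀ i, Finite (J i) := hJ
  have hfin : ∀ i j, IsFinite ((V i j).ι ≫ pullback.snd (Y.ι ≫ f) g) := fun i j => (hV i j).2.1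
  have hfib : ∀ i j, ((V i j).ι ≫ pullback.snd (Y.ι ≫ f) g).base ⁻¹' {u} =
      {(⟨v i j, (hV i j).1⟩ : ↑((V i j).toScheme))} := by
    intro i j
    ext w
    simp only [Set.mem_preimage, Set.mem_singleton_iff]
    constructor
    · intro hw
      apply Subtype.ext
      exact (hV i j).2.2.2.1 w.1 w.2 hw
    · rintro rfl
      exact (hV i j).2.2.1
  have hres : ∀ i j, Function.Surjective
      (((V i j).ι ≫ pullback.snd (Y.ι ≫ f) g).residueFieldMap
        (⟨v i j, (hV i j).1⟩ : ↑((V i j).toScheme))) := by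
    intro i j
    have hfp := Groth.Agent.H7.finite_and_purelyInsep_of_sepDeg_eq_one _ (hV i j).2.2.2.2.1
      (hV i j).2.2.2.2.2.1
    haveI : FormallyUnramified (pullback.snd (Y.ι ≫ f) g) :=
      MorphismProperty.pullback_snd _ _ inferInstance
    haveI : LocallyOfFiniteType (pullback.snd (Y.ι ≫ f) g) :=
      MorphismProperty.pullback_snd _ _ inferInstance
    letI := ((pullback.snd (Y.ι ≫ f) g).residueFieldMap (v i j)).hom.toAlgebra
    have hpi : IsPurelyInseparable (U.residueField (pullback.snd (Y.ι ≫ f) g (v i j)))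
        ((pullback (Y.ι ≫ f) g).residueField (v i j)) := hfp.2
    have hsep : Algebra.IsSeparable (U.residueField (pullback.snd (Y.ι ≫ f) g (v i j)))
        ((pullback (Y.ι ≫ f) g).residueField (v i j)) := inferInstance
    have h1 : Function.Surjective (algebraMap (U.residueField (pullback.snd (Y.ι ≫ f) g (v i j)))
        ((pullback (Y.ι ≫ f) g).residueField (v i j))) :=
      IsPurelyInseparable.surjective_algebraMap_of_isSeparable _ _
    have h2 : Function.Surjective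
        ((pullback.snd (Y.ι ≫ f) g).residueFieldMap (v i j)).hom := h1
    have h3 : Function.Surjective ((V i j).ι.residueFieldMap
        (⟨v i j, (hV i j).1⟩ : ↑((V i j).toScheme))).hom :=
      ((ConcreteCategory.isIso_iff_bijective _).mp inferInstance).2
    rw [Scheme.residueFieldMap_comp]
    exact h3.comp h2
  have hex : ∀ k : (Σ i, J i), ∃ U' : U.Opens, u ∈ U' ∧
      P (((V k.1 k.2).ι ≫ pullback.snd (Y.ι ≫ f) g) ∣_ U') :=
    fun k => hloc g (V k.1 k.2) u ⟨v k.1 k.2, (hV k.1 k.2).1⟩ (hfin k.1 k.2) (hfib k.1 k.2)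
      (hres k.1 k.2)
  choose U' hU'u hU'P using hex
  let U'' : U.Opens := ⟨⋂ k, (U' k : Set U), isOpen_iInter_of_finite fun k => (U' k).isOpen⟩
  have huU'' : u ∈ U'' := Set.mem_iInter.mpr hU'u
  have hle : ∀ k, U'' ≤ U' k := fun k a ha => Set.mem_iInter.mp ha k
  have hP'' : ∀ k : (Σ i, J i), P (((V k.1 k.2).ι ≫ pullback.snd (Y.ι ≫ f) g) ∣_ U'') :=
    fun k => restrict_of_le P _ (hle k) (hU'P k)
  let p : ∀ k : (Σ i, J i), (V k.1 k.2).toScheme ⟶ U :=
    fun k => (V k.1 k.2).ι ≫ pullback.snd (Y.ι ≫ f) g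
  have hpv : ∀ k : (Σ i, J i), (p k) (⟨v k.1 k.2, (hV k.1 k.2).1⟩ : ↑((V k.1 k.2).toScheme)) = u :=
    fun k => (hV k.1 k.2).2.2.1
  have hcomm : ∀ k : (Σ i, J i),
      (((p k) ⁻¹ᵁ U'').ι ≫ (V k.1 k.2).ι ≫ pullback.fst (Y.ι ≫ f) g ≫ Y.ι) ≫ f =
        ((p k) ∣_ U'') ≫ (U''.ι ≫ g) := by
    intro k
    have h1 : (p k ∣_ U'') ≫ U''.ι = ((p k) ⁻¹ᵁ U'').ι ≫ p k := morphismRestrict_ι _ _
    calc _ = ((p k) ⁻¹ᵁ U'').ι ≫ (V k.1 k.2).ι ≫
          (pullback.fst (Y.ι ≫ f) g ≫ (Y.ι ≫ f)) := by simp only [Category.assoc]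
      _ = ((p k) ⁻¹ᵁ U'').ι ≫ (V k.1 k.2).ι ≫ (pullback.snd (Y.ι ≫ f) g ≫ g) := by
          rw [pullback.condition]
      _ = (((p k) ⁻¹ᵁ U'').ι ≫ p k) ≫ g := by simp only [p, Category.assoc]
      _ = _ := by rw [← h1, Category.assoc]
  let Jm : ∀ k : (Σ i, J i), ((p k) ⁻¹ᵁ U'').toScheme ⟶ pullback f (U''.ι ≫ g) := fun k =>
    pullback.lift (((p k) ⁻¹ᵁ U'').ι ≫ (V k.1 k.2).ι ≫ pullback.fst (Y.ι ≫ f) g ≫ Y.ι)
      ((p k) ∣_ U'') (hcomm k)
  have hJsnd : ∀ k, Jm k ≫ pullback.snd f (U''.ι ≫ g) = (p k) ∣_ U'' :=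
    fun k => pullback.lift_snd _ _ _
  have hJfst : ∀ k, Jm k ≫ pullback.fst f (U''.ι ≫ g) =
      ((p k) ⁻¹ᵁ U'').ι ≫ (V k.1 k.2).ι ≫ pullback.fst (Y.ι ≫ f) g ≫ Y.ι :=
    fun k => pullback.lift_fst _ _ _
  have hJρ : ∀ k, Jm k ≫ rho f g U'' = ((p k) ⁻¹ᵁ U'').ι ≫ (V k.1 k.2).ι ≫ theta f g Y := by
    intro k
    apply pullback.hom_ext
    · rw [Category.assoc, rho_fst, hJfst]
      simp only [Category.assoc]
      rw [theta_fst]
    · rw [Category.assoc, rho_snd, ← Category.assoc, hJsnd, morphismRestrict_ι]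
      simp only [p, Category.assoc]
      rw [theta_snd]
  have hJopen : ∀ k, IsOpenImmersion (Jm k) := by
    intro k
    haveI : IsOpenImmersion (Jm k ≫ rho f g U'') := by rw [hJρ]; infer_instance
    exact IsOpenImmersion.of_comp (Jm k) (rho f g U'')
  have hmem : ∀ k : (Σ i, J i), (⟨v k.1 k.2, (hV k.1 k.2).1⟩ : ↑((V k.1 k.2).toScheme)) ∈
      (p k) ⁻¹ᵁ U'' := by
    intro k
    show (p k) _ ∈ U''
    rw [hpv k]; exact huU''
  have hJapp : ∀ k (a : ↑(((p k) ⁻¹ᵁ U'').toScheme)),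
      rho f g U'' (Jm k a) = theta f g Y a.1.1 := by
    intro k a
    rw [← Scheme.Hom.comp_apply, hJρ]
    rfl
  refine ⟨U''.toScheme, U''.ι ≫ g, ⟨u, huU''⟩, inferInstance, ?_, (Σ i, J i), inferInstance,
    Sigma.fst, fun k => (Jm k).opensRange, ?_, ?_, ?_⟩
  · rw [Scheme.Hom.comp_apply]; exact hgu
  · intro k
    constructor
    · have : (Jm k).opensRange.ι ≫ pullback.snd f (U''.ι ≫ g) =
          (Jm k).isoOpensRange.inv ≫ ((p k) ∣_ U'') := by
        rw [← hJsnd k, ← Category.assoc, Scheme.Hom.isoOpensRange_inv_comp]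
      rw [this]
      exact (P.cancel_left_of_respectsIso _ _).mpr (hP'' k)
    · refine ⟨Jm k ⟨⟨v k.1 k.2, (hV k.1 k.2).1⟩, hmem k⟩, ⟨_, rfl⟩, ?_⟩
      rw [← Scheme.Hom.comp_apply, hJsnd]
      apply Subtype.ext
      rw [morphismRestrict_base_coe]
      exact hpv k
  · intro k k' w hw hw' hwu
    obtain ⟨a, rfl⟩ := hw
    obtain ⟨a', ha'⟩ := hw'
    have e1 := hJapp k a
    have e2 := hJapp k' a'
    have e3 : a.1.1 = a'.1.1 :=
      (theta f g Y).isOpenEmbedding.injective (by rw [← e1, ← e2, ha'])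
    have hsndz : pullback.snd (Y.ι ≫ f) g a.1.1 = u := by
      have h := rho_snd_apply f g U'' (Jm k a)
      rw [e1, ← Scheme.Hom.comp_apply, theta_snd, hwu] at h
      exact h
    have h1 : a.1.1 = v k.1 k.2 := (hV k.1 k.2).2.2.2.1 a.1.1 a.1.2 hsndz
    have h2 : a'.1.1 = v k'.1 k'.2 :=
      (hV k'.1 k'.2).2.2.2.1 a'.1.1 a'.1.2 (e3 ▸ hsndz)
    obtain ⟨hi, hj⟩ := hvinj k.1 k.2 k'.1 k'.2 (by rw [← h1, ← h2, e3])
    exact Sigma.ext hi hj
  · intro w i hwu hwx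
    have hz : rho f g U'' w ∈ Set.range (theta f g Y) := by
      rw [range_theta]
      show pullback.fst f g (rho f g U'' w) ∈ Y
      rw [rho_fst_apply, hwx]; exact hxY i
    obtain ⟨z, hz⟩ := hz
    have hz1 : pullback.fst (Y.ι ≫ f) g z = y i := by
      apply Subtype.ext
      have h := congrArg (pullback.fst f g) hz
      rw [← Scheme.Hom.comp_apply, theta_fst, Scheme.Hom.comp_apply, rho_fst_apply, hwx] at h
      exact h
    have hz2 : pullback.snd (Y.ι ≫ f) g z = u := by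
      have h := congrArg (pullback.snd f g) hz
      rw [← Scheme.Hom.comp_apply, theta_snd, rho_snd_apply, hwu] at h
      exact h
    obtain ⟨j, rfl⟩ := hvex z i hz2 hz1
    refine ⟨⟨i, j⟩, rfl, ?_⟩
    refine ⟨⟨⟨v i j, (hV i j).1⟩, hmem ⟨i, j⟩⟩, ?_⟩
    apply (rho f g U'').isOpenEmbedding.injective
    rw [hJapp, ← hz]


/-- Separated case: the pieces are closed, and after shrinking the base they become disjoint. -/
theorem phase2 (P : MorphismProperty Scheme.{u}) (hP : P ≤ @IsClosedImmersion)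
    {X S U : Scheme.{u}} (f : X ⟶ S) [IsSeparated f] (g : U ⟶ S) (u : U)
    {K : Type} [Finite K] (V : K → (pullback f g).Opens)
    (hV : ∀ k, P ((V k).ι ≫ pullback.snd f g))
    (hdisj : ∀ (k k' : K) (w : ↑(pullback f g)), w ∈ V k → w ∈ V k' →
      pullback.snd f g w = u → k = k')
    (U₀ : U.Opens) (hu : u ∈ U₀) :
    (∀ k, IsClosed (V k : Set ↑(pullback f g))) ∧
    ∃ U₂ : U.Opens, u ∈ U₂ ∧ U₂ ≤ U₀ ∧
      ∀ k k', k ≠ k' → Disjoint (rho f g U₂ ⁻¹ᵁ V k) (rho f g U₂ ⁻¹ᵁ V k') := by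
  classical
  have hcl : ∀ k, IsClosedImmersion ((V k).ι ≫ pullback.snd f g) := fun k => hP _ (hV k)
  have hclι : ∀ k, IsClosedImmersion (V k).ι := fun k =>
    haveI := hcl k
    IsClosedImmersion.of_comp (V k).ι (pullback.snd f g)
  have hclosed : ∀ k, IsClosed (V k : Set ↑(pullback f g)) := fun k => by
    haveI := hclι k
    have h := (V k).ι.isClosedEmbedding.isClosed_range
    rwa [Scheme.Opens.range_ι] at h
  let Z : K → K → Set U := fun k k' => pullback.snd f g '' ((V k : Set _) ∩ (V k' : Set _))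
  have hZcl : ∀ k k', IsClosed (Z k k') := by
    intro k k'
    have hZ : Z k k' = ((V k).ι ≫ pullback.snd f g) '' ((V k).ι ⁻¹' (V k' : Set _)) := by
      ext t
      constructor
      · rintro ⟨w, ⟨hw, hw'⟩, rfl⟩
        exact ⟨⟨w, hw⟩, hw', rfl⟩
      · rintro ⟨a, ha, rfl⟩
        exact ⟨a.1, ⟨a.2, ha⟩, rfl⟩
    rw [hZ]
    haveI := hcl k
    exact ((V k).ι ≫ pullback.snd f g).isClosedEmbedding.isClosedMap _
      ((hclosed k').preimage (V k).ι.continuous)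
  let C : Set U := ⋃ q : {q : K × K // q.1 ≠ q.2}, Z q.1.1 q.1.2
  have hC : IsClosed C := isClosed_iUnion_of_finite fun q => hZcl q.1.1 q.1.2
  have huC : u ∉ C := by
    simp only [C, Set.mem_iUnion, not_exists]
    rintro ⟨⟨k, k'⟩, hkk'⟩ ⟨w, ⟨hw, hw'⟩, hwu⟩
    exact hkk' (hdisj k k' w hw hw' hwu)
  let U₂ : U.Opens := U₀ ⊓ ⟨Cᶜ, hC.isOpen_compl⟩
  refine ⟨hclosed, U₂, ⟨hu, huC⟩, inf_le_left, ?_⟩
  intro k k' hkk'
  rw [disjoint_iff_inf_le]
  rintro w ⟨hw, hw'⟩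
  have h1 : pullback.snd f g (rho f g U₂ w) ∈ C := by
    simp only [C, Set.mem_iUnion]
    exact ⟨⟨(k, k'), hkk'⟩, _, ⟨hw, hw'⟩, rfl⟩
  have h2 : pullback.snd f g (rho f g U₂ w) ∈ U₂ := by
    rw [rho_snd_apply]; exact (pullback.snd f (U₂.ι ≫ g) w).2
  exact (h2.2 h1).elim

/-- Assemble the decomposition in the separated case. -/
theorem assemble_sep (P : MorphismProperty Scheme.{u}) [P.IsStableUnderBaseChange]
    {X S U : Scheme.{u}} (f : X ⟶ S) (g : U ⟶ S) (u : U) {ι : Type} (x : ι → ↑X)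
    {K : Type} [Finite K] (lab : K → ι) (V : K → (pullback f g).Opens)
    (hV : ∀ k, P ((V k).ι ≫ pullback.snd f g) ∧
      ∃ w : ↑(pullback f g), w ∈ V k ∧ pullback.snd f g w = u)
    (hex : ∀ (w : ↑(pullback f g)) (i : ι), pullback.snd f g w = u → pullback.fst f g w = x i →
      ∃ k, lab k = i ∧ w ∈ V k)
    (hclosed : ∀ k, IsClosed (V k : Set ↑(pullback f g)))
    (U₂ : U.Opens) (hu : u ∈ U₂)
    (hdisj : ∀ k k', k ≠ k' → Disjoint (rho f g U₂ ⁻¹ᵁ V k) (rho f g U₂ ⁻¹ᵁ V k')) :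
    ∃ (W : (pullback f (U₂.ι ≫ g)).Opens) (V' : K → (pullback f (U₂.ι ≫ g)).Opens),
      W ⊔ (⨆ k, V' k) = ⊤ ∧ (∀ k, Disjoint W (V' k)) ∧
      (∀ k k', k ≠ k' → Disjoint (V' k) (V' k')) ∧
      (∀ k, P ((V' k).ι ≫ pullback.snd f (U₂.ι ≫ g)) ∧
        ∃ w : ↑(pullback f (U₂.ι ≫ g)), w ∈ V' k ∧
          pullback.snd f (U₂.ι ≫ g) w = (⟨u, hu⟩ : ↑(U₂.toScheme))) ∧
      (∀ (w : ↑(pullback f (U₂.ι ≫ g))) (i : ι), w ∈ W →
        pullback.snd f (U₂.ι ≫ g) w = (⟨u, hu⟩ : ↑(U₂.toScheme)) →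
        pullback.fst f (U₂.ι ≫ g) w ≠ x i) ∧
      (∀ k, V' k = rho f g U₂ ⁻¹ᵁ V k) ∧ (∀ w, w ∈ W ↔ ∀ k, rho f g U₂ w ∉ V k) := by
  classical
  let V' : K → (pullback f (U₂.ι ≫ g)).Opens := fun k => rho f g U₂ ⁻¹ᵁ V k
  have hV'cl : ∀ k, IsClosed (V' k : Set ↑(pullback f (U₂.ι ≫ g))) :=
    fun k => (hclosed k).preimage (rho f g U₂).continuous
  let W : (pullback f (U₂.ι ≫ g)).Opens :=
    ⟨(⋃ k, (V' k : Set ↑(pullback f (U₂.ι ≫ g))))ᶜ, (isClosed_iUnion_of_finite hV'cl).isOpen_compl⟩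
  refine ⟨W, V', ?_, ?_, hdisj, ?_, ?_, fun _ => rfl, ?_⟩
  · rw [eq_top_iff]
    intro w _
    by_cases h : ∃ k, w ∈ V' k
    · exact Or.inr (TopologicalSpace.Opens.mem_iSup.mpr h)
    · refine Or.inl ?_
      show w ∈ (⋃ k, (V' k : Set ↑(pullback f (U₂.ι ≫ g))))ᶜ
      simpa [Set.mem_iUnion] using h
  · intro k
    rw [disjoint_iff_inf_le]
    rintro w ⟨hw, hw'⟩
    exact (hw (Set.mem_iUnion.mpr ⟨k, hw'⟩)).elim
  · intro k
    refine ⟨of_rho f g P U₂ (V k) (hV k).1, ?_⟩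
    obtain ⟨w, hw, hwu⟩ := (hV k).2
    have hwr : w ∈ Set.range (rho f g U₂) := by
      rw [range_rho]
      show pullback.snd f g w ∈ U₂
      rw [hwu]; exact hu
    obtain ⟨w', rfl⟩ := hwr
    refine ⟨w', hw, Subtype.ext ?_⟩
    rw [← rho_snd_apply]; exact hwu
  · intro w i hwW hwu hwx
    obtain ⟨k, -, hk⟩ := hex (rho f g U₂ w) i (by rw [rho_snd_apply, hwu])
      (by rw [rho_fst_apply, hwx])
    exact hwW (Set.mem_iUnion.mpr ⟨k, hk⟩)
  · intro w
    show w ∈ (⋃ k, (V' k : Set ↑(pullback f (U₂.ι ≫ g))))ᶜ ↔ _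
    simp only [Set.mem_compl_iff, Set.mem_iUnion, not_exists]
    rfl

/-- A scheme covered by finitely many pairwise disjoint opens is their coproduct. -/
theorem assemble_coprod (P : MorphismProperty Scheme.{u}) {Z U : Scheme.{u}} (q : Z ⟶ U)
    {K : Type} [Finite K] (V' : K → Z.Opens) (hcov : ⨆ k, V' k = ⊤)
    (hdisj : ∀ k k', k ≠ k' → Disjoint (V' k) (V' k')) (hP : ∀ k, P ((V' k).ι ≫ q)) :
    ∃ (n : ℕ) (V : Fin n → Scheme.{u}) (c : ∀ j, V j ⟶ U) (_ : ∀ j, P (c j))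
      (e : (∐ V) ≅ Z), ∀ j, Sigma.ι V j ≫ e.hom ≫ q = c j := by
  classical
  obtain ⟨n, ⟨σ⟩⟩ := Finite.exists_equiv_fin K
  let Vs : Fin n → Scheme.{u} := fun j => (V' (σ.symm j)).toScheme
  let fι : ∀ j, Vs j ⟶ Z := fun j => (V' (σ.symm j)).ι
  have hcov' : ⨆ j, (fι j).opensRange = ⊤ := by
    simp only [fι, Scheme.Opens.opensRange_ι]
    rw [← hcov]
    exact σ.symm.iSup_comp (g := V')
  have hdisj' : Pairwise (Function.onFun Disjoint fun j => (fι j).opensRange) := by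
    intro j j' hjj'
    simp only [Function.onFun, fι, Scheme.Opens.opensRange_ι]
    exact hdisj _ _ (fun h => hjj' (σ.symm.injective h))
  obtain ⟨H⟩ := nonempty_isColimit_cofanMk_of fι hcov' hdisj'
  let e : (∐ Vs) ≅ Z := (colimit.isColimit _).coconePointUniqueUpToIso H
  refine ⟨n, Vs, fun j => fι j ≫ q, fun j => hP _, e, fun j => ?_⟩
  rw [← Category.assoc]
  congr 1
  exact colimit.comp_coconePointUniqueUpToIso_hom H _


/-- The separated case: full decomposition. -/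
theorem sep_case (P : MorphismProperty Scheme.{u}) [IsZariskiLocalAtTarget P]
    [P.IsStableUnderBaseChange] (hP : P ≤ @IsClosedImmersion)
    {X S : Scheme.{u}} (f : X ⟶ S) [IsSeparated f] (s : S) {ι : Type} [Finite ι] (x : ι → ↑X)
    (hinj : Function.Injective x) (hs : ∀ i, f (x i) = s)
    (Y : X.Opens) (hxY : ∀ i, x i ∈ Y) [LocallyOfFiniteType (Y.ι ≫ f)]
    [FormallyUnramified (Y.ι ≫ f)]
    (hloc : ∀ {U : Scheme.{u}} (g : U ⟶ S) (V : (pullback (Y.ι ≫ f) g).Opens) (u : U)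
      (v : ↑(V.toScheme)),
      IsFinite (V.ι ≫ pullback.snd (Y.ι ≫ f) g) →
      (V.ι ≫ pullback.snd (Y.ι ≫ f) g).base ⁻¹' {u} = {v} →
      Function.Surjective ((V.ι ≫ pullback.snd (Y.ι ≫ f) g).residueFieldMap v) →
      ∃ U' : U.Opens, u ∈ U' ∧ P ((V.ι ≫ pullback.snd (Y.ι ≫ f) g) ∣_ U')) :
    ∃ (U : Scheme.{u}) (g : U ⟶ S) (u : U), Etale g ∧ g u = s ∧
      ∃ (K : Type) (_ : Finite K) (W : (pullback f g).Opens) (V : K → (pullback f g).Opens),
        W ⊔ (⨆ k, V k) = ⊤ ∧ (∀ k, Disjoint W (V k)) ∧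
        (∀ k k', k ≠ k' → Disjoint (V k) (V k')) ∧
        (∀ k, P ((V k).ι ≫ pullback.snd f g) ∧
          ∃ w : ↑(pullback f g), w ∈ V k ∧ pullback.snd f g w = u) ∧
        (∀ (w : ↑(pullback f g)) (i : ι), w ∈ W → pullback.snd f g w = u →
          pullback.fst f g w ≠ x i) := by
  obtain ⟨U, g, u, hg, hgu, K, hK, lab, V, hV, hdisj, hex⟩ :=
    main P f s x hinj hs Y hxY @hloc
  obtain ⟨hclosed, U₂, hu₂, -, hdisj₂⟩ :=
    phase2 P hP f g u V (fun k => (hV k).1) hdisj ⊤ trivial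
  obtain ⟨W, V', h1, h2, h3, h4, h5, -, -⟩ :=
    assemble_sep P f g u x lab V hV hex hclosed U₂ hu₂ hdisj₂
  exact ⟨U₂.toScheme, U₂.ι ≫ g, ⟨u, hu₂⟩, inferInstance,
    by rw [Scheme.Hom.comp_apply]; exact hgu, K, hK, W, V', h1, h2, h3, h4, h5⟩

/-- The finite case: complete splitting into a coproduct. -/
theorem finite_case (P : MorphismProperty Scheme.{u}) [IsZariskiLocalAtTarget P]
    [P.IsStableUnderBaseChange] (hP : P ≤ @IsClosedImmersion)
    {X S : Scheme.{u}} (f : X ⟶ S) [IsFinite f] [FormallyUnramified f] (s : S)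
    (hloc : ∀ {U : Scheme.{u}} (g : U ⟶ S)
      (V : (pullback ((⊤ : X.Opens).ι ≫ f) g).Opens) (u : U) (v : ↑(V.toScheme)),
      IsFinite (V.ι ≫ pullback.snd ((⊤ : X.Opens).ι ≫ f) g) →
      (V.ι ≫ pullback.snd ((⊤ : X.Opens).ι ≫ f) g).base ⁻¹' {u} = {v} →
      Function.Surjective ((V.ι ≫ pullback.snd ((⊤ : X.Opens).ι ≫ f) g).residueFieldMap v) →
      ∃ U' : U.Opens, u ∈ U' ∧ P ((V.ι ≫ pullback.snd ((⊤ : X.Opens).ι ≫ f) g) ∣_ U')) :
    ∃ (U : Scheme.{u}) (g : U ⟶ S) (_ : Etale g) (u : U) (_ : g.base u = s)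
      (n : ℕ) (V : Fin n → Scheme.{u}) (c : ∀ j, V j ⟶ U) (_ : ∀ j, P (c j))
      (e : (∐ V) ≅ pullback f g), ∀ j, Sigma.ι V j ≫ e.hom ≫ pullback.snd f g = c j := by
  classical
  have hfinfib : (f ⁻¹' {s}).Finite := Scheme.Hom.finite_preimage_singleton f s
  let σ := hfinfib.toFinset.equivFin
  let x : Fin hfinfib.toFinset.card → ↑X := fun i => (σ.symm i).1
  have hinj : Function.Injective x := Subtype.val_injective.comp σ.symm.injective
  have hs : ∀ i, f (x i) = s := fun i => by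
    have h := (σ.symm i).2
    rw [Set.Finite.mem_toFinset] at h
    exact h
  have hsurj : ∀ z : ↑X, f z = s → ∃ i, x i = z := fun z hz =>
    ⟨σ ⟨z, hfinfib.mem_toFinset.mpr hz⟩, by simp [x]⟩
  haveI : LocallyOfFiniteType ((⊤ : X.Opens).ι ≫ f) := inferInstance
  haveI : FormallyUnramified ((⊤ : X.Opens).ι ≫ f) :=
    IsZariskiLocalAtSource.comp (P := @FormallyUnramified) inferInstance _
  obtain ⟨U, g, u, hg, hgu, K, hK, lab, V, hV, hdisj, hex⟩ :=
    main P f s x hinj hs ⊤ (fun _ => trivial) @hloc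
  let T : Set ↑(pullback f g) := (⋃ k, (V k : Set ↑(pullback f g)))ᶜ
  have hTcl : IsClosed T := (isOpen_iUnion fun k => (V k).isOpen).isClosed_compl
  have hsndcl : IsClosedMap (pullback.snd f g) := (pullback.snd f g).isClosedMap
  let U₀ : U.Opens := ⟨(pullback.snd f g '' T)ᶜ, (hsndcl T hTcl).isOpen_compl⟩
  have huU₀ : u ∈ U₀ := by
    rintro ⟨t, ht, htu⟩
    obtain ⟨i, hi⟩ := hsurj (pullback.fst f g t) (by
      rw [← Scheme.Hom.comp_apply, pullback.condition, Scheme.Hom.comp_apply, htu, hgu])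
    obtain ⟨k, -, hk⟩ := hex t i htu hi.symm
    exact ht (Set.mem_iUnion.mpr ⟨k, hk⟩)
  obtain ⟨hclosed, U₂, hu₂, hU₂le, hdisj₂⟩ :=
    phase2 P hP f g u V (fun k => (hV k).1) hdisj U₀ huU₀
  obtain ⟨W, V', -, -, h3, h4, -, h6, h7⟩ :=
    assemble_sep P f g u x lab V hV hex hclosed U₂ hu₂ hdisj₂
  have hcov : ⨆ k, V' k = ⊤ := by
    rw [eq_top_iff]
    intro w _
    by_contra hw
    have hwW : w ∈ W := (h7 w).mpr (fun k hk =>
      hw (TopologicalSpace.Opens.mem_iSup.mpr ⟨k, by rw [h6 k]; exact hk⟩))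
    have hT : rho f g U₂ w ∈ T := by
      simp only [T, Set.mem_compl_iff, Set.mem_iUnion, not_exists]
      exact (h7 w).mp hwW
    have h8 : pullback.snd f g (rho f g U₂ w) ∈ U₀ := by
      rw [rho_snd_apply]; exact hU₂le (pullback.snd f (U₂.ι ≫ g) w).2
    exact h8 ⟨_, hT, rfl⟩
  obtain ⟨n', Vs, c, hc, e, he⟩ :=
    assemble_coprod P (pullback.snd f (U₂.ι ≫ g)) V' hcov h3 (fun k => (h4 k).1)
  exact ⟨U₂.toScheme, U₂.ι ≫ g, inferInstance, ⟨u, hu₂⟩,
    by show (U₂.ι ≫ g) _ = s; rw [Scheme.Hom.comp_apply]; exact hgu, n', Vs, c, hc, e, he⟩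

end Groth.Agent.H68.EtLoc
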