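import Mathlib

/-!
# A criterion for a ring to be strictly henselian local, in terms of a map to a separably
closed field.
-/

set_option autoImplicit false
universe u

namespace Groth.Agent.H68.EtLocRing

open Polynomial IsLocalRing

theorem strictlyHenselian_of_key {R : Type u} [CommRing R] {Ω : Type u} [Field Ω] [IsSepClosed Ω]
    (ev : R →+* Ω) (H1 : ∀ r, ev r ≠ 0 → IsUnit r)
    (H2 : ∀ f : R[X], f.Monic → ∀ x₀ : Ω, (f.map ev).eval x₀ = 0 →
      (f.map ev).derivative.eval x₀ ≠ 0 → ∃ a : R, f.IsRoot a ∧ ev a = x₀) :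
    ∃ _ : HenselianLocalRing R, IsSepClosed (IsLocalRing.ResidueField R) := by
  haveI : IsLocalHom ev := ⟨fun r hr => H1 r hr.ne_zero⟩
  haveI : IsLocalRing R := ev.domain_isLocalRing
  have hm : ∀ r : R, r ∈ maximalIdeal R ↔ ev r = 0 := by
    intro r
    rw [mem_maximalIdeal, mem_nonunits_iff]
    constructor
    · intro h
      by_contra h0
      exact h (H1 r h0)
    · intro h hu
      exact (hu.map ev).ne_zero h
  have hH : HenselianLocalRing R :=
    { is_henselian := by
        intro f hf a₀ h0 hu
        have e1 : (f.map ev).eval (ev a₀) = 0 := by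
          rw [eval_map, eval₂_at_apply, (hm _).mp h0]
        have e2 : (f.map ev).derivative.eval (ev a₀) ≠ 0 := by
          rw [derivative_map, eval_map, eval₂_at_apply]
          exact (hu.map ev).ne_zero
        obtain ⟨a, ha, hev⟩ := H2 f hf (ev a₀) e1 e2
        refine ⟨a, ha, (hm _).mpr ?_⟩
        rw [map_sub, hev, sub_self] }
  refine ⟨hH, ?_⟩
  apply IsSepClosed.of_exists_root
  intro pb hmon hirr hsep
  have hsurj : Function.Surjective (residue R) := residue_surjective
  obtain ⟨p, hp, hdeg, hpm⟩ := lifts_and_natDegree_eq_and_monic (f := residue R) (p := pb)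
    ((lifts_iff_coeff_lifts _).mpr fun n => hsurj _) hmon
  let ι : ResidueField R →+* Ω := IsLocalRing.ResidueField.lift ev
  have hι : ι.comp (residue R) = ev := IsLocalRing.ResidueField.lift_comp_residue ev
  have hpmap : p.map ev = pb.map ι := by
    rw [← hp, Polynomial.map_map, hι]
  have hsep' : (p.map ev).Separable := by rw [hpmap]; exact hsep.map
  have hdeg' : (p.map ev).degree ≠ 0 := by
    rw [hpmap, degree_map]
    exact fun h => hirr.not_isUnit (isUnit_iff_degree_eq_zero.mpr h)
  obtain ⟨x₀, hx₀⟩ := IsSepClosed.exists_root (p.map ev) hdeg' hsep'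
  have hx₀' : (p.map ev).eval x₀ = 0 := hx₀
  have hder : (p.map ev).derivative.eval x₀ ≠ 0 := by
    have := hsep'.aeval_derivative_ne_zero (x := x₀) (by simpa [aeval_def, eval₂_eq_eval_map] using hx₀')
    simpa [aeval_def, eval₂_eq_eval_map] using this
  obtain ⟨a, ha, -⟩ := H2 p hpm x₀ hx₀' hder
  refine ⟨residue R a, ?_⟩
  have ha' : p.eval a = 0 := ha
  rw [← hp, eval_map, eval₂_at_apply, ha', map_zero]

end Groth.Agent.H68.EtLocRing
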