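import Mathlib

set_option autoImplicit false
universe u v
open CategoryTheory CategoryTheory.Limits AlgebraicGeometry

namespace Groth.Agent.H68.FixClosed

/-- Closed subscheme of `X` cut out by the condition `t ≫ ρ g = t` for `g` in a list. -/
theorem exists_closed_of_list (S : Scheme.{u}) (X : Over S) [IsSeparated X.hom] (G : Type v) [Group G]
    (ρ : G →* Aut X) (L : List G) :
    ∃ (W : Over S) (j : W ⟶ X), IsClosedImmersion j.left ∧
      ∀ (T : Over S) (t : T ⟶ X), (∀ g ∈ L, t ≫ (ρ g).hom = t) ↔ ∃ t' : T ⟶ W, t' ≫ j = t := by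
  induction L with
  | nil =>
    refine ⟨X, 𝟙 X, ?_, fun T t => ?_⟩
    · show IsClosedImmersion (𝟙 X.left)
      infer_instance
    · constructor
      · intro _; exact ⟨t, Category.comp_id _⟩
      · intro _ g hg; simp at hg
  | cons g L ih =>
    obtain ⟨W', j', hj', hUP⟩ := ih
    haveI := hj'
    refine ⟨equalizer (j' ≫ (ρ g).hom) j', equalizer.ι (j' ≫ (ρ g).hom) j' ≫ j', ?_, fun T t => ?_⟩
    · show IsClosedImmersion ((equalizer.ι (j' ≫ (ρ g).hom) j').left ≫ j'.left)
      infer_instance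
    · constructor
      · intro h
        obtain ⟨t'', ht''⟩ := (hUP T t).1 (fun g' hg' => h g' (List.mem_cons_of_mem _ hg'))
        have hg : t ≫ (ρ g).hom = t := h g List.mem_cons_self
        refine ⟨equalizer.lift t'' ?_, ?_⟩
        · rw [← Category.assoc, ht'', hg]
        · rw [← Category.assoc, equalizer.lift_ι, ht'']
      · rintro ⟨t', rfl⟩ g' hg'
        rcases List.mem_cons.1 hg' with rfl | hg'
        · have := equalizer.condition (j' ≫ (ρ g').hom) j'
          rw [Category.assoc, Category.assoc, this]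
        · have h2 := (hUP T (t' ≫ equalizer.ι (j' ≫ (ρ g).hom) j' ≫ j')).2
            ⟨t' ≫ equalizer.ι (j' ≫ (ρ g).hom) j', by rw [Category.assoc]⟩
          exact h2 g' hg'

theorem isClosedImmersion_fixed (S : Scheme.{u}) (X : Over S) [IsSeparated X.hom] (G : Type v)
    [Group G] [Finite G] (ρ : G →* Aut X) (Z : Over S) (ι : Z ⟶ X)
    (hι : ∀ g : G, ι ≫ (ρ g).hom = ι)
    (hZ : ∀ (T : Over S) (t : T ⟶ X), (∀ g : G, t ≫ (ρ g).hom = t) ↔ ∃! t' : T ⟶ Z, t' ≫ ι = t) :
    IsClosedImmersion ι.left := by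
  classical
  haveI : Fintype G := Fintype.ofFinite G
  obtain ⟨W, j, hj, hUP⟩ := exists_closed_of_list S X G ρ (Finset.univ : Finset G).toList
  haveI := hj
  have hUP' : ∀ (T : Over S) (t : T ⟶ X), (∀ g : G, t ≫ (ρ g).hom = t) ↔ ∃ t' : T ⟶ W, t' ≫ j = t := by
    intro T t
    rw [← hUP T t]
    constructor
    · intro h g _; exact h g
    · intro h g; exact h g (by simp)
  have hjmono : ∀ {T : Over S} (a b : T ⟶ W), a ≫ j = b ≫ j → a = b := by
    intro T a b hab
    apply Over.OverMorphism.ext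
    have := congrArg (fun k => k.left) hab
    simp only [Over.comp_left] at this
    exact (cancel_mono j.left).1 this
  -- `j` is fixed, so it factors through `Z`
  have hjfix : ∀ g : G, j ≫ (ρ g).hom = j := (hUP' W j).2 ⟨𝟙 W, Category.id_comp _⟩
  obtain ⟨a, ha, -⟩ := (hZ W j).1 hjfix
  obtain ⟨b, hb⟩ := (hUP' Z ι).1 hι
  have hba : b ≫ a = 𝟙 Z := by
    obtain ⟨c, -, hc⟩ := (hZ Z ι).1 hι
    have h1 : (b ≫ a) ≫ ι = ι := by rw [Category.assoc, ha, hb]
    rw [hc (b ≫ a) h1, hc (𝟙 Z) (Category.id_comp _)]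
  have hab : a ≫ b = 𝟙 W := hjmono _ _ (by rw [Category.assoc, hb, ha, Category.id_comp])
  haveI : IsIso b := ⟨a, hba, hab⟩
  haveI : IsIso b.left := inferInstanceAs (IsIso ((Over.forget S).map b))
  have : ι.left = b.left ≫ j.left := by rw [← Over.comp_left, hb]
  rw [this]
  infer_instance

end Groth.Agent.H68.FixClosed
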