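import Mathlib

/-!
# (DH) for helper98 / S8341: dehomogenization along a degree-one element
-/

set_option autoImplicit false
universe u
open HomogeneousLocalization

namespace Groth.Agent.H68.GMBC_DH

section
variable {A σ : Type u} [CommRing A] [SetLike σ A] [AddSubgroupClass σ A]
    (𝒜 : ℕ → σ) [GradedRing 𝒜] (f : A) (hf : f ∈ 𝒜 1)

/-- the degree-`k` component of the dehomogenization -/
noncomputable def comp (k : ℕ) : 𝒜 k →+ Away 𝒜 f where
  toFun a := Away.mk 𝒜 hf k a.1 (by simpa using a.2)
  map_zero' := by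
    apply HomogeneousLocalization.val_injective
    rw [Away.val_mk, HomogeneousLocalization.val_zero]
    exact Localization.mk_zero _
  map_add' a b := by
    apply HomogeneousLocalization.val_injective
    rw [HomogeneousLocalization.val_add, Away.val_mk, Away.val_mk, Away.val_mk]
    exact (Localization.add_mk_self _ _ _).symm

theorem comp_apply (k : ℕ) (a : 𝒜 k) :
    comp 𝒜 f hf k a = Away.mk 𝒜 hf k a.1 (by simpa using a.2) := rfl

end

theorem exists_dehom {A σ : Type u} [CommRing A] [SetLike σ A] [AddSubgroupClass σ A]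
    (𝒜 : ℕ → σ) [GradedRing 𝒜] (f : A) (hf : f ∈ 𝒜 1) :
    ∃ δ : A →+* HomogeneousLocalization.Away 𝒜 f, ∀ (k : ℕ) (a : A) (ha : a ∈ 𝒜 k),
      δ a = HomogeneousLocalization.Away.mk 𝒜 hf k a (by simpa using ha) := by
  classical
  have hone : comp 𝒜 f hf 0 (GradedMonoid.GOne.one (A := fun i => 𝒜 i)) = 1 := by
    apply HomogeneousLocalization.val_injective
    rw [comp_apply, Away.val_mk, HomogeneousLocalization.val_one]
    have : (⟨f ^ 0, by use 0⟩ : Submonoid.powers f) = 1 := Subtype.ext (pow_zero f)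
    rw [this]
    exact Localization.mk_one
  have hmul : ∀ {i j : ℕ} (ai : 𝒜 i) (aj : 𝒜 j),
      comp 𝒜 f hf (i + j) (GradedMonoid.GMul.mul (A := fun i => 𝒜 i) ai aj) =
        comp 𝒜 f hf i ai * comp 𝒜 f hf j aj := by
    intro i j ai aj
    apply HomogeneousLocalization.val_injective
    rw [HomogeneousLocalization.val_mul, comp_apply, comp_apply, comp_apply, Away.val_mk,
      Away.val_mk, Away.val_mk, Localization.mk_mul]
    congr 1
    exact Subtype.ext (pow_add f i j)
  let T : (DirectSum ℕ fun i => 𝒜 i) →+* Away 𝒜 f :=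
    DirectSum.toSemiring (fun k => comp 𝒜 f hf k) hone hmul
  refine ⟨T.comp (DirectSum.decomposeRingEquiv 𝒜).toRingHom, fun k a ha => ?_⟩
  show T (DirectSum.decompose 𝒜 a) = _
  rw [DirectSum.decompose_of_mem 𝒜 ha]
  exact DirectSum.toSemiring_of _ _ _ _ _

end Groth.Agent.H68.GMBC_DH
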