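import Mathlib

/-!
# (DHNAT) for helper98 / S8341: dehomogenizations are compatible with a graded ring hom
-/

set_option autoImplicit false
universe u
open HomogeneousLocalization

namespace Groth.Agent.H68.GMBC_DHNAT

variable {A σ : Type u} [CommRing A] [SetLike σ A]
    [AddSubgroupClass σ A] {𝒜 : ℕ → σ} [GradedRing 𝒜] {B σ' : Type u} [CommRing B] [SetLike σ' B]
    [AddSubgroupClass σ' B]
    {ℬ : ℕ → σ'} [GradedRing ℬ] (ψ : 𝒜 →+*ᵍ ℬ)

theorem dehom_nat (f : A) (hf : f ∈ 𝒜 1) (δA : A →+* HomogeneousLocalization.Away 𝒜 f)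
    (hδA : ∀ (k : ℕ) (a : A) (ha : a ∈ 𝒜 k),
      δA a = HomogeneousLocalization.Away.mk 𝒜 hf k a (by simpa using ha))
    (δB : B →+* HomogeneousLocalization.Away ℬ (ψ f))
    (hδB : ∀ (k : ℕ) (b : B) (hb : b ∈ ℬ k),
      δB b = HomogeneousLocalization.Away.mk ℬ (ψ.map_mem hf) k b (by simpa using hb)) (a : A) :
    HomogeneousLocalization.Away.map ψ f (δA a) = δB (ψ a) := by
  classical
  induction a using DirectSum.Decomposition.inductionOn 𝒜 with
  | zero => simp
  | homogeneous a =>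
    rename_i k
    rw [hδA k a.1 a.2, Away.map_mk, hδB k (ψ a.1) (ψ.map_mem a.2)]
  | add a b ha hb => rw [map_add, map_add, map_add, map_add, ha, hb]

end Groth.Agent.H68.GMBC_DHNAT
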