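import Mathlib
import Groth.Prelude.Def_FDesc

/-!
# (VAL) for helper11's S0435 squad: a field-valued point at a generization extends to a
valuation ring centred at the specialization
-/

set_option autoImplicit false
universe u
open CategoryTheory CategoryTheory.Limits AlgebraicGeometry
open IsLocalRing

namespace Groth.Agent.H68.GRO_VAL

theorem exists_valuationRing_extension {Y : Scheme.{u}} {y' y : Y} (hyy : y' ⤳ y)
    (K : Type u) [Field K] (t : Spec (CommRingCat.of K) ⟶ Y)
    (ht : ∀ z : Spec (CommRingCat.of K), t.base z = y') :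
    ∃ (V : Type u) (_ : CommRing V) (_ : IsDomain V) (_ : ValuationRing V) (_ : Algebra V K)
      (_ : IsFractionRing V K) (g : Spec (CommRingCat.of V) ⟶ Y),
      Spec.map (CommRingCat.ofHom (algebraMap V K)) ≫ g = t ∧
      g.base (IsLocalRing.closedPoint V) = y := by
  have h0 := ht (closedPoint K)
  subst h0
  let φ : Y.presheaf.stalk y ⟶ CommRingCat.of K :=
    Y.presheaf.stalkSpecializes hyy ≫ Scheme.stalkClosedPointTo t
  have hφ : Spec.map φ ≫ Y.fromSpecStalk y = t := by
    rw [Spec.map_comp, Category.assoc, Scheme.SpecMap_stalkSpecializes_fromSpecStalk,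
      Scheme.Spec_stalkClosedPointTo_fromSpecStalk]
  obtain ⟨A, hA, hA_local⟩ := exists_factor_valuationRing φ.hom
  let ψ : Y.presheaf.stalk y ⟶ CommRingCat.of A :=
    CommRingCat.ofHom (φ.hom.codRestrict _ hA)
  have hψφ : ψ ≫ CommRingCat.ofHom (algebraMap A K) = φ := by
    ext r
    rfl
  refine ⟨A, inferInstance, inferInstance, inferInstance, inferInstance, inferInstance,
    Spec.map ψ ≫ Y.fromSpecStalk y, ?_, ?_⟩
  · rw [← Category.assoc, ← Spec.map_comp, hψφ, hφ]
  · rw [Scheme.Hom.comp_apply]
    have : Spec.map ψ (closedPoint A) = closedPoint (Y.presheaf.stalk y) :=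
      comap_closedPoint (S := A) (φ.hom.codRestrict A.toSubring hA)
    rw [this, Y.fromSpecStalk_closedPoint]

end Groth.Agent.H68.GRO_VAL
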