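import Mathlib
import Groth.Prelude.Def_CAlg2
import Groth.Prelude.Def_FDesc
import Groth.Agent.H47.GNAtDefs
import Groth.Agent.H11.GRAtSch

/-!
(SB) for helper47's S4884 squad (helper68): the algebraic form `GNAt` of geometric normality of the
fibre at `x`, on affine charts.  Copy-adapted from helper11's `Groth/Agent/H11/GRAtSch.lean`.
-/

set_option autoImplicit false
set_option linter.style.haveILetI false
universe u
open CategoryTheory CategoryTheory.Limits AlgebraicGeometry TopologicalSpace IsLocalRing TensorProduct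

namespace Groth.Agent.H68.GU10_SB

open Groth.Agent.H11.UnivOpenFlatSch Groth.Agent.H47.GNAtDefs

variable {X Y : Scheme.{u}} (f : X ⟶ Y)

set_option maxHeartbeats 3200000 in
/-- Chart-level consequence of stalkwise normality after base change to a local ring: the
localization at `n` of the chart of the base change is an integrally closed domain.
(Copy-adapted from helper11's `Groth.Agent.H11.GRAtSch.nilpotent_chart_local`.) -/
theorem normal_chart_local [LocallyOfFiniteType f] (x : X) {V : Y.Opens} (hV : IsAffineOpen V)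
    {W : X.Opens} (hW : IsAffineOpen W) (hxW : x ∈ W) (hWV : W ≤ f ⁻¹ᵁ V)
    [Algebra Γ(Y, V) Γ(X, W)] (halg : algebraMap Γ(Y, V) Γ(X, W) = (f.appLE V W hWV).hom)
    (V' : Type u) [CommRing V'] [IsLocalRing V'] [Algebra Γ(Y, V) V']
    (g : Spec (CommRingCat.of V') ⟶ Y)
    (hV'V : (⊤ : (Spec (CommRingCat.of V')).Opens) ≤ g ⁻¹ᵁ V)
    (hstar : g.appLE V ⊤ hV'V = CommRingCat.ofHom (algebraMap Γ(Y, V) V') ≫
      (Scheme.ΓSpecIso (CommRingCat.of V')).inv)
    (hnormS : ∀ x' : ↥(pullback f g), (pullback.fst f g).base x' = x →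
      (pullback.snd f g).base x' = IsLocalRing.closedPoint V' →
      IsDomain ((pullback f g).presheaf.stalk x') ∧
        IsIntegrallyClosed ((pullback f g).presheaf.stalk x'))
    (E : Type u) [CommRing E] [Algebra Γ(X, W) E] [Algebra V' E] [Algebra Γ(Y, V) E]
    [IsScalarTower Γ(Y, V) Γ(X, W) E] [IsScalarTower Γ(Y, V) V' E]
    [Algebra.IsPushout Γ(Y, V) Γ(X, W) V' E]
    (n : Ideal E) [n.IsPrime]
    (hn1 : n.comap (algebraMap Γ(X, W) E) = (hW.primeIdealOf ⟨x, hxW⟩).asIdeal)
    (hn2 : n.comap (algebraMap V' E) = maximalIdeal V') :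
    IsDomain (Localization.AtPrime n) ∧ IsIntegrallyClosed (Localization.AtPrime n) := by
  obtain rfl : ‹Algebra Γ(Y, V) Γ(X, W)› = (f.appLE V W hWV).hom.toAlgebra :=
    Algebra.algebra_ext _ _ (fun r => DFunLike.congr_fun halg r)
  letI aRC : Algebra Γ(Y, V) Γ(X, W) := (f.appLE V W hWV).hom.toAlgebra
  classical
  have hV' : IsAffineOpen (⊤ : (Spec (CommRingCat.of V')).Opens) := isAffineOpen_top _
  let W' : (pullback f g).Opens := pullback.fst f g ⁻¹ᵁ W ⊓ pullback.snd f g ⁻¹ᵁ ⊤
  have HP := IsPullback.of_hasPullback f g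
  have hW'W : W' ≤ pullback.fst f g ⁻¹ᵁ W := inf_le_left
  have hW'V' : W' ≤ pullback.snd f g ⁻¹ᵁ ⊤ := inf_le_right
  have hW' : IsAffineOpen W' := by
    have : IsAffine V.toScheme := hV
    have : IsAffine (⊤ : (Spec (CommRingCat.of V')).Opens).toScheme := hV'
    have : IsAffine W.toScheme := hW
    exact .of_isIso (Scheme.Hom.isPullback_resLE HP hV'V hWV (rfl : W' = _)).isoPullback.hom
  have hpo := (isIso_pushoutSection_iff HP hV'V hWV (rfl : W' = _)).mp
    (isIso_pushoutSection_of_isAffineOpen HP hV'V hWV rfl hV hV' hW)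
  letI aRB : Algebra Γ(Y, V) Γ(Spec (CommRingCat.of V'), ⊤) := (g.appLE V ⊤ hV'V).hom.toAlgebra
  letI aCE : Algebra Γ(X, W) Γ(pullback f g, W') :=
    ((pullback.fst f g).appLE W W' hW'W).hom.toAlgebra
  letI aBE : Algebra Γ(Spec (CommRingCat.of V'), ⊤) Γ(pullback f g, W') :=
    ((pullback.snd f g).appLE ⊤ W' hW'V').hom.toAlgebra
  letI aRE : Algebra Γ(Y, V) Γ(pullback f g, W') :=
    (((pullback.fst f g).appLE W W' hW'W).hom.comp (f.appLE V W hWV).hom).toAlgebra
  haveI t1 : IsScalarTower Γ(Y, V) Γ(X, W) Γ(pullback f g, W') := .of_algebraMap_eq' rfl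
  haveI t2 : IsScalarTower Γ(Y, V) Γ(Spec (CommRingCat.of V'), ⊤) Γ(pullback f g, W') :=
    .of_algebraMap_eq' (by
      change (((pullback.fst f g).appLE W W' hW'W).hom.comp (f.appLE V W hWV).hom) =
        (((pullback.snd f g).appLE ⊤ W' hW'V').hom.comp (g.appLE V ⊤ hV'V).hom)
      rw [← CommRingCat.hom_comp, ← CommRingCat.hom_comp, hpo.w])
  haveI po1 : Algebra.IsPushout Γ(Y, V) Γ(X, W) Γ(Spec (CommRingCat.of V'), ⊤)
      Γ(pullback f g, W') := CommRingCat.isPushout_iff_isPushout.mp hpo
  let eB : Γ(Spec (CommRingCat.of V'), ⊤) ≃+* V' :=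
    (Scheme.ΓSpecIso (CommRingCat.of V')).commRingCatIsoToRingEquiv
  haveI : IsLocalRing Γ(Spec (CommRingCat.of V'), ⊤) := eB.symm.isLocalRing
  have k1 : ∀ r : Γ(Y, V), eB (algebraMap Γ(Y, V) Γ(Spec (CommRingCat.of V'), ⊤) r) =
      algebraMap Γ(Y, V) V' r := by
    intro r
    change eB ((g.appLE V ⊤ hV'V).hom r) = _
    rw [hstar]
    exact eB.apply_symm_apply (algebraMap Γ(Y, V) V' r)
  let eBa : V' ≃ₐ[Γ(Y, V)] Γ(Spec (CommRingCat.of V'), ⊤) :=
    AlgEquiv.ofRingEquiv (f := eB.symm) (fun r => by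
      rw [RingEquiv.symm_apply_eq]; exact (k1 r).symm)
  let e : E ≃ₐ[Γ(X, W)] Γ(pullback f g, W') :=
    ((Algebra.IsPushout.equiv Γ(Y, V) Γ(X, W) V' E).symm.trans
      (Algebra.TensorProduct.congr AlgEquiv.refl eBa)).trans
      (Algebra.IsPushout.equiv Γ(Y, V) Γ(X, W) Γ(Spec (CommRingCat.of V'), ⊤)
        Γ(pullback f g, W'))
  have heV : ∀ v : V', e (algebraMap V' E v) =
      algebraMap Γ(Spec (CommRingCat.of V'), ⊤) Γ(pullback f g, W') (eB.symm v) := by
    intro v
    simp only [e, AlgEquiv.trans_apply]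
    rw [Algebra.IsPushout.equiv_symm_algebraMap_right, Algebra.TensorProduct.congr_apply,
      Algebra.TensorProduct.map_tmul, Algebra.IsPushout.equiv_tmul, map_one, map_one, one_mul]
    rfl
  -- the prime of the standard chart
  let nS : Ideal Γ(pullback f g, W') := n.comap (e.symm : Γ(pullback f g, W') →+* E)
  haveI hnS : nS.IsPrime := Ideal.comap_isPrime _ n
  have hmem : ∀ a : E, e a ∈ nS ↔ a ∈ n := by
    intro a
    change e.symm (e a) ∈ n ↔ _
    rw [AlgEquiv.symm_apply_apply]
  have h1 : nS.comap (algebraMap Γ(X, W) Γ(pullback f g, W')) =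
      (hW.primeIdealOf ⟨x, hxW⟩).asIdeal := by
    rw [← hn1]
    ext c
    change algebraMap Γ(X, W) Γ(pullback f g, W') c ∈ nS ↔ algebraMap Γ(X, W) E c ∈ n
    rw [← e.commutes c, hmem]
  have h2 : nS.comap (algebraMap Γ(Spec (CommRingCat.of V'), ⊤) Γ(pullback f g, W')) =
      maximalIdeal Γ(Spec (CommRingCat.of V'), ⊤) := by
    ext v
    change algebraMap Γ(Spec (CommRingCat.of V'), ⊤) Γ(pullback f g, W') v ∈ nS ↔
      v ∈ maximalIdeal Γ(Spec (CommRingCat.of V'), ⊤)
    have hv : algebraMap Γ(Spec (CommRingCat.of V'), ⊤) Γ(pullback f g, W') v =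
        e (algebraMap V' E (eB v)) := by
      rw [heV, RingEquiv.symm_apply_apply]
    rw [hv, hmem]
    change eB v ∈ n.comap (algebraMap V' E) ↔ _
    rw [hn2, mem_maximalIdeal, mem_maximalIdeal, mem_nonunits_iff,
      mem_nonunits_iff, not_iff_not]
    exact ⟨fun h => by simpa using h.map eB.symm, fun h => h.map eB⟩
  obtain ⟨x', hx', hx'n⟩ := Groth.Agent.H57.ArtFamSch.exists_mem_primeIdealOf_eq hW' ⟨nS, hnS⟩
  have hn' : (hW'.primeIdealOf ⟨x', hx'⟩).asIdeal = nS := congrArg PrimeSpectrum.asIdeal hx'n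
  have e1 : (pullback.fst f g).base x' = x :=
    Groth.Agent.H57.ArtFamSch.map_eq_of_comap_eq (pullback.fst f g) hW hW' hW'W hx' hxW
      (by rw [hn']; exact h1)
  have e2 : (pullback.snd f g).base x' = IsLocalRing.closedPoint V' := by
    apply Groth.Agent.H57.ArtFamSch.eq_closedPoint_of_primeIdealOf hV'
    rw [← h2, ← hn']
    exact congrArg PrimeSpectrum.asIdeal
      (IsAffineOpen.comap_primeIdealOf_appLE ⊤ hV' W' hW' hW'V' hx').symm
  obtain ⟨hdom, hic⟩ := hnormS x' e1 e2
  -- the stalks
  letI aEO : Algebra Γ(pullback f g, W') ((pullback f g).presheaf.stalk x') :=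
    (pullback f g).presheaf.algebra_section_stalk ⟨x', hx'⟩
  haveI locO := hW'.isLocalization_stalk ⟨x', hx'⟩
  have hmap : Submonoid.map e.toRingEquiv.toMonoidHom n.primeCompl =
      (hW'.primeIdealOf ⟨x', hx'⟩).asIdeal.primeCompl := by
    ext y
    constructor
    · rintro ⟨a, ha, rfl⟩
      have : e a ∉ nS := fun h => ha ((hmem a).mp h)
      have haux : ∀ I : Ideal Γ(pullback f g, W'), I = nS → e a ∉ I := by
        rintro _ rfl
        exact this
      exact haux _ hn'
    · intro hy
      have hy' : y ∉ nS := by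
        have haux : ∀ I : Ideal Γ(pullback f g, W'), I = nS → y ∉ I → y ∉ nS := by
          rintro _ rfl h
          exact h
        exact haux _ hn' hy
      refine ⟨e.symm y, ?_, e.apply_symm_apply y⟩
      intro h
      exact hy' h
  let E' : Localization.AtPrime n ≃+* (pullback f g).presheaf.stalk x' :=
    IsLocalization.ringEquivOfRingEquiv (Localization.AtPrime n)
      ((pullback f g).presheaf.stalk x') e.toRingEquiv hmap
  haveI := hdom
  haveI := hic
  exact ⟨MulEquiv.isDomain ((pullback f g).presheaf.stalk x') E'.toMulEquiv,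
    IsIntegrallyClosed.of_equiv E'.symm⟩

/-- The chart map of `Spec K ⟶ Spec Γ(Y, V) ⟶ Y` (copied from helper11's `grAt_chart`). -/
theorem appLE_top_eq {V : Y.Opens} (hV : IsAffineOpen V) (K : Type u) [Field K]
    [Algebra Γ(Y, V) K] :
    ∃ hV'V : (⊤ : (Spec (CommRingCat.of K)).Opens) ≤
        (Spec.map (CommRingCat.ofHom (algebraMap Γ(Y, V) K)) ≫ hV.fromSpec) ⁻¹ᵁ V,
      (Spec.map (CommRingCat.ofHom (algebraMap Γ(Y, V) K)) ≫ hV.fromSpec).appLE V ⊤ hV'V =
        CommRingCat.ofHom (algebraMap Γ(Y, V) K) ≫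
          (Scheme.ΓSpecIso (CommRingCat.of K)).inv := by
  have hV'V : (⊤ : (Spec (CommRingCat.of K)).Opens) ≤
      (Spec.map (CommRingCat.ofHom (algebraMap Γ(Y, V) K)) ≫ hV.fromSpec) ⁻¹ᵁ V := by
    intro z _
    show (Spec.map (CommRingCat.ofHom (algebraMap Γ(Y, V) K)) ≫ hV.fromSpec) z ∈ V
    rw [Scheme.Hom.comp_apply]
    have : hV.fromSpec (Spec.map (CommRingCat.ofHom (algebraMap Γ(Y, V) K)) z) ∈
        Set.range hV.fromSpec := ⟨_, rfl⟩
    rwa [hV.range_fromSpec] at this
  refine ⟨hV'V, ?_⟩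
  rw [Scheme.Hom.comp_appLE, hV.fromSpec_app_self, Category.assoc]
  erw [Scheme.Hom.map_appLE]
  have h1 : (Spec.map (CommRingCat.ofHom (algebraMap Γ(Y, V) K))).appLE ⊤ ⊤ le_top =
      (Spec.map (CommRingCat.ofHom (algebraMap Γ(Y, V) K))).appTop := by
    rw [Scheme.Hom.appTop, Scheme.Hom.app_eq_appLE]
    rfl
  have h2 := Scheme.ΓSpecIso_inv_naturality (CommRingCat.ofHom (algebraMap Γ(Y, V) K))
  rw [h1]
  exact h2.symm

/-- Finiteness of the residue field extension of `Spec K ⟶ Y` from finiteness of `K` over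
`κ(p)`. -/
theorem finite_residueFieldMap {V : Y.Opens} (hV : IsAffineOpen V) (p : Ideal Γ(Y, V))
    [p.IsPrime] (K : Type u) [Field K] [Algebra Γ(Y, V) K] [Algebra p.ResidueField K]
    [IsScalarTower Γ(Y, V) p.ResidueField K] (hfin : Module.Finite p.ResidueField K)
    (s : Spec (CommRingCat.of K)) :
    ((Spec.map (CommRingCat.ofHom (algebraMap Γ(Y, V) K)) ≫ hV.fromSpec).residueFieldMap
      s).hom.Finite := by
  obtain ⟨hV'V, hstar⟩ := appLE_top_eq hV K
  generalize hg : Spec.map (CommRingCat.ofHom (algebraMap Γ(Y, V) K)) ≫ hV.fromSpec = g at *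
  have hyV : g s ∈ V := hV'V (Set.mem_univ s)
  let ev : Γ(Y, V) →+* Y.residueField (g s) := (Y.evaluation V (g s) hyV).hom
  let ρ : Y.residueField (g s) →+* (Spec (CommRingCat.of K)).residueField s :=
    (g.residueFieldMap s).hom
  let ι : K →+* (Spec (CommRingCat.of K)).residueField s :=
    ((Scheme.ΓSpecIso (CommRingCat.of K)).inv ≫
      (Spec (CommRingCat.of K)).presheaf.germ ⊤ s trivial ≫
        (Spec (CommRingCat.of K)).residue s).hom
  have hsq : ρ.comp ev = ι.comp (algebraMap Γ(Y, V) K) := by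
    have h1 := Scheme.evaluation_naturality g s hyV
    have h2 : g.appLE V ⊤ hV'V ≫ (Spec (CommRingCat.of K)).evaluation ⊤ s trivial =
        g.app V ≫ (Spec (CommRingCat.of K)).evaluation (g ⁻¹ᵁ V) s hyV := by
      rw [Scheme.Hom.appLE, Category.assoc]
      congr 1
      exact TopCat.Presheaf.germ_res_assoc _ _ _ _ _
    have h3 : Y.evaluation V (g s) hyV ≫ g.residueFieldMap s =
        CommRingCat.ofHom (algebraMap Γ(Y, V) K) ≫ (Scheme.ΓSpecIso (CommRingCat.of K)).inv ≫
          (Spec (CommRingCat.of K)).presheaf.germ ⊤ s trivial ≫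
            (Spec (CommRingCat.of K)).residue s := by
      rw [h1, ← h2, hstar, Category.assoc]
      rfl
    exact congrArg CommRingCat.Hom.hom h3
  have hι : Function.Surjective ι := by
    have h := Scheme.Spec.algebraMap_residueFieldIso_inv (CommRingCat.of K) s
    have h' : ι = ((Scheme.Spec.residueFieldIso (CommRingCat.of K) s).inv.hom).comp
        (algebraMap K s.asIdeal.ResidueField) := congrArg CommRingCat.Hom.hom h.symm
    rw [h']
    haveI : s.asIdeal.IsMaximal := by
      have : s.asIdeal = ⊥ := ((Ideal.eq_bot_or_top _).resolve_right s.isPrime.ne_top)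
      rw [this]
      exact Ideal.bot_isMaximal
    have hs1 : Function.Surjective (algebraMap K s.asIdeal.ResidueField) :=
      Ideal.algebraMap_residueField_surjective s.asIdeal
    have hs2 : Function.Surjective (Scheme.Spec.residueFieldIso (CommRingCat.of K) s).inv.hom :=
      ((ConcreteCategory.isIso_iff_bijective
        (Scheme.Spec.residueFieldIso (CommRingCat.of K) s).inv).mp inferInstance).2
    intro z
    obtain ⟨w, rfl⟩ := hs2 z
    obtain ⟨v, rfl⟩ := hs1 w
    exact ⟨v, rfl⟩
  have hker : ∀ r : Γ(Y, V), ev r = 0 ↔ r ∈ p := by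
    intro r
    rw [← map_eq_zero_iff ρ ρ.injective]
    have : ρ (ev r) = ι (algebraMap Γ(Y, V) K r) := DFunLike.congr_fun hsq r
    rw [this, map_eq_zero_iff ι ι.injective, IsScalarTower.algebraMap_apply Γ(Y, V) p.ResidueField K,
      map_eq_zero_iff _ (algebraMap p.ResidueField K).injective,
      Ideal.algebraMap_residueField_eq_zero]
  let ψ : p.ResidueField →+* Y.residueField (g s) :=
    Ideal.ResidueField.lift p ev (fun r hr => (hker r).mpr hr) (fun t ht => by
      have : ev t ≠ 0 := fun h => ht ((hker t).mp h)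
      exact isUnit_iff_ne_zero.mpr this)
  have hψ : ρ.comp ψ = ι.comp (algebraMap p.ResidueField K) := by
    apply Ideal.ResidueField.ringHom_ext
    ext r
    simp only [RingHom.comp_apply]
    rw [Ideal.ResidueField.lift_algebraMap]
    have : ρ (ev r) = ι (algebraMap Γ(Y, V) K r) := DFunLike.congr_fun hsq r
    rw [this, IsScalarTower.algebraMap_apply Γ(Y, V) p.ResidueField K]
  have hfin' : (ι.comp (algebraMap p.ResidueField K)).Finite :=
    (RingHom.Finite.of_surjective ι hι).comp (RingHom.finite_algebraMap.mpr hfin)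
  rw [← hψ] at hfin'
  exact RingHom.Finite.of_comp_finite hfin'

set_option maxHeartbeats 1600000 in
/-- Base change to a field, finite over the residue field: the local rings at the points over `x`
are integrally closed domains.  (Adapted from helper11's `isReduced_stalk_snd_of_field`.) -/
theorem normal_stalk_snd_of_field (x : X)
    (hnorm : ∀ (K : Type u) [Field K]
      [Algebra (IsLocalRing.ResidueField ↑(Y.presheaf.stalk (f x))) K],
      Module.Finite (IsLocalRing.ResidueField ↑(Y.presheaf.stalk (f x))) K →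
      ∀ x' : ↥(FBase.bc (f.fiberToSpecResidueField (f x)) K),
        FBase.bcπ (f.fiberToSpecResidueField (f x)) K x' = f.asFiber x →
        IsDomain ↑((FBase.bc (f.fiberToSpecResidueField (f x)) K).presheaf.stalk x') ∧
          IsIntegrallyClosed ↑((FBase.bc (f.fiberToSpecResidueField (f x)) K).presheaf.stalk x'))
    (K : Type u) [Field K] (g : Spec (CommRingCat.of K) ⟶ Y) (x' : ↥(pullback f g))
    (hx'x : (pullback.fst f g).base x' = x)
    (hfin : (g.residueFieldMap ((pullback.snd f g).base x')).hom.Finite) :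
    IsDomain ((pullback f g).presheaf.stalk x') ∧
      IsIntegrallyClosed ((pullback f g).presheaf.stalk x') := by
  have hpf : ∀ z, f.base ((pullback.fst f g).base z) = g.base ((pullback.snd f g).base z) :=
    fun z => by
      have := congrArg (fun h => h.base z) (pullback.condition (f := f) (g := g))
      simpa only [Scheme.Hom.comp_base, TopCat.comp_app] using this
  have hfx : f.base x = g.base ((pullback.snd f g).base x') := by rw [← hx'x]; exact hpf x'
  have hgr : ∀ (y : Y), f.base x = y → ∃ a : f.fiber y, (f.fiberι y).base a = x ∧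
      ∀ (K : Type u) [Field K] [Algebra (IsLocalRing.ResidueField ↑(Y.presheaf.stalk y)) K],
      Module.Finite (IsLocalRing.ResidueField ↑(Y.presheaf.stalk y)) K →
      ∀ x' : ↥(FBase.bc (f.fiberToSpecResidueField y) K),
        (FBase.bcπ (f.fiberToSpecResidueField y) K).base x' = a →
        IsDomain ↑((FBase.bc (f.fiberToSpecResidueField y) K).presheaf.stalk x') ∧
          IsIntegrallyClosed ↑((FBase.bc (f.fiberToSpecResidueField y) K).presheaf.stalk x') := by
    rintro _ rfl
    exact ⟨f.asFiber x, f.fiberι_asFiber x, hnorm⟩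
  obtain ⟨a, hax, ha⟩ := hgr _ hfx
  letI : Algebra (IsLocalRing.ResidueField (Y.presheaf.stalk (g.base ((pullback.snd f g).base x'))))
      ((Spec (CommRingCat.of K)).residueField ((pullback.snd f g).base x')) :=
    (g.residueFieldMap ((pullback.snd f g).base x')).hom.toAlgebra
  obtain ⟨e, he⟩ := Groth.Agent.H11.FibreBC.exists_iso_fiber_bc f g
    ((pullback.snd f g).base x') rfl
  have key : ∀ a' : (pullback.snd f g).fiber ((pullback.snd f g).base x'),
      (pullback.fst f g).base (((pullback.snd f g).fiberι ((pullback.snd f g).base x')).base a') =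
        (f.fiberι (g.base ((pullback.snd f g).base x'))).base a →
      IsDomain (((pullback.snd f g).fiber ((pullback.snd f g).base x')).presheaf.stalk a') ∧
        IsIntegrallyClosed
          (((pullback.snd f g).fiber ((pullback.snd f g).base x')).presheaf.stalk a') := by
    intro a' ha'
    obtain ⟨b, rfl⟩ : ∃ b, e.hom.base b = a' := ⟨e.inv.base a', by
      rw [← Scheme.Hom.comp_apply, e.inv_hom_id]; rfl⟩
    have hb : (FBase.bcπ (f.fiberToSpecResidueField (g.base ((pullback.snd f g).base x')))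
        ((Spec (CommRingCat.of K)).residueField ((pullback.snd f g).base x'))).base b = a := by
      apply (f.fiberι (g.base ((pullback.snd f g).base x'))).isEmbedding.injective
      rw [← ha']
      have := congrArg (fun h => h.base b) he
      simp only [Scheme.Hom.comp_base, TopCat.comp_app] at this
      exact this.symm
    obtain ⟨hd, hi⟩ := ha ((Spec (CommRingCat.of K)).residueField ((pullback.snd f g).base x'))
      hfin b hb
    have hbij : Function.Bijective (e.hom.stalkMap b).hom :=
      (ConcreteCategory.isIso_iff_bijective (e.hom.stalkMap b)).mp inferInstance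
    let Eq := RingEquiv.ofBijective (e.hom.stalkMap b).hom hbij
    haveI := hd
    haveI := hi
    exact ⟨MulEquiv.isDomain _ Eq.toMulEquiv, IsIntegrallyClosed.of_equiv Eq.symm⟩
  obtain ⟨hd, hi⟩ := key ((pullback.snd f g).asFiber x')
    (by rw [(pullback.snd f g).fiberι_asFiber x', hx'x, hax])
  obtain ⟨hsurj, hker⟩ := Groth.Agent.H9.stalkMap_fiberι_surjective_and_ker_eq
    (pullback.snd f g) ((pullback.snd f g).base x') ((pullback.snd f g).asFiber x')
  rw [Groth.Agent.H11.GRAtSch.maximalIdeal_stalk_Spec_field, Ideal.map_bot] at hker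
  have hinj : Function.Injective (((pullback.snd f g).fiberι ((pullback.snd f g).base x')).stalkMap
      ((pullback.snd f g).asFiber x')).hom := (RingHom.injective_iff_ker_eq_bot _).mpr hker
  let Eq := RingEquiv.ofBijective _ ⟨hinj, hsurj⟩
  haveI := hd
  haveI := hi
  have h1 : IsDomain ((pullback f g).presheaf.stalk
      (((pullback.snd f g).fiberι ((pullback.snd f g).base x')).base
        ((pullback.snd f g).asFiber x'))) ∧ IsIntegrallyClosed ((pullback f g).presheaf.stalk
      (((pullback.snd f g).fiberι ((pullback.snd f g).base x')).base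
        ((pullback.snd f g).asFiber x'))) :=
    ⟨MulEquiv.isDomain _ Eq.toMulEquiv, IsIntegrallyClosed.of_equiv Eq.symm⟩
  rw [(pullback.snd f g).fiberι_asFiber x'] at h1
  exact h1

set_option maxHeartbeats 1600000 in
/-- (SB) the algebraic form of geometric normality of the fibre at `x`, on affine charts. -/
theorem gnAt_chart (f : X ⟶ Y) [LocallyOfFiniteType f] (x : X) {V : Y.Opens}
    (hV : IsAffineOpen V) {W : X.Opens} (hW : IsAffineOpen W) (hxW : x ∈ W) (hWV : W ≤ f ⁻¹ᵁ V)
    [Algebra Γ(Y, V) Γ(X, W)] (halg : algebraMap Γ(Y, V) Γ(X, W) = (f.appLE V W hWV).hom)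
    (hnorm : ∀ (K : Type u) [Field K] [Algebra (IsLocalRing.ResidueField ↑(Y.presheaf.stalk (f x))) K],
      Module.Finite (IsLocalRing.ResidueField ↑(Y.presheaf.stalk (f x))) K →
      ∀ x' : ↥(FBase.bc (f.fiberToSpecResidueField (f x)) K),
        FBase.bcπ (f.fiberToSpecResidueField (f x)) K x' = f.asFiber x →
        IsDomain ↑((FBase.bc (f.fiberToSpecResidueField (f x)) K).presheaf.stalk x') ∧
          IsIntegrallyClosed ↑((FBase.bc (f.fiberToSpecResidueField (f x)) K).presheaf.stalk x')) :
    GNAt Γ(Y, V) (hW.primeIdealOf ⟨x, hxW⟩).asIdeal := by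
  intro K _ _ _ _ hfinK E _ _ _ _ _ _ _ n _ hn1
  obtain ⟨hV'V, hstar⟩ := appLE_top_eq hV K
  have hn2 : n.comap (algebraMap K E) = maximalIdeal K := by
    haveI : (n.comap (algebraMap K E)).IsPrime := Ideal.comap_isPrime _ n
    rw [IsLocalRing.isField_iff_maximalIdeal_eq.mp (Field.toIsField K)]
    exact ((Ideal.eq_bot_or_top _).resolve_right (Ideal.IsPrime.ne_top inferInstance))
  exact normal_chart_local f x hV hW hxW hWV halg K _ hV'V hstar
    (fun x' h1 _ => normal_stalk_snd_of_field f x hnorm K _ x' h1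
      (finite_residueFieldMap hV _ K hfinK _)) E n hn1 hn2

end Groth.Agent.H68.GU10_SB
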