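import Mathlib
import Groth.Agent.H68.SepPt

/-!
# Rational points of geometrically reduced algebras over separably closed fields

`exists_smooth_away`: a nontrivial reduced algebra of finite type over a perfect field has a
non-nilpotent element `g` with `D[1/g]` smooth.

`nonempty_algHom`: a nontrivial finite type algebra `C` over a separably closed field `k` with
`C ⊗ k̄` reduced has a `k`-point.
-/

set_option autoImplicit false
universe u

namespace Groth.Agent.H68.GeomRedPt

open scoped TensorProduct

theorem exists_smooth_away (K : Type*) [Field K] [PerfectField K] (D : Type*) [CommRing D]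
    [Algebra K D] [Algebra.FiniteType K D] [IsReduced D] [Nontrivial D] :
    ∃ g : D, ¬ IsNilpotent g ∧ Algebra.Smooth K (Localization.Away g) := by
  obtain ⟨m, hm⟩ := Ideal.exists_maximal D
  haveI := hm.isPrime
  obtain ⟨q, hq, -⟩ := Ideal.exists_minimalPrimes_le (I := ⊥) (J := m) bot_le
  have hq' : q ∈ minimalPrimes D := hq
  haveI := hq'.1.1
  haveI : Ring.KrullDimLE 0 (Localization.AtPrime q) := .of_isLocalization _ hq' _
  letI : Field (Localization.AtPrime q) := Ring.KrullDimLE.isField_of_isReduced.toField
  haveI : Algebra.FinitePresentation K D :=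
    Algebra.FinitePresentation.of_finiteType.mp inferInstance
  haveI : Algebra.EssFiniteType D (Localization.AtPrime q) :=
    Algebra.EssFiniteType.of_isLocalization _ q.primeCompl
  haveI : Algebra.EssFiniteType K (Localization.AtPrime q) :=
    Algebra.EssFiniteType.comp K D _
  haveI : Algebra.IsSmoothAt K q := Algebra.FormallySmooth.of_perfectField
  obtain ⟨g, hgq, hsm⟩ := Algebra.IsSmoothAt.exists_notMem_smooth K q
  exact ⟨g, fun hnil => hgq (nilradical_le_prime q (mem_nilradical.mpr hnil)), hsm⟩

theorem nonempty_algHom (k : Type u) [Field k] [IsSepClosed k] (C : Type u) [CommRing C]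
    [Algebra k C] [Algebra.FiniteType k C] [Nontrivial C]
    (hred : IsReduced (C ⊗[k] AlgebraicClosure k)) : Nonempty (C →ₐ[k] k) := by
  classical
  let e : C ⊗[k] AlgebraicClosure k ≃ₐ[k] AlgebraicClosure k ⊗[k] C :=
    Algebra.TensorProduct.comm k C (AlgebraicClosure k)
  haveI : IsReduced (AlgebraicClosure k ⊗[k] C) :=
    isReduced_of_injective (e.symm : AlgebraicClosure k ⊗[k] C →+* C ⊗[k] AlgebraicClosure k)
      e.symm.injective
  haveI : Nontrivial (AlgebraicClosure k ⊗[k] C) := inferInstance
  haveI : Algebra.FinitePresentation (AlgebraicClosure k) (AlgebraicClosure k ⊗[k] C) :=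
    Algebra.FinitePresentation.of_finiteType.mp inferInstance
  obtain ⟨g, hnil, hsm⟩ := exists_smooth_away (AlgebraicClosure k) (AlgebraicClosure k ⊗[k] C)
  obtain ⟨n, hn, c, hc⟩ := IsPurelyInseparable.exists_pow_mem_range_tensorProduct
    (k := k) (K := AlgebraicClosure k) (e.symm g)
  have hg : g ^ n = (1 : AlgebraicClosure k) ⊗ₜ[k] c := by
    have h1 : e (e.symm g ^ n) = g ^ n := by rw [map_pow, AlgEquiv.apply_symm_apply]
    rw [← h1, ← hc, Algebra.TensorProduct.algebraMap_apply]
    simp [e]
  have h1 : Algebra.Smooth (AlgebraicClosure k) (Localization.Away (g ^ n)) := by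
    rw [← Algebra.basicOpen_subset_smoothLocus_iff_smooth] at hsm ⊢
    rwa [PrimeSpectrum.basicOpen_pow g n hn]
  rw [hg] at h1
  have hcnil : ¬ IsNilpotent c := by
    rintro ⟨m, hm⟩
    apply hnil
    refine ⟨n * m, ?_⟩
    rw [pow_mul, hg, Algebra.TensorProduct.tmul_pow, hm, TensorProduct.tmul_zero]
  haveI : Nontrivial (Localization.Away c) := by
    rw [← not_subsingleton_iff_nontrivial, IsLocalization.subsingleton_iff (M := Submonoid.powers c)]
    rintro ⟨m, hm⟩
    exact hcnil ⟨m, hm⟩
  haveI : Algebra.Smooth (AlgebraicClosure k) (AlgebraicClosure k ⊗[k] Localization.Away c) :=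
    Algebra.Smooth.of_equiv
      (IsLocalization.Away.tensorProductEquivTMulRight k (AlgebraicClosure k) c
        (Localization.Away c)).symm
  haveI : Algebra.Smooth k (Localization.Away c) :=
    Algebra.Smooth.of_smooth_tensorProduct_of_faithfullyFlat (AlgebraicClosure k)
  obtain ⟨m, hm, hfin, hsep⟩ := SepPt.exists_max_sep k (Localization.Away c)
  letI := Ideal.Quotient.field m
  have hbij : Function.Bijective (algebraMap k (Localization.Away c ⧸ m)) :=
    ⟨(algebraMap k (Localization.Away c ⧸ m)).injective,
      IsSepClosed.algebraMap_surjective k (Localization.Away c ⧸ m)⟩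
  exact ⟨((AlgEquiv.ofBijective (Algebra.ofId k (Localization.Away c ⧸ m)) hbij).symm :
    (Localization.Away c ⧸ m) →ₐ[k] k).comp ((Ideal.Quotient.mkₐ k m).comp
      (IsScalarTower.toAlgHom k C (Localization.Away c)))⟩

end Groth.Agent.H68.GeomRedPt
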