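import Mathlib

/-!
Helper lemmas on ℤ-graded commutative rings (helper68).
-/

set_option autoImplicit false

namespace Groth.Agent.H68

open DirectSum

variable {R A : Type*} [CommRing R] [CommRing A] [Algebra R A]
  (𝒜 : ℤ → Submodule R A) [GradedAlgebra 𝒜]

/-- the degree `N` component of a product with a homogeneous right factor -/
theorem coe_decompose_mul_right {a t : A} {n : ℤ} (ht : t ∈ 𝒜 n) (N : ℤ) :
    (decompose 𝒜 (a * t) N : A) = (decompose 𝒜 a (N - n) : A) * t := by
  have h := DirectSum.coe_decompose_mul_add_of_right_mem 𝒜 (i := N - n) (a := a) ht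
  rwa [sub_add_cancel] at h

/-- a homogeneous element of degree `N` in the ideal spanned by a set `T` of homogeneous elements
is a sum of products `a * t` with `t ∈ T` and `a` homogeneous of the complementary degree -/
theorem mem_closure_of_mem_span {T : Set A} (dg : A → ℤ) (hT : ∀ t ∈ T, t ∈ 𝒜 (dg t)) {y : A}
    {N : ℤ} (hy : y ∈ 𝒜 N) (hyT : y ∈ Ideal.span T) :
    y ∈ AddSubmonoid.closure {z : A | ∃ t ∈ T, ∃ a ∈ 𝒜 (N - dg t), z = a * t} := by
  obtain ⟨c, hc, rfl⟩ := Submodule.mem_span_set.mp hyT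
  have h1 : c.sum (fun t r => r • t) = GradedRing.proj 𝒜 N (c.sum (fun t r => r • t)) := by
    rw [GradedRing.proj_apply, DirectSum.decompose_of_mem_same 𝒜 hy]
  rw [h1, Finsupp.sum, map_sum]
  refine sum_mem (fun t ht => ?_)
  refine AddSubmonoid.subset_closure ⟨t, hc ht, (decompose 𝒜 (c t) (N - dg t) : A),
    SetLike.coe_mem _, ?_⟩
  rw [GradedRing.proj_apply, smul_eq_mul, coe_decompose_mul_right 𝒜 (hT t (hc ht))]

end Groth.Agent.H68
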