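import Mathlib
import Groth.Prelude.Def_QCohCat
import Groth.Prelude.Def_Coh
import Groth.Agent.S9819
import Groth.Agent.H18.Serre.Generation
import Groth.Agent.H8.CohKerCoker
import Groth.Agent.H77.NoethObj_N1a
import Groth.Agent.H77.NoethObj_N2a
set_option autoImplicit false
universe u
open CategoryTheory CategoryTheory.Limits AlgebraicGeometry TopologicalSpace Opposite

namespace Groth.Agent.H68.NoethObj_N2b

variable {Y : Scheme.{u}}

/-- A mono qcoh submodule gives a subobject in `QCoh Y`. -/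
lemma exists_subobject (M : QCohCat.QCoh Y) (G : Y.Modules)
    (hq : QCohCat.isQCoh Y G) (i : G ⟶ M.obj) [Mono i] :
    ∃ (N : Subobject M) (e : G ≅ (N : QCohCat.QCoh Y).obj), e.hom ≫ N.arrow.hom = i := by
  let G' : QCohCat.QCoh Y := ⟨G, hq⟩
  let j : G' ⟶ M := ObjectProperty.homMk i
  haveI : Mono j := by
    apply (ObjectProperty.ι (QCohCat.isQCoh Y)).mono_of_mono_map
    exact (inferInstance : Mono i)
  refine ⟨Subobject.mk j, (ObjectProperty.ι _).mapIso (Subobject.underlyingIso j).symm, ?_⟩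
  have := Subobject.underlyingIso_arrow j
  exact congrArg (fun f => f.hom) this

theorem coh_of_noeth (Y : Scheme.{u}) [IsNoetherian Y] (M : QCohCat.QCoh Y)
    (h : IsNoetherianObject M) : Coh.IsCoh M.obj := by
  refine ⟨M.property, ?_⟩
  haveI : M.obj.IsQuasicoherent := M.property
  haveI : Coh.IsQCoh M.obj := M.property
  let 𝒮 : Set (Subobject M) :=
    {N | SheafOfModules.IsFiniteType (R := Y.ringCatSheaf) ((N : QCohCat.QCoh Y).obj)}
  have hne : 𝒮.Nonempty := by
    obtain ⟨G, i, hmono, hq, hft, -⟩ :=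
      Groth.Agent.S9819.result M.obj ⟨⊥, isAffineOpen_bot Y⟩ 0
    obtain ⟨N, e, -⟩ := exists_subobject M G hq i
    refine ⟨N, ?_⟩
    haveI := hft
    exact Groth.Agent.H8.isFiniteType_of_epi e.hom
  obtain ⟨N, hN, hmax⟩ := wellFounded_gt.has_min 𝒮 hne
  haveI hNmono : Mono N.arrow.hom := Groth.Agent.H77.NoethObj_N1a.mono_hom_of_mono N.arrow
  have hNcoh : Coh.IsCoh (N : QCohCat.QCoh Y).obj := ⟨(N : QCohCat.QCoh Y).property, hN⟩
  have hsurj : ∀ U : Y.affineOpens, Function.Surjective (N.arrow.hom.app (U : Y.Opens)) := by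
    intro U s
    obtain ⟨G, i, hmono, hq, hft, g, hg⟩ := Groth.Agent.S9819.result M.obj U s
    obtain ⟨N', i', j₁, j₂, hi', hN', h₁, h₂⟩ :=
      Groth.Agent.H77.NoethObj_N2a.exists_sup M.obj N.arrow.hom i hNcoh ⟨hq, hft⟩
    obtain ⟨N'', e, he⟩ := exists_subobject M N' hN'.1 i'
    have hN''S : N'' ∈ 𝒮 := by
      haveI := hN'.2
      exact Groth.Agent.H8.isFiniteType_of_epi e.hom
    have hle : N ≤ N'' := by
      refine Subobject.le_of_comm (ObjectProperty.homMk (j₁ ≫ e.hom)) ?_
      apply (ObjectProperty.ι (QCohCat.isQCoh Y)).map_injective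
      show (j₁ ≫ e.hom) ≫ N''.arrow.hom = N.arrow.hom
      rw [Category.assoc, he, h₁]
    have heq : N'' = N := by
      by_contra hne'
      exact hmax N'' hN''S (lt_of_le_of_ne hle (Ne.symm hne'))
    have hcomp : j₂ ≫ e.hom ≫ N''.arrow.hom = i := by rw [he, h₂]
    have key : ∃ t, (N''.arrow.hom.app (U : Y.Opens)) t = s := by
      refine ⟨(e.hom.app (U : Y.Opens)) ((j₂.app (U : Y.Opens)) g), ?_⟩
      have h3 : (i.app (U : Y.Opens)) g = s := hg
      rw [← hcomp] at h3
      simpa using h3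
    exact heq ▸ key
  haveI : Epi N.arrow.hom := by
    refine Groth.Agent.H18.Serre.epi_of_surjective_affine_cover N.arrow.hom
      (fun U : Y.affineOpens => (U : Y.Opens)) ?_ (fun U => U.2) hsurj
    exact iSup_affineOpens_eq_top Y
  haveI : SheafOfModules.IsFiniteType (R := Y.ringCatSheaf) ((N : QCohCat.QCoh Y).obj) := hN
  exact Groth.Agent.H8.isFiniteType_of_epi N.arrow.hom

end Groth.Agent.H68.NoethObj_N2b

section Check
open Groth.Agent.H68.NoethObj_N2b in
example (Y : Scheme.{u}) [IsNoetherian Y] (M : QCohCat.QCoh Y) (h : IsNoetherianObject M) : Coh.IsCoh M.obj := coh_of_noeth Y M h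
end Check
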