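import Mathlib
import Groth.Agent.S9407
import Groth.Agent.H47.EtaleNormal
import Groth.Agent.H68.FEtNormal

/-!
# Finite étale algebras over a normal domain: primes over `0` are cut out by idempotents
-/

set_option autoImplicit false
universe u

namespace Groth.Agent.H68.NormalEtaleAlg

open CategoryTheory AlgebraicGeometry

/-- closure of a generic-fibre point of a finite étale cover (with domain stalks) is clopen -/
theorem isClopen_closure_of_mem_generic_fibre {X Y : Scheme.{u}} [IsIntegral X] (f : Y ⟶ X)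
    [IsFinite f] [Etale f] (hdom : ∀ y : Y, IsDomain (Y.presheaf.stalk y)) (z₀ : Y)
    (hz₀ : f z₀ = genericPoint X) : IsClopen (closure ({z₀} : Set Y)) := by
  obtain ⟨hFfin, hmax, hcover, huniq⟩ := FEtNormal.generic_fibre_decomp f hdom
  have hz₀' : z₀ ∈ f ⁻¹' {genericPoint X} := hz₀
  have hBclosed : IsClosed (⋃ z ∈ (f ⁻¹' {genericPoint X}) \ {z₀}, closure ({z} : Set Y)) :=
    (hFfin.subset Set.sdiff_subset).isClosed_biUnion (fun _ _ => isClosed_closure)
  have hAc : (closure ({z₀} : Set Y))ᶜ =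
      ⋃ z ∈ (f ⁻¹' {genericPoint X}) \ {z₀}, closure ({z} : Set Y) := by
    ext y
    simp only [Set.mem_compl_iff, Set.mem_iUnion, Set.mem_sdiff, Set.mem_singleton_iff]
    constructor
    · intro hy
      obtain ⟨z, hz, hyz⟩ := hcover y
      refine ⟨z, ⟨hz, ?_⟩, hyz⟩
      rintro rfl
      exact hy hyz
    · rintro ⟨z, ⟨hz, hne⟩, hyz⟩ hyz₀
      exact hne (huniq y z hz z₀ hz₀' hyz hyz₀)
  exact ⟨isClosed_closure, by rw [← isClosed_compl_iff, hAc]; exact hBclosed⟩

/-- in a finite étale algebra `D` over an integrally closed domain `A'`, a prime lying over `0`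
is generated by an idempotent. -/
theorem exists_idempotent_of_prime_over_bot (A' D : Type u) [CommRing A'] [IsDomain A']
    [IsIntegrallyClosed A'] [CommRing D] [Algebra A' D] [Module.Finite A' D] [Algebra.Etale A' D]
    (P : Ideal D) [P.IsPrime] (hP : P.comap (algebraMap A' D) = ⊥) :
    ∃ e : D, IsIdempotentElem e ∧ P = Ideal.span {1 - e} := by
  obtain ⟨f, hf⟩ : ∃ f : Spec (CommRingCat.of D) ⟶ Spec (CommRingCat.of A'),
      f = Spec.map (CommRingCat.ofHom (algebraMap A' D)) := ⟨_, rfl⟩
  haveI : IsFinite f := by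
    rw [hf, IsFinite.SpecMap_iff]
    exact RingHom.finite_algebraMap.mpr inferInstance
  haveI : Etale f := by
    rw [hf, HasRingHomProperty.Spec_iff (P := @Etale)]
    exact RingHom.etale_algebraMap.mpr inferInstance
  have hdom : ∀ y : ↥(Spec (CommRingCat.of D)),
      IsDomain ((Spec (CommRingCat.of D)).presheaf.stalk y) := by
    intro y
    let y' : PrimeSpectrum D := y
    haveI : y'.asIdeal.IsPrime := y'.isPrime
    letI : Algebra A' ((Spec.structureSheaf D).presheaf.stalk y') :=
      ((algebraMap D ((Spec.structureSheaf D).presheaf.stalk y')).comp (algebraMap A' D)).toAlgebra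
    haveI : IsScalarTower A' D ((Spec.structureSheaf D).presheaf.stalk y') :=
      IsScalarTower.of_algebraMap_eq (fun _ => rfl)
    obtain ⟨h1, -⟩ := Groth.Agent.H47.EtaleNormal.isDomain_isIntegrallyClosed_atPrime A' D
      y'.asIdeal ((Spec.structureSheaf D).presheaf.stalk y')
    exact h1
  let z₀ : ↥(Spec (CommRingCat.of D)) := (⟨P, inferInstance⟩ : PrimeSpectrum D)
  have hz₀ : f z₀ = genericPoint ↥(Spec (CommRingCat.of A')) := by
    rw [genericPoint_eq_bot_of_affine (CommRingCat.of A'), hf]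
    exact PrimeSpectrum.ext hP
  have hclopen := isClopen_closure_of_mem_generic_fibre f hdom z₀ hz₀
  have hcl : closure ({z₀} : Set (PrimeSpectrum D)) = PrimeSpectrum.zeroLocus (P : Set D) :=
    PrimeSpectrum.closure_singleton _
  obtain ⟨e, he, hse⟩ := PrimeSpectrum.isClopen_iff.mp (show IsClopen (closure ({z₀} :
    Set (PrimeSpectrum D))) from hclopen)
  refine ⟨e, he, ?_⟩
  rw [hcl, PrimeSpectrum.basicOpen_eq_zeroLocus_of_isIdempotentElem e he] at hse
  haveI : IsReduced D := Groth.Agent.S9407.result A' D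
  have hrad : (Ideal.span {1 - e} : Ideal D).IsRadical := by
    intro x hx
    obtain ⟨n, hn⟩ := hx
    rw [Ideal.mem_span_singleton'] at hn ⊢
    obtain ⟨a, ha⟩ := hn
    have hee : e * (1 - e) = 0 := by rw [mul_sub, mul_one, he.eq, sub_self]
    have h1 : (e * x) ^ (n + 1) = 0 := by
      rw [mul_pow, he.pow_succ_eq, pow_succ, ← ha]
      calc e * (a * (1 - e) * x) = a * x * (e * (1 - e)) := by ring
        _ = 0 := by rw [hee, mul_zero]
    have h2 : e * x = 0 := (IsNilpotent.eq_zero ⟨n + 1, h1⟩)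
    exact ⟨x, by rw [mul_sub, mul_one, mul_comm, h2, sub_zero]⟩
  have h3 := congrArg PrimeSpectrum.vanishingIdeal hse
  rw [PrimeSpectrum.vanishingIdeal_zeroLocus_eq_radical,
    ← PrimeSpectrum.zeroLocus_span ({1 - e} : Set D),
    PrimeSpectrum.vanishingIdeal_zeroLocus_eq_radical] at h3
  rw [← (‹P.IsPrime›.isRadical).radical, h3, hrad.radical]

end Groth.Agent.H68.NormalEtaleAlg
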