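import Groth.Agent.H18.ProjSubDefs
import Groth.Agent.H18.ProjClosedImm
import Groth.Prelude.Def_CohB1

/-!
# (E2) for helper18's S3585 squad: the key localisation argument
-/

set_option autoImplicit false
universe u
open CategoryTheory CategoryTheory.Limits AlgebraicGeometry HomogeneousIdeal
open Groth.Agent.H18 Groth.Agent.H18.ProjSub Groth.Agent.H18.Serre

namespace Groth.Agent.H68.PSub_E2

variable {R A : Type u} [CommRing R] [CommRing A] [Algebra R A]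
  {𝒜 : ℕ → Submodule R A} [GradedAlgebra 𝒜]
variable {ι : Type*} (ℐ : (Proj 𝒜).IdealSheafData) (x : ι → A) (hx : ∀ i, x i ∈ 𝒜 1)

/-- the per-chart statement -/
theorem exists_forall_fr_mem {d : ℕ} {a : A} (ha : a ∈ 𝒜 d) (i : ι)
    (h : fr 𝒜 (hx i) d a ha ∈ ℐ.ideal (chartOpen 𝒜 (hx i))) (j : ι) :
    ∃ N₀ : ℕ, ∀ N, N₀ ≤ N →
      fr 𝒜 (hx j) (N + d) (x i ^ N * a)
        (SetLike.mul_mem_graded (pow_mem_one 𝒜 (hx i) N) ha) ∈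
        ℐ.ideal (chartOpen 𝒜 (hx j)) := by
  -- notation
  set Uj : (Proj 𝒜).affineOpens := chartOpen 𝒜 (hx j) with hUj
  set Ui : (Proj 𝒜).affineOpens := chartOpen 𝒜 (hx i) with hUi
  let r : Γ(Proj 𝒜, (Uj : (Proj 𝒜).Opens)) := fr 𝒜 (hx j) 1 (x i) (hx i)
  let c : Γ(Proj 𝒜, (Uj : (Proj 𝒜).Opens)) := fr 𝒜 (hx j) d a ha
  let W : (Proj 𝒜).affineOpens := (Proj 𝒜).affineBasicOpen r
  have hWj : (W : (Proj 𝒜).Opens) ≤ Proj.basicOpen 𝒜 (x j) := (Proj 𝒜).basicOpen_le r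
  have hWi : (W : (Proj 𝒜).Opens) ≤ Proj.basicOpen 𝒜 (x i) := by
    intro y hy
    have := (mem_basicOpen_frac 𝒜 (hx i) (pow_mem_one 𝒜 (hx j) 1) (nv_pow 𝒜 le_rfl 1) y).mp hy
    exact this.2
  have hWUi : W ≤ Ui := hWi
  -- Step A
  have hA : (Proj 𝒜).presheaf.map (homOfLE hWi).op (fr 𝒜 (hx i) d a ha) ∈ ℐ.ideal W := by
    rw [← ℐ.map_ideal hWUi]
    exact Ideal.mem_map_of_mem _ h
  -- Step B
  have hB : (Proj 𝒜).presheaf.map (homOfLE hWj).op c =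
      frac 𝒜 (W : (Proj 𝒜).Opens) (pow_mem_one 𝒜 (hx i) d) (pow_mem_one 𝒜 (hx j) d)
        (nv_pow 𝒜 hWj d) *
      (Proj 𝒜).presheaf.map (homOfLE hWi).op (fr 𝒜 (hx i) d a ha) := by
    show frac 𝒜 (W : (Proj 𝒜).Opens) ha (pow_mem_one 𝒜 (hx j) d) _ =
      frac 𝒜 (W : (Proj 𝒜).Opens) (pow_mem_one 𝒜 (hx i) d) (pow_mem_one 𝒜 (hx j) d) _ *
      frac 𝒜 (W : (Proj 𝒜).Opens) ha (pow_mem_one 𝒜 (hx i) d) _
    rw [frac_mul]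
    apply frac_eq_of
    ring
  -- Step C
  have hC : (Proj 𝒜).presheaf.map (homOfLE hWj).op c ∈
      (ℐ.ideal Uj).map ((Proj 𝒜).presheaf.map (homOfLE ((Proj 𝒜).basicOpen_le r)).op).hom := by
    rw [ℐ.map_ideal_basicOpen Uj r, hB]
    exact Ideal.mul_mem_left _ _ hA
  -- Step D
  haveI := Uj.2.isLocalization_basicOpen r
  have hD : ∃ N₀ : ℕ, r ^ N₀ * c ∈ ℐ.ideal Uj := by
    have hC' : algebraMap Γ(Proj 𝒜, (Uj : (Proj 𝒜).Opens)) Γ(Proj 𝒜, (Proj 𝒜).basicOpen r) c ∈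
        Ideal.map (algebraMap Γ(Proj 𝒜, (Uj : (Proj 𝒜).Opens))
          Γ(Proj 𝒜, (Proj 𝒜).basicOpen r)) (ℐ.ideal Uj) := hC
    obtain ⟨⟨y, ⟨_, m, rfl⟩⟩, hy⟩ := (IsLocalization.mem_map_algebraMap_iff
      (Submonoid.powers r) Γ(Proj 𝒜, (Proj 𝒜).basicOpen r)).mp hC'
    rw [← map_mul] at hy
    obtain ⟨⟨_, m', rfl⟩, ht⟩ := (IsLocalization.eq_iff_exists (Submonoid.powers r)
      Γ(Proj 𝒜, (Proj 𝒜).basicOpen r)).mp hy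
    refine ⟨m' + m, ?_⟩
    have : r ^ (m' + m) * c = r ^ m' * (y : Γ(Proj 𝒜, (Uj : (Proj 𝒜).Opens))) := by
      rw [← ht]; ring
    rw [this]
    exact Ideal.mul_mem_left _ _ y.2
  obtain ⟨N₀, hN₀⟩ := hD
  refine ⟨N₀, fun N hN => ?_⟩
  -- Step E
  have hE : fr 𝒜 (hx j) (N + d) (x i ^ N * a)
      (SetLike.mul_mem_graded (pow_mem_one 𝒜 (hx i) N) ha) = r ^ N * c := by
    show frac 𝒜 (Proj.basicOpen 𝒜 (x j)) _ (pow_mem_one 𝒜 (hx j) (N + d)) _ =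
      (frac 𝒜 (Proj.basicOpen 𝒜 (x j)) (hx i) (pow_mem_one 𝒜 (hx j) 1) (nv_pow 𝒜 le_rfl 1)) ^ N *
        frac 𝒜 (Proj.basicOpen 𝒜 (x j)) ha (pow_mem_one 𝒜 (hx j) d) (nv_pow 𝒜 le_rfl d)
    rw [frac_pow, frac_mul]
    apply frac_eq_of
    ring
  rw [hE]
  have : r ^ N * c = r ^ (N - N₀) * (r ^ N₀ * c) := by
    rw [← mul_assoc, ← pow_add, Nat.sub_add_cancel hN]
  rw [this]
  exact Ideal.mul_mem_left _ _ hN₀

theorem exists_pow_mul_mem_hIdeal [Finite ι] {d : ℕ} {a : A} (ha : a ∈ 𝒜 d) (i : ι)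
    (h : fr 𝒜 (hx i) d a ha ∈ ℐ.ideal (chartOpen 𝒜 (hx i))) :
    ∃ N : ℕ, x i ^ N * a ∈ hIdeal ℐ x hx := by
  classical
  choose N₀ hN₀ using exists_forall_fr_mem ℐ x hx ha i h
  haveI := Fintype.ofFinite ι
  refine ⟨Finset.univ.sup N₀, Ideal.subset_span ⟨Finset.univ.sup N₀ + d,
    SetLike.mul_mem_graded (pow_mem_one 𝒜 (hx i) _) ha, fun j => ?_⟩⟩
  exact hN₀ j _ (Finset.le_sup (Finset.mem_univ j))

end Groth.Agent.H68.PSub_E2
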