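import Groth.Agent.H18.ProjSubDefs
import Groth.Agent.H18.ProjClosedImm
import Groth.Prelude.Def_CohB1

/-!
# (E3) for helper18's S3585 squad: sections over `D₊(g)` are fractions; kernel of `Proj.map` on
a chart
-/

set_option autoImplicit false
set_option linter.style.haveILetI false
universe u
open CategoryTheory CategoryTheory.Limits AlgebraicGeometry HomogeneousIdeal
open Groth.Agent.H18 Groth.Agent.H18.ProjSub Groth.Agent.H18.Serre

namespace Groth.Agent.H68.PSub_E3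

variable {R A B : Type u} [CommRing R] [CommRing A] [Algebra R A] [CommRing B] [Algebra R B]
  {𝒜 : ℕ → Submodule R A} [GradedAlgebra 𝒜] {ℬ : ℕ → Submodule R B} [GradedAlgebra ℬ]

theorem awayToSection_mk {g : A} (hg : g ∈ 𝒜 1) {d : ℕ} {a : A} (ha : a ∈ 𝒜 d) :
    (Proj.awayToSection 𝒜 g).hom (HomogeneousLocalization.Away.mk 𝒜 hg d a (by simpa using ha)) =
      fr 𝒜 hg d a ha := by
  refine ext_val 𝒜 (fun x => ?_)
  change HomogeneousLocalization.mk _ = HomogeneousLocalization.mk _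
  ext
  simp

theorem bijective_awayToSection {g : A} (hg : g ∈ 𝒜 1) :
    Function.Bijective (Proj.awayToSection 𝒜 g).hom := by
  have := ConcreteCategory.bijective_of_isIso (Proj.basicOpenIsoAway 𝒜 g hg one_pos).hom
  rwa [Proj.basicOpenIsoAway_hom] at this

theorem exists_fr_eq {g : A} (hg : g ∈ 𝒜 1) (r : Γ(Proj 𝒜, Proj.basicOpen 𝒜 g)) :
    ∃ (d : ℕ) (a : A) (ha : a ∈ 𝒜 d), r = fr 𝒜 hg d a ha := by
  obtain ⟨y, rfl⟩ := (bijective_awayToSection hg).2 r
  obtain ⟨n, a, ha, rfl⟩ := HomogeneousLocalization.Away.mk_surjective 𝒜 hg y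
  have ha' : a ∈ 𝒜 n := by simpa using ha
  exact ⟨n, a, ha', awayToSection_mk hg ha'⟩

theorem fr_mem_ker_app_iff (ψ : 𝒜 →+*ᵍ ℬ) (hψ : irrelevant ℬ ≤ (irrelevant 𝒜).map ψ)
    {g : A} (hg : g ∈ 𝒜 1) {d : ℕ} {a : A} (ha : a ∈ 𝒜 d) :
    fr 𝒜 hg d a ha ∈ RingHom.ker ((Proj.map ψ hψ).app (Proj.basicOpen 𝒜 g)).hom ↔
      ∃ N : ℕ, g ^ N * a ∈ RingHom.ker ψ.toRingHom := by
  have hsq := Proj.awayToSection_comp_appLE ψ hψ hg
  have hα' : Function.Bijective (Proj.awayToSection ℬ (ψ g)).hom :=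
    bijective_awayToSection (ψ.2 hg)
  have happ : (Proj.map ψ hψ).app (Proj.basicOpen 𝒜 g) =
      Scheme.Hom.appLE (Proj.map ψ hψ) (Proj.basicOpen 𝒜 g) (Proj.basicOpen ℬ (ψ g)) (by rfl) :=
    Scheme.Hom.app_eq_appLE _
  have hcomm : ∀ y, ((Proj.map ψ hψ).app (Proj.basicOpen 𝒜 g)).hom
      ((Proj.awayToSection 𝒜 g).hom y) =
      (Proj.awayToSection ℬ (ψ g)).hom (HomogeneousLocalization.Away.map ψ g y) := by
    intro y
    rw [happ]
    exact congrArg (fun F => F.hom y) hsq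
  rw [← awayToSection_mk hg ha, RingHom.mem_ker, hcomm]
  have h0 : ∀ z : HomogeneousLocalization.Away ℬ (ψ g),
      (Proj.awayToSection ℬ (ψ g)).hom z = 0 ↔ z = 0 := fun z =>
    ⟨fun h => hα'.1 (h.trans (map_zero _).symm), fun h => by rw [h, map_zero]⟩
  refine Iff.trans (h0 _) ?_
  rw [HomogeneousLocalization.Away.map_mk]
  refine Iff.trans ⟨fun h => congrArg HomogeneousLocalization.val h,
    fun h => HomogeneousLocalization.val_injective _ h⟩ ?_
  rw [HomogeneousLocalization.Away.val_mk,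
    HomogeneousLocalization.val_zero, Localization.mk_eq_mk'_apply,
    IsLocalization.mk'_eq_zero_iff]
  constructor
  · rintro ⟨⟨_, N, rfl⟩, hN⟩
    refine ⟨N, ?_⟩
    rw [RingHom.mem_ker]
    change ψ (g ^ N * a) = 0
    rw [map_mul, map_pow]
    exact hN
  · rintro ⟨N, hN⟩
    refine ⟨⟨(ψ g) ^ N, N, rfl⟩, ?_⟩
    rw [RingHom.mem_ker] at hN
    change ψ (g ^ N * a) = 0 at hN
    rw [map_mul, map_pow] at hN
    exact hN

end Groth.Agent.H68.PSub_E3
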