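import Mathlib
import Groth.Prelude.Def_SGA1
import Groth.Agent.H69.QuotBasis

/-!
# Tools for quotients of `Proj` by a finite group (S13181)

* chart transfer lemmas for `SGA1.IsQuot` along open immersions;
* graded-ring lemmas: the map `C_(c) → A_(ι c)` induced by the inclusion of invariants is
  injective with image the invariants; the opens `D_+(ι c)` cover `Proj A`.
-/

set_option autoImplicit false
universe u
open CategoryTheory AlgebraicGeometry HomogeneousLocalization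

namespace Groth.Agent.H68.ProjQuot

open Groth.Agent.H69.QuotBasis

section Chart

variable {X Y X' Y' : Scheme.{u}} {G : Type u} [Group G]

theorem appLE_bijective (j : X' ⟶ X) [IsOpenImmersion j] (W : X.Opens)
    (hW : j ''ᵁ ⊤ = W) (h : (⊤ : X'.Opens) ≤ j ⁻¹ᵁ W) :
    Function.Bijective (j.appLE W ⊤ h).hom := by
  subst hW
  have e : j.appLE (j ''ᵁ ⊤) ⊤ h = (j.appIso ⊤).hom := (Scheme.Hom.appIso_hom' j ⊤).symm
  rw [e]
  exact ConcreteCategory.bijective_of_isIso (j.appIso ⊤).hom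

theorem appTop_eq_appLE (r : X' ⟶ X) : r.appTop = r.appLE ⊤ ⊤ le_top := by
  rw [Scheme.Hom.appTop, Scheme.Hom.app_eq_appLE]
  rfl

theorem chart_square (p : X ⟶ Y) (j : X' ⟶ X) (i : Y' ⟶ Y) (p' : X' ⟶ Y')
    (hsq : j ≫ p = p' ≫ i) (V : Y.Opens) (hjV : (⊤ : X'.Opens) ≤ j ⁻¹ᵁ (p ⁻¹ᵁ V))
    (hiV : (⊤ : Y'.Opens) ≤ i ⁻¹ᵁ V) :
    p.app V ≫ j.appLE (p ⁻¹ᵁ V) ⊤ hjV = i.appLE V ⊤ hiV ≫ p'.appTop := by
  have h1 := Scheme.Hom.appLE_comp_appLE j p V (p ⁻¹ᵁ V) ⊤ le_rfl hjV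
  have h2 := Scheme.Hom.appLE_comp_appLE p' i V ⊤ ⊤ hiV le_top
  rw [Scheme.Hom.app_eq_appLE, h1, appTop_eq_appLE, h2]
  exact appLE_congr _ _ hsq _ _ _ _

theorem injective_app_of_chart (p : X ⟶ Y) (j : X' ⟶ X) (i : Y' ⟶ Y) (p' : X' ⟶ Y')
    [IsOpenImmersion j] [IsOpenImmersion i]
    (hsq : j ≫ p = p' ≫ i) (V : Y.Opens) (hi : i ''ᵁ ⊤ = V) (hj : j ''ᵁ ⊤ = p ⁻¹ᵁ V)
    (hinj : Function.Injective p'.appTop.hom) : Function.Injective (p.app V).hom := by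
  have hjV : (⊤ : X'.Opens) ≤ j ⁻¹ᵁ (p ⁻¹ᵁ V) := by
    rw [← hj]; exact (Scheme.Hom.preimage_image_eq j ⊤).ge
  have hiV : (⊤ : Y'.Opens) ≤ i ⁻¹ᵁ V := by
    rw [← hi]; exact (Scheme.Hom.preimage_image_eq i ⊤).ge
  have sq := chart_square p j i p' hsq V hjV hiV
  have bi := appLE_bijective i V hi hiV
  intro a b hab
  apply bi.1
  apply hinj
  have ha : p'.appTop.hom ((i.appLE V ⊤ hiV).hom a) =
      (j.appLE (p ⁻¹ᵁ V) ⊤ hjV).hom ((p.app V).hom a) := (congr($(sq).hom a)).symm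
  have hb : p'.appTop.hom ((i.appLE V ⊤ hiV).hom b) =
      (j.appLE (p ⁻¹ᵁ V) ⊤ hjV).hom ((p.app V).hom b) := (congr($(sq).hom b)).symm
  rw [ha, hb, hab]

theorem range_app_of_chart (ρ : G →* Aut X) (p : X ⟶ Y) (hinv : ∀ g : G, (ρ g).hom ≫ p = p)
    (j : X' ⟶ X) (i : Y' ⟶ Y) (p' : X' ⟶ Y') [IsOpenImmersion j] [IsOpenImmersion i]
    (hsq : j ≫ p = p' ≫ i) (V : Y.Opens) (hi : i ''ᵁ ⊤ = V) (hj : j ''ᵁ ⊤ = p ⁻¹ᵁ V)
    (r : G → (X' ⟶ X')) (hr : ∀ g, j ≫ (ρ g).hom = r g ≫ j)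
    (hrange : ∀ t' : Γ(X', ⊤), (∀ g, (r g).appTop.hom t' = t') → t' ∈ Set.range p'.appTop.hom)
    (t : Γ(X, p ⁻¹ᵁ V)) (ht : ∀ g : G, act ρ p hinv g V t = t) :
    t ∈ Set.range (p.app V).hom := by
  have hjV : (⊤ : X'.Opens) ≤ j ⁻¹ᵁ (p ⁻¹ᵁ V) := by
    rw [← hj]; exact (Scheme.Hom.preimage_image_eq j ⊤).ge
  have hiV : (⊤ : Y'.Opens) ≤ i ⁻¹ᵁ V := by
    rw [← hi]; exact (Scheme.Hom.preimage_image_eq i ⊤).ge
  have sq := chart_square p j i p' hsq V hjV hiV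
  have bi := appLE_bijective i V hi hiV
  have bj := appLE_bijective j (p ⁻¹ᵁ V) hj hjV
  have hact : ∀ g, (r g).appTop.hom ((j.appLE (p ⁻¹ᵁ V) ⊤ hjV).hom t) =
      (j.appLE (p ⁻¹ᵁ V) ⊤ hjV).hom (act ρ p hinv g V t) := by
    intro g
    have h1 := Scheme.Hom.appLE_comp_appLE j (ρ g).hom (p ⁻¹ᵁ V) (p ⁻¹ᵁ V) ⊤
      (SGA1.preimage_le_of_inv ρ p hinv g V) hjV
    have h2 := Scheme.Hom.appLE_comp_appLE (r g) j (p ⁻¹ᵁ V) ⊤ ⊤ hjV le_top
    rw [← appTop_eq_appLE] at h2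
    have h3 := (h1.trans (appLE_congr _ _ (hr g) _ _ _ _)).trans h2.symm
    exact (congr($(h3).hom t)).symm
  obtain ⟨s', hs'⟩ := hrange ((j.appLE (p ⁻¹ᵁ V) ⊤ hjV).hom t)
    (fun g => by rw [hact g, ht g])
  obtain ⟨s, rfl⟩ := bi.2 s'
  refine ⟨s, bj.1 ?_⟩
  exact (congr($(sq).hom s)).trans hs'

end Chart

section Graded

variable {R A C : Type u} [CommRing R] [CommRing A] [CommRing C] [Algebra R A] [Algebra R C]
  (𝒜 : ℕ → Submodule R A) [GradedAlgebra 𝒜] (𝒞 : ℕ → Submodule R C) [GradedAlgebra 𝒞]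

theorem away_map_compat (g : 𝒞 →+*ᵍ 𝒜) (s : C) :
    (algebraMap (Away 𝒜 (g s)) (Localization.Away (g s))).comp (Away.map g s) =
      (Localization.awayMap g.toRingHom s).comp
        (algebraMap (Away 𝒞 s) (Localization.Away s)) := by
  ext x
  obtain ⟨c, rfl⟩ := HomogeneousLocalization.mk_surjective x
  simp only [RingHom.comp_apply, HomogeneousLocalization.algebraMap_apply]
  rw [HomogeneousLocalization.Away.map, HomogeneousLocalization.map_mk,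
    HomogeneousLocalization.val_mk, HomogeneousLocalization.val_mk]
  simp only [Localization.awayMap, IsLocalization.Away.map, Localization.mk_eq_mk',
    IsLocalization.map_mk']
  rfl

variable {G : Type u} [Group G] [MulSemiringAction G A]
  (hGdeg : ∀ (σ : G) (i : ℕ) (a : A), a ∈ 𝒜 i → σ • a ∈ 𝒜 i)

/-- The action of `σ` as a graded ring endomorphism. -/
def sg (σ : G) : 𝒜 →+*ᵍ 𝒜 where
  toRingHom := MulSemiringAction.toRingHom G A σ
  map_mem := fun {i x} hx => hGdeg σ i x hx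

omit [GradedAlgebra 𝒜] in
@[simp] lemma sg_apply (σ : G) (a : A) : sg 𝒜 hGdeg σ a = σ • a := rfl

omit [GradedAlgebra 𝒜] in
theorem powers_le_comap {f f' : A} (σ : G) (h : σ • f = f') :
    Submonoid.powers f ≤ (Submonoid.powers f').comap (sg 𝒜 hGdeg σ) := by
  rintro _ ⟨k, rfl⟩
  refine ⟨k, ?_⟩
  show f' ^ k = sg 𝒜 hGdeg σ (f ^ k)
  rw [map_pow, sg_apply, h]

/-- The endomorphism of `A_(f)` induced by `σ` when `σ • f = f`. -/
def Θ (f : A) (hfix : ∀ σ : G, σ • f = f) (σ : G) : Away 𝒜 f →+* Away 𝒜 f :=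
  HomogeneousLocalization.map (sg 𝒜 hGdeg σ) (powers_le_comap 𝒜 hGdeg σ (hfix σ))

theorem Θ_mk (f : A) (hfix : ∀ σ : G, σ • f = f) (σ : G) {d : ℕ} (hf : f ∈ 𝒜 d) (k : ℕ) (b : A)
    (hb : b ∈ 𝒜 (k • d)) :
    Θ 𝒜 hGdeg f hfix σ (Away.mk 𝒜 hf k b hb) = Away.mk 𝒜 hf k (σ • b) (hGdeg σ _ _ hb) := by
  rw [HomogeneousLocalization.ext_iff_val]
  show Localization.mk (σ • b) ⟨σ • f ^ k, _⟩ = Localization.mk (σ • b) ⟨f ^ k, _⟩
  refine congrArg (Localization.mk (σ • b)) (Subtype.ext ?_)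
  show σ • f ^ k = f ^ k
  rw [smul_pow', hfix σ]

variable (ι : C →ₐ[R] A) (hι : Function.Injective ι)
  (hιdeg : ∀ (i : ℕ) (a : A), a ∈ (𝒞 i).map ι.toLinearMap ↔ (a ∈ 𝒜 i ∧ ∀ σ : G, σ • a = a))

/-- The inclusion of invariants as a graded ring homomorphism. -/
def ig : 𝒞 →+*ᵍ 𝒜 where
  toRingHom := ι.toRingHom
  map_mem := fun {i x} hx => ((hιdeg i (ι x)).mp (Submodule.mem_map_of_mem hx)).1

omit [GradedAlgebra 𝒜] [GradedAlgebra 𝒞] in
@[simp] lemma ig_apply (c : C) : ig 𝒜 𝒞 ι hιdeg c = ι c := rfl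

omit [GradedAlgebra 𝒜] [GradedAlgebra 𝒞] in
include hιdeg in
theorem smul_ι {i : ℕ} {c : C} (hc : c ∈ 𝒞 i) (σ : G) : σ • ι c = ι c :=
  ((hιdeg i (ι c)).mp (Submodule.mem_map_of_mem hc)).2 σ

include hι in
theorem awayMap_ig_injective {n : ℕ} {c : C} (hc : c ∈ 𝒞 n) :
    Function.Injective (Away.map (ig 𝒜 𝒞 ι hιdeg) c) := by
  rw [injective_iff_map_eq_zero]
  intro x hx
  obtain ⟨k, c', hc', rfl⟩ := Away.mk_surjective 𝒞 hc x
  rw [Away.map_mk, HomogeneousLocalization.ext_iff_val, Away.val_mk, val_zero,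
    Localization.mk_eq_mk', IsLocalization.mk'_eq_zero_iff] at hx
  obtain ⟨⟨_, m, rfl⟩, hm⟩ := hx
  have h0 : c ^ m * c' = 0 := hι (by simpa [map_mul, map_pow] using hm)
  rw [HomogeneousLocalization.ext_iff_val, Away.val_mk, val_zero, Localization.mk_eq_mk',
    IsLocalization.mk'_eq_zero_iff]
  exact ⟨⟨c ^ m, m, rfl⟩, h0⟩

theorem Θ_awayMap_ig {n : ℕ} {c : C} (hc : c ∈ 𝒞 n)
    (hfix : ∀ σ : G, σ • (ig 𝒜 𝒞 ι hιdeg c) = ig 𝒜 𝒞 ι hιdeg c) (σ : G) (x : Away 𝒞 c) :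
    Θ 𝒜 hGdeg _ hfix σ (Away.map (ig 𝒜 𝒞 ι hιdeg) c x) = Away.map (ig 𝒜 𝒞 ι hιdeg) c x := by
  obtain ⟨k, c', hc', rfl⟩ := Away.mk_surjective 𝒞 hc x
  rw [Away.map_mk, Θ_mk]
  congr 1
  exact smul_ι 𝒜 𝒞 ι hιdeg hc' σ

theorem mem_range_awayMap_ig [Finite G] {n : ℕ} {c : C} (hc : c ∈ 𝒞 n)
    (hfix : ∀ σ : G, σ • (ig 𝒜 𝒞 ι hιdeg c) = ig 𝒜 𝒞 ι hιdeg c)
    (a : Away 𝒜 (ig 𝒜 𝒞 ι hιdeg c)) (ha : ∀ σ : G, Θ 𝒜 hGdeg _ hfix σ a = a) :
    a ∈ Set.range (Away.map (ig 𝒜 𝒞 ι hιdeg) c) := by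
  have hf : ig 𝒜 𝒞 ι hιdeg c ∈ 𝒜 n := (ig 𝒜 𝒞 ι hιdeg).map_mem hc
  obtain ⟨k, b, hb, rfl⟩ := Away.mk_surjective 𝒜 hf a
  have h1 : ∀ σ : G, ∃ m : ℕ, (ig 𝒜 𝒞 ι hιdeg c) ^ m * (σ • b) = (ig 𝒜 𝒞 ι hιdeg c) ^ m * b := by
    intro σ
    have := ha σ
    rw [Θ_mk, HomogeneousLocalization.ext_iff_val, Away.val_mk, Away.val_mk,
      Localization.mk_eq_mk_iff, Localization.r_iff_exists] at this
    obtain ⟨⟨_, m, rfl⟩, hm⟩ := this
    refine ⟨m + k, ?_⟩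
    simp only [pow_add, mul_assoc] at hm ⊢
    exact hm
  choose m hm using h1
  cases nonempty_fintype G
  have hM : ∀ σ : G, (ig 𝒜 𝒞 ι hιdeg c) ^ (Finset.univ.sup m) * (σ • b) =
      (ig 𝒜 𝒞 ι hιdeg c) ^ (Finset.univ.sup m) * b := by
    intro σ
    have hle : m σ ≤ Finset.univ.sup m := Finset.le_sup (Finset.mem_univ σ)
    obtain ⟨d, hd⟩ := Nat.exists_eq_add_of_le hle
    rw [hd, pow_add, mul_right_comm, hm σ, mul_right_comm]
  set M := Finset.univ.sup m with hMdef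
  have hb' : (ig 𝒜 𝒞 ι hιdeg c) ^ M * b ∈ 𝒜 ((M + k) • n) := by
    rw [add_smul]; exact SetLike.mul_mem_graded (SetLike.pow_mem_graded M hf) hb
  have hinvb' : ∀ σ : G, σ • ((ig 𝒜 𝒞 ι hιdeg c) ^ M * b) = (ig 𝒜 𝒞 ι hιdeg c) ^ M * b := by
    intro σ; rw [smul_mul', smul_pow', hfix σ, hM σ]
  obtain ⟨c', hc', hcc'⟩ := Submodule.mem_map.mp ((hιdeg _ _).mpr ⟨hb', hinvb'⟩)
  refine ⟨Away.mk 𝒞 hc (M + k) c' hc', ?_⟩
  rw [Away.map_mk, HomogeneousLocalization.ext_iff_val, Away.val_mk, Away.val_mk,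
    Localization.mk_eq_mk_iff, Localization.r_iff_exists]
  refine ⟨1, ?_⟩
  have e : ig 𝒜 𝒞 ι hιdeg c' = (ig 𝒜 𝒞 ι hιdeg c) ^ M * b := hcc'
  simp only [OneMemClass.coe_one, one_mul, e]
  ring

theorem awayMap_ig_isLocalizationElem {n n' : ℕ} {c c' : C} (hc : c ∈ 𝒞 n) (hc' : c' ∈ 𝒞 n') :
    Away.map (ig 𝒜 𝒞 ι hιdeg) c' (Away.isLocalizationElem hc' hc) =
      Away.isLocalizationElem ((ig 𝒜 𝒞 ι hιdeg).map_mem hc') ((ig 𝒜 𝒞 ι hιdeg).map_mem hc) := by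
  rw [Away.isLocalizationElem, Away.map_mk, HomogeneousLocalization.ext_iff_val, Away.val_mk,
    Away.val_mk]
  simp only [map_pow]
  rfl

include hGdeg hιdeg in
theorem exists_pos_not_mem [Finite G] (x : Proj 𝒜) :
    ∃ (n : ℕ) (c : C), 0 < n ∧ c ∈ 𝒞 n ∧ ι c ∉ x.asHomogeneousIdeal := by
  classical
  by_contra H
  push_neg at H
  have key : ∀ (i : ℕ), 0 < i → ∀ f ∈ 𝒜 i, f ∈ x.asHomogeneousIdeal.toIdeal := by
    intro i hi f hf
    cases nonempty_fintype G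
    have hmonic : (MulSemiringAction.charpoly G f).Monic := MulSemiringAction.monic_charpoly G f
    have heval : (MulSemiringAction.charpoly G f).eval f = 0 :=
      MulSemiringAction.eval_charpoly G f
    generalize hN : (MulSemiringAction.charpoly G f).natDegree = N at *
    rw [Polynomial.eval_eq_sum_range, hN] at heval
    have hproj := congrArg (GradedRing.proj 𝒜 (N • i)) heval
    rw [map_sum, map_zero, Finset.sum_range_succ] at hproj
    have hterm : ∀ m, m ≤ N →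
        GradedRing.proj 𝒜 (N • i) ((MulSemiringAction.charpoly G f).coeff m * f ^ m) =
        GradedRing.proj 𝒜 ((N - m) • i) ((MulSemiringAction.charpoly G f).coeff m) * f ^ m := by
      intro m hm
      have e : N • i = (N - m) • i + m • i := by rw [← add_smul, Nat.sub_add_cancel hm]
      rw [GradedRing.proj_apply, GradedRing.proj_apply, e,
        DirectSum.coe_decompose_mul_add_of_right_mem 𝒜 (SetLike.pow_mem_graded m hf)]
    have hlast : GradedRing.proj 𝒜 (N • i) ((MulSemiringAction.charpoly G f).coeff N * f ^ N) =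
        f ^ N := by
      rw [hterm N le_rfl, Nat.sub_self, zero_smul, ← hN, hmonic.coeff_natDegree,
        GradedRing.proj_apply, DirectSum.decompose_of_mem_same 𝒜 (SetLike.one_mem_graded 𝒜),
        one_mul]
    have hsum : ∑ m ∈ Finset.range N,
        GradedRing.proj 𝒜 (N • i) ((MulSemiringAction.charpoly G f).coeff m * f ^ m) ∈
          x.asHomogeneousIdeal.toIdeal := by
      refine Ideal.sum_mem _ fun m hm => ?_
      have hmN : m < N := Finset.mem_range.mp hm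
      rw [hterm m hmN.le]
      refine Ideal.mul_mem_right _ _ ?_
      have ha1 : GradedRing.proj 𝒜 ((N - m) • i) ((MulSemiringAction.charpoly G f).coeff m) ∈
          𝒜 ((N - m) • i) := by
        rw [GradedRing.proj_apply]; exact SetLike.coe_mem _
      have ha2 : ∀ σ : G,
          σ • GradedRing.proj 𝒜 ((N - m) • i) ((MulSemiringAction.charpoly G f).coeff m) =
            GradedRing.proj 𝒜 ((N - m) • i) ((MulSemiringAction.charpoly G f).coeff m) := by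
        intro σ
        have := (sg 𝒜 hGdeg σ).map_directSumDecompose
          (x := (MulSemiringAction.charpoly G f).coeff m) (i := (N - m) • i)
        rw [sg_apply, sg_apply, MulSemiringAction.smul_coeff_charpoly] at this
        rw [GradedRing.proj_apply]
        exact this
      obtain ⟨c, hc, hca⟩ := Submodule.mem_map.mp ((hιdeg _ _).mpr ⟨ha1, ha2⟩)
      have hpos : 0 < (N - m) • i := Nat.mul_pos (Nat.sub_pos_of_lt hmN) hi
      have := H _ c hpos hc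
      rw [← hca]
      exact this
    have hfN : f ^ N ∈ x.asHomogeneousIdeal.toIdeal := by
      rw [hlast] at hproj
      have : f ^ N = -(∑ m ∈ Finset.range N,
          GradedRing.proj 𝒜 (N • i) ((MulSemiringAction.charpoly G f).coeff m * f ^ m)) :=
        eq_neg_of_add_eq_zero_right hproj
      rw [this]
      exact neg_mem hsum
    exact x.isPrime.mem_of_pow_mem N hfN
  apply x.not_irrelevant_le
  intro a ha
  rw [← DirectSum.sum_support_decompose 𝒜 a]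
  refine Ideal.sum_mem _ fun i _ => ?_
  rcases Nat.eq_zero_or_pos i with rfl | hi
  · have h0 : (DirectSum.decompose 𝒜 a 0 : A) = 0 :=
      (HomogeneousIdeal.mem_irrelevant_iff 𝒜 a).mp ha
    rw [h0]
    exact zero_mem _
  · exact key i hi _ (SetLike.coe_mem _)

end Graded

end Groth.Agent.H68.ProjQuot
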