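import Mathlib

/-!
# helper68: finite étale algebras split by a "radicial-over-`p`" cover `R[t]/(t^p - f)` are split

* `algHom_eq_of_sub_mem`: rigidity of maps out of an unramified algebra into a ring with trivial
  idempotents.
* `exists_indicator`, `pi_surjective`: distinct retractions of an unramified algebra over a domain
  are "orthogonal".
* `mem_range_of_tmul_eq`: descent for `AdjoinRoot g` (`s ⊗ 1 = 1 ⊗ s → s ∈ R`).
* `idem_trivial`: `S ⊗[R] S` has only trivial idempotents for `S = R[t]/(t^p - f)`, when `p` lies in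
  a prime of the Noetherian domain `R`.
* `split_of_maps`: main result.
-/

set_option autoImplicit false
universe u
open scoped TensorProduct
open Polynomial

namespace Groth.Agent.H68.PthRoot

section Rigidity

variable {R B W : Type*} [CommRing R] [CommRing B] [Algebra R B] [CommRing W] [Algebra R W]
  [Algebra.FormallyUnramified R B] [Algebra.EssFiniteType R B]

/-- Rigidity: two maps from an unramified algebra into a ring with only trivial idempotents which
agree modulo a proper ideal are equal. -/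
theorem algHom_eq_of_sub_mem (hW : ∀ e : W, IsIdempotentElem e → e = 0 ∨ e = 1)
    (χ₁ χ₂ : B →ₐ[R] W) (J : Ideal W) (hJ : J ≠ ⊤) (h : ∀ b, χ₁ b - χ₂ b ∈ J) : χ₁ = χ₂ := by
  let m : B ⊗[R] B →ₐ[R] W := Algebra.TensorProduct.lift χ₁ χ₂ (fun _ _ => Commute.all _ _)
  obtain ⟨ε, hε⟩ : ∃ ε, ε = m (Algebra.FormallyUnramified.elem R B) := ⟨_, rfl⟩
  have hm : ∀ a b, m (a ⊗ₜ[R] b) = χ₁ a * χ₂ b := fun a b =>
    Algebra.TensorProduct.lift_tmul _ _ _ a b
  have h1 : ∀ b, (χ₂ b - χ₁ b) * ε = 0 := by
    intro b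
    have := congrArg m
      (Algebra.FormallyUnramified.one_tmul_sub_tmul_one_mul_elem (R := R) (S := B) b)
    simp only [map_mul, map_sub, hm, map_zero, map_one, one_mul, mul_one] at this
    rw [← hε] at this
    exact this
  have h2 : ∀ x : B ⊗[R] B, m x * ε = χ₁ (Algebra.TensorProduct.lmul' R x) * ε := by
    intro x
    induction x using TensorProduct.induction_on with
    | zero => simp
    | tmul a b =>
      rw [hm, Algebra.TensorProduct.lmul'_apply_tmul, map_mul]
      have := h1 b
      linear_combination (χ₁ a) * this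
    | add x y hx hy => simp only [map_add, add_mul, hx, hy]
  have h3 : ∀ x : B ⊗[R] B, m x - χ₁ (Algebra.TensorProduct.lmul' R x) ∈ J := by
    intro x
    induction x using TensorProduct.induction_on with
    | zero => simp
    | tmul a b =>
      rw [hm, Algebra.TensorProduct.lmul'_apply_tmul, map_mul]
      have : χ₁ a * χ₂ b - χ₁ a * χ₁ b = -(χ₁ a * (χ₁ b - χ₂ b)) := by ring
      rw [this]
      exact J.neg_mem (J.mul_mem_left _ (h b))
    | add x y hx hy =>
      have : m (x + y) - χ₁ (Algebra.TensorProduct.lmul' R (x + y)) =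
          (m x - χ₁ (Algebra.TensorProduct.lmul' R x)) +
            (m y - χ₁ (Algebra.TensorProduct.lmul' R y)) := by
        simp only [map_add]; ring
      rw [this]
      exact J.add_mem hx hy
  have hidem : IsIdempotentElem ε := by
    have := h2 (Algebra.FormallyUnramified.elem R B)
    rw [Algebra.FormallyUnramified.lmul_elem, map_one, one_mul, ← hε] at this
    exact this
  have hε1 : ε - 1 ∈ J := by
    have := h3 (Algebra.FormallyUnramified.elem R B)
    rwa [Algebra.FormallyUnramified.lmul_elem, map_one, ← hε] at this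
  rcases hW ε hidem with h0 | h1'
  · exfalso
    apply hJ
    rw [Ideal.eq_top_iff_one]
    have : (1 : W) = -(ε - 1) := by rw [h0]; ring
    rw [this]
    exact J.neg_mem hε1
  · apply AlgHom.ext
    intro b
    have := h1 b
    rw [h1', mul_one] at this
    exact (sub_eq_zero.mp this).symm

/-- For a retraction `χ` of an unramified algebra over a domain there is an element `e` with
`χ e = 1` which is killed by every other retraction. -/
theorem exists_indicator [IsDomain R] (χ : B →ₐ[R] R) :
    ∃ e : B, χ e = 1 ∧ ∀ χ' : B →ₐ[R] R, χ' ≠ χ → χ' e = 0 := by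
  let m : B ⊗[R] B →ₐ[R] B :=
    Algebra.TensorProduct.lift ((Algebra.ofId R B).comp χ) (AlgHom.id R B)
      (fun _ _ => Commute.all _ _)
  have hm : ∀ a b, m (a ⊗ₜ[R] b) = algebraMap R B (χ a) * b := fun a b =>
    Algebra.TensorProduct.lift_tmul _ _ _ a b
  refine ⟨m (Algebra.FormallyUnramified.elem R B), ?_, ?_⟩
  · have key : ∀ x, χ (m x) = χ (Algebra.TensorProduct.lmul' R x) := by
      intro x
      induction x using TensorProduct.induction_on with
      | zero => simp
      | tmul a b =>
        rw [hm, Algebra.TensorProduct.lmul'_apply_tmul, map_mul, map_mul, AlgHom.commutes]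
        rfl
      | add x y hx hy => simp only [map_add, hx, hy]
    rw [key, Algebra.FormallyUnramified.lmul_elem, map_one]
  · intro χ' hne
    by_contra h0
    apply hne
    have h1 : ∀ b, (b - algebraMap R B (χ b)) * m (Algebra.FormallyUnramified.elem R B) = 0 := by
      intro b
      have := congrArg m
        (Algebra.FormallyUnramified.one_tmul_sub_tmul_one_mul_elem (R := R) (S := B) b)
      simp only [map_mul, map_sub, hm, map_zero, map_one, one_mul, mul_one] at this
      exact this
    apply AlgHom.ext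
    intro b
    have := congrArg χ' (h1 b)
    rw [map_mul, map_sub, AlgHom.commutes, map_zero] at this
    rcases mul_eq_zero.mp this with h | h
    · exact sub_eq_zero.mp h
    · exact absurd h h0

/-- Pairwise distinct retractions of an unramified algebra over a domain are jointly surjective. -/
theorem pi_surjective [IsDomain R] {κ : Type*} [Finite κ] (χ : κ → (B →ₐ[R] R))
    (hinj : Function.Injective χ) :
    Function.Surjective (fun b : B => fun k => χ k b) := by
  classical
  cases nonempty_fintype κ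
  choose e he1 he0 using fun k => exists_indicator (χ k)
  intro r
  refine ⟨∑ k, algebraMap R B (r k) * e k, ?_⟩
  funext j
  simp only [map_sum, map_mul, AlgHom.commutes]
  rw [Finset.sum_eq_single j]
  · rw [he1]; simp
  · intro k _ hkj
    rw [he0 k (χ j) (fun h => hkj (hinj h).symm)]
    simp
  · intro hj
    exact absurd (Finset.mem_univ j) hj

end Rigidity

section Descent

variable {R : Type*} [CommRing R] {g : R[X]}

/-- The coordinate functional of `AdjoinRoot g` (`g` monic of positive degree) at `1`. -/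
theorem exists_coord (hg : g.Monic) (hdeg : g.natDegree ≠ 0) :
    ∃ φ : AdjoinRoot g →ₗ[R] R, φ 1 = 1 := by
  let pb := AdjoinRoot.powerBasis' hg
  have hdim : 0 < pb.dim := by
    rw [AdjoinRoot.powerBasis'_dim]; omega
  let i0 : Fin pb.dim := ⟨0, hdim⟩
  have hb0 : pb.basis i0 = 1 := by
    rw [pb.basis_eq_pow]; simp [i0]
  refine ⟨pb.basis.coord i0, ?_⟩
  rw [← hb0, Module.Basis.coord_apply, Module.Basis.repr_self, Finsupp.single_eq_same]

/-- Descent: if `s ⊗ 1 = 1 ⊗ s` in `S ⊗[R] S`, `S = AdjoinRoot g`, then `s` comes from `R`. -/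
theorem mem_range_of_tmul_eq (hg : g.Monic) (hdeg : g.natDegree ≠ 0)
    (s : AdjoinRoot g) (h : s ⊗ₜ[R] (1 : AdjoinRoot g) = (1 : AdjoinRoot g) ⊗ₜ[R] s) :
    s ∈ Set.range (algebraMap R (AdjoinRoot g)) := by
  obtain ⟨φ, hφ1⟩ := exists_coord hg hdeg
  let L : AdjoinRoot g ⊗[R] AdjoinRoot g →ₗ[R] AdjoinRoot g :=
    (TensorProduct.lid R (AdjoinRoot g)).toLinearMap ∘ₗ (φ.rTensor (AdjoinRoot g))
  have := congrArg L h
  simp only [L, LinearMap.comp_apply, LinearMap.rTensor_tmul, LinearEquiv.coe_coe,
    TensorProduct.lid_tmul, hφ1, one_smul] at this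
  exact ⟨φ s, by rw [Algebra.algebraMap_eq_smul_one]; exact this⟩

end Descent

section Krull

variable {R W : Type*} [CommRing R] [IsDomain R] [IsNoetherianRing R] [CommRing W] [Algebra R W]
  [Module.Free R W]

theorem map_mem_of_mem_map (q : Ideal R) (ψ : W →ₗ[R] R) {x : W}
    (hx : x ∈ q.map (algebraMap R W)) : ψ x ∈ q := by
  have hx' : x ∈ q • (⊤ : Submodule R W) := by
    rw [Ideal.smul_top_eq_map]; exact hx
  refine Submodule.smul_induction_on hx' ?_ ?_
  · intro r hr n _
    rw [map_smul, smul_eq_mul]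
    exact q.mul_mem_right _ hr
  · intro x y hx hy
    rw [map_add]; exact q.add_mem hx hy

/-- An idempotent of a free algebra over a Noetherian domain lying in `qW` (`q` proper) is zero. -/
theorem eq_zero_of_idem_mem (q : Ideal R) (hq : q ≠ ⊤) (ε : W) (hε : IsIdempotentElem ε)
    (hmem : ε ∈ q.map (algebraMap R W)) : ε = 0 := by
  let b := Module.Free.chooseBasis R W
  have hpow : ∀ n : ℕ, ε ∈ (q ^ n).map (algebraMap R W) := by
    intro n
    rcases Nat.eq_zero_or_pos n with rfl | hn
    · rw [pow_zero, Ideal.one_eq_top, Ideal.map_top]; trivial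
    · rw [Ideal.map_pow, ← hε.pow_eq hn.ne']
      exact Ideal.pow_mem_pow hmem n
  apply b.ext_elem
  intro i
  rw [map_zero, Finsupp.zero_apply]
  have hmem' : b.coord i ε ∈ ⨅ n, q ^ n := by
    rw [Ideal.mem_iInf]
    intro n
    exact map_mem_of_mem_map (q ^ n) (b.coord i) (hpow n)
  rw [Ideal.iInf_pow_eq_bot_of_isDomain q hq] at hmem'
  exact hmem'

end Krull

section Connected

variable {R : Type u} [CommRing R] [IsDomain R] [IsNoetherianRing R] (p : ℕ) [hp : Fact p.Prime]
  (q : Ideal R) [hq : q.IsPrime] (hpq : (p : R) ∈ q) (f : R)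

local notation "S" => AdjoinRoot (X ^ p - C f : R[X])

/-- The predicate "`x ^ p` lies in `R` modulo `q`". -/
def FrobP (x : S ⊗[R] S) : Prop :=
  ∃ r : R, x ^ p - algebraMap R (S ⊗[R] S) r ∈ q.map (algebraMap R (S ⊗[R] S))

variable {p q f}

theorem frobP_algebraMap (r : R) : FrobP p q f (algebraMap R (S ⊗[R] S) r) :=
  ⟨r ^ p, by rw [map_pow, sub_self]; exact Ideal.zero_mem _⟩

theorem frobP_mul {x y : S ⊗[R] S} (hx : FrobP p q f x) (hy : FrobP p q f y) :
    FrobP p q f (x * y) := by
  obtain ⟨r, hr⟩ := hx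
  obtain ⟨r', hr'⟩ := hy
  refine ⟨r * r', ?_⟩
  have : (x * y) ^ p - algebraMap R (S ⊗[R] S) (r * r') =
      (x ^ p - algebraMap R (S ⊗[R] S) r) * y ^ p +
        algebraMap R (S ⊗[R] S) r * (y ^ p - algebraMap R (S ⊗[R] S) r') := by
    rw [map_mul]; ring
  rw [this]
  exact Ideal.add_mem _ (Ideal.mul_mem_right _ _ hr) (Ideal.mul_mem_left _ _ hr')

include hpq in
theorem frobP_add {x y : S ⊗[R] S} (hx : FrobP p q f x) (hy : FrobP p q f y) :
    FrobP p q f (x + y) := by
  obtain ⟨r, hr⟩ := hx
  obtain ⟨r', hr'⟩ := hy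
  obtain ⟨c, hc⟩ := exists_add_pow_prime_eq hp.out x y
  refine ⟨r + r', ?_⟩
  have hpmem : ((p : ℕ) : S ⊗[R] S) ∈ q.map (algebraMap R (S ⊗[R] S)) := by
    have := Ideal.mem_map_of_mem (algebraMap R (S ⊗[R] S)) hpq
    rwa [map_natCast] at this
  have : (x + y) ^ p - algebraMap R (S ⊗[R] S) (r + r') =
      (x ^ p - algebraMap R (S ⊗[R] S) r) + (y ^ p - algebraMap R (S ⊗[R] S) r') +
        ((p : ℕ) : S ⊗[R] S) * (x * y * c) := by
    rw [hc, map_add]; ring
  rw [this]
  exact Ideal.add_mem _ (Ideal.add_mem _ hr hr') (Ideal.mul_mem_right _ _ hpmem)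

theorem root_pow_eq : (AdjoinRoot.root (X ^ p - C f : R[X])) ^ p = AdjoinRoot.of _ f := by
  have := AdjoinRoot.eval₂_root (X ^ p - C f : R[X])
  rw [eval₂_sub, eval₂_pow, eval₂_X, eval₂_C, sub_eq_zero] at this
  exact this

include hpq in
theorem frobP_left (a : S) : FrobP p q f (a ⊗ₜ[R] (1 : S)) := by
  induction a using AdjoinRoot.induction_on with
  | ih P =>
    induction P using Polynomial.induction_on with
    | C r =>
      have : (AdjoinRoot.mk (X ^ p - C f : R[X]) (C r)) ⊗ₜ[R] (1 : S) =
          algebraMap R (S ⊗[R] S) r := by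
        rw [Algebra.TensorProduct.algebraMap_apply, AdjoinRoot.mk_C, AdjoinRoot.algebraMap_eq]
      rw [this]
      exact frobP_algebraMap r
    | add P Q hP hQ =>
      rw [map_add, TensorProduct.add_tmul]
      exact frobP_add hpq hP hQ
    | monomial n r h =>
      have : (AdjoinRoot.mk (X ^ p - C f : R[X]) (C r * X ^ (n + 1))) ⊗ₜ[R] (1 : S) =
          ((AdjoinRoot.mk (X ^ p - C f : R[X]) (C r * X ^ n)) ⊗ₜ[R] (1 : S)) *
            ((AdjoinRoot.root (X ^ p - C f : R[X])) ⊗ₜ[R] (1 : S)) := by
        rw [Algebra.TensorProduct.tmul_mul_tmul, mul_one, pow_succ, ← mul_assoc, map_mul,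
          AdjoinRoot.mk_X]
      rw [this]
      refine frobP_mul h ⟨f, ?_⟩
      rw [Algebra.TensorProduct.tmul_pow, one_pow, root_pow_eq,
        Algebra.TensorProduct.algebraMap_apply, AdjoinRoot.algebraMap_eq, sub_self]
      exact Ideal.zero_mem _

include hpq in
theorem frobP_right (a : S) : FrobP p q f ((1 : S) ⊗ₜ[R] a) := by
  induction a using AdjoinRoot.induction_on with
  | ih P =>
    induction P using Polynomial.induction_on with
    | C r =>
      have : (1 : S) ⊗ₜ[R] (AdjoinRoot.mk (X ^ p - C f : R[X]) (C r)) =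
          algebraMap R (S ⊗[R] S) r := by
        rw [Algebra.TensorProduct.algebraMap_apply, AdjoinRoot.mk_C, AdjoinRoot.algebraMap_eq,
          ← AdjoinRoot.algebraMap_eq, Algebra.algebraMap_eq_smul_one, TensorProduct.smul_tmul]
      rw [this]
      exact frobP_algebraMap r
    | add P Q hP hQ =>
      rw [map_add, TensorProduct.tmul_add]
      exact frobP_add hpq hP hQ
    | monomial n r h =>
      have : (1 : S) ⊗ₜ[R] (AdjoinRoot.mk (X ^ p - C f : R[X]) (C r * X ^ (n + 1))) =
          ((1 : S) ⊗ₜ[R] (AdjoinRoot.mk (X ^ p - C f : R[X]) (C r * X ^ n))) *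
            ((1 : S) ⊗ₜ[R] (AdjoinRoot.root (X ^ p - C f : R[X]))) := by
        rw [Algebra.TensorProduct.tmul_mul_tmul, mul_one, pow_succ, ← mul_assoc, map_mul,
          AdjoinRoot.mk_X]
      rw [this]
      refine frobP_mul h ⟨f, ?_⟩
      rw [Algebra.TensorProduct.tmul_pow, one_pow, root_pow_eq]
      have : (1 : S) ⊗ₜ[R] (AdjoinRoot.of (X ^ p - C f : R[X]) f) =
          algebraMap R (S ⊗[R] S) f := by
        rw [Algebra.TensorProduct.algebraMap_apply, ← AdjoinRoot.algebraMap_eq,
          Algebra.algebraMap_eq_smul_one, TensorProduct.smul_tmul]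
      rw [this, sub_self]
      exact Ideal.zero_mem _

include hpq in
theorem frobP_all (x : S ⊗[R] S) : FrobP p q f x := by
  induction x using TensorProduct.induction_on with
  | zero =>
    have := frobP_algebraMap (p := p) (q := q) (f := f) (0 : R)
    rwa [map_zero] at this
  | tmul a b =>
    have : a ⊗ₜ[R] b = (a ⊗ₜ[R] (1 : S)) * ((1 : S) ⊗ₜ[R] b) := by
      rw [Algebra.TensorProduct.tmul_mul_tmul, mul_one, one_mul]
    rw [this]
    exact frobP_mul (frobP_left hpq a) (frobP_right hpq b)
  | add x y hx hy => exact frobP_add hpq hx hy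

theorem monic_g : (X ^ p - C f : R[X]).Monic := monic_X_pow_sub_C f hp.out.ne_zero

theorem natDegree_g : (X ^ p - C f : R[X]).natDegree ≠ 0 := by
  rw [natDegree_X_pow_sub_C]; exact hp.out.ne_zero

instance : Module.Free R S := Module.Free.of_basis (AdjoinRoot.powerBasis' (monic_g (p := p) (f := f))).basis

instance : Module.Finite R S := (monic_g (p := p) (f := f)).finite_adjoinRoot

include hpq in
/-- `S ⊗[R] S` has only trivial idempotents. -/
theorem idem_trivial (ε : S ⊗[R] S) (hε : IsIdempotentElem ε) : ε = 0 ∨ ε = 1 := by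
  have hqtop : q ≠ ⊤ := hq.ne_top
  obtain ⟨φ, hφ1⟩ := exists_coord (monic_g (p := p) (f := f)) natDegree_g
  -- a functional on `S ⊗ S` with value `1` at `1`
  let Φ : S ⊗[R] S →ₗ[R] R :=
    (TensorProduct.lid R R).toLinearMap ∘ₗ (TensorProduct.map φ φ)
  have hΦ1 : Φ 1 = 1 := by
    simp [Φ, Algebra.TensorProduct.one_def, hφ1]
  have hcontr : ∀ r : R, algebraMap R (S ⊗[R] S) r ∈ q.map (algebraMap R (S ⊗[R] S)) → r ∈ q := by
    intro r hr
    have := map_mem_of_mem_map q Φ hr
    rwa [Algebra.algebraMap_eq_smul_one, map_smul, hΦ1, smul_eq_mul, mul_one] at this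
  obtain ⟨r, hr⟩ := frobP_all hpq ε
  rw [hε.pow_eq hp.out.ne_zero] at hr
  -- `r ^ 2 - r ∈ q`
  have hr2 : r * r - r ∈ q := by
    apply hcontr
    have : algebraMap R (S ⊗[R] S) (r * r - r) =
        (ε - algebraMap R (S ⊗[R] S) r) * ((ε - algebraMap R (S ⊗[R] S) r) - 2 * ε + 1) +
          (ε * ε - ε) := by
      rw [map_sub, map_mul]; ring
    rw [this, hε.eq, sub_self, add_zero]
    exact Ideal.mul_mem_right _ _ hr
  have hr2' : r * (r - 1) ∈ q := by
    have : r * (r - 1) = r * r - r := by ring
    rw [this]; exact hr2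
  rcases hq.mem_or_mem hr2' with h | h
  · left
    apply eq_zero_of_idem_mem q hqtop ε hε
    have : ε = (ε - algebraMap R (S ⊗[R] S) r) + algebraMap R (S ⊗[R] S) r := by ring
    rw [this]
    exact Ideal.add_mem _ hr (Ideal.mem_map_of_mem _ h)
  · right
    have h1 : IsIdempotentElem (1 - ε) := hε.one_sub
    have : 1 - ε = 0 := by
      apply eq_zero_of_idem_mem q hqtop (1 - ε) h1
      have : 1 - ε = -(ε - algebraMap R (S ⊗[R] S) r) - algebraMap R (S ⊗[R] S) (r - 1) := by
        rw [map_sub, map_one]; ring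
      rw [this]
      exact Ideal.sub_mem _ (Submodule.neg_mem _ hr) (Ideal.mem_map_of_mem _ h)
    exact (sub_eq_zero.mp this).symm

end Connected

section Main

variable {R : Type u} [CommRing R] [IsDomain R] [IsNoetherianRing R] (p : ℕ) [hp : Fact p.Prime]
  (q : Ideal R) [hq : q.IsPrime] (hpq : (p : R) ∈ q) (f : R)
  (B : Type u) [CommRing B] [Algebra R B] [Algebra.FormallyUnramified R B]
  [Algebra.EssFiniteType R B]

include hpq in
/-- Every `R`-algebra map from an unramified `R`-algebra to `R[t]/(t^p - f)` has image in `R`. -/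
theorem range_subset (χ : B →ₐ[R] AdjoinRoot (X ^ p - C f : R[X])) (b : B) :
    χ b ∈ Set.range (algebraMap R (AdjoinRoot (X ^ p - C f : R[X]))) := by
  apply mem_range_of_tmul_eq (monic_g (p := p) (f := f)) natDegree_g
  have hne : Nontrivial (AdjoinRoot (X ^ p - C f : R[X])) :=
    AdjoinRoot.nontrivial _ (by
      rw [degree_X_pow_sub_C hp.out.pos]; exact_mod_cast hp.out.ne_zero)
  have := algHom_eq_of_sub_mem (R := R) (B := B) (idem_trivial (p := p) (q := q) hpq (f := f))
    ((Algebra.TensorProduct.includeLeft : AdjoinRoot (X ^ p - C f : R[X]) →ₐ[R] _).comp χ)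
    ((Algebra.TensorProduct.includeRight : AdjoinRoot (X ^ p - C f : R[X]) →ₐ[R] _).comp χ)
    (RingHom.ker (Algebra.TensorProduct.lmul' R (S := AdjoinRoot (X ^ p - C f : R[X]))))
    (RingHom.ker_ne_top _) (by
      intro b
      rw [RingHom.mem_ker, map_sub]
      simp)
  have h2 := DFunLike.congr_fun this b
  simpa using h2

include hpq in
/-- **Main result.** A finite family of jointly injective maps from an unramified `R`-algebra `B`
to `R[t]/(t^p - f)` forces `B` to be split. -/
theorem split_of_maps {ι : Type*} [Finite ι]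
    (χ : ι → (B →ₐ[R] AdjoinRoot (X ^ p - C f : R[X])))
    (hinj : ∀ b : B, (∀ i, χ i b = 0) → b = 0) :
    ∃ (κ : Type u) (_ : Finite κ), Nonempty (B ≃ₐ[R] (κ → R)) := by
  classical
  have hSinj : Function.Injective (algebraMap R (AdjoinRoot (X ^ p - C f : R[X]))) := by
    rw [AdjoinRoot.algebraMap_eq]
    apply AdjoinRoot.of.injective_of_degree_ne_zero
    rw [degree_X_pow_sub_C hp.out.pos]
    exact_mod_cast hp.out.ne_zero
  have hrange := fun i b => range_subset p q hpq f B (χ i) b
  choose c hc using hrange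
  -- the retractions
  let χ' : ι → (B →ₐ[R] R) := fun i =>
    { toFun := c i
      map_one' := hSinj (by rw [hc, map_one, map_one])
      map_mul' := fun x y => hSinj (by rw [hc, map_mul, map_mul, hc, hc])
      map_zero' := hSinj (by rw [hc, map_zero, map_zero])
      map_add' := fun x y => hSinj (by rw [hc, map_add, map_add, hc, hc])
      commutes' := fun r => hSinj (by rw [hc, AlgHom.commutes]; rfl) }
  have hχ' : ∀ i b, algebraMap R _ (χ' i b) = χ i b := fun i b => hc i b
  let κ : Type u := {d : B →ₐ[R] R // d ∈ Set.range χ'}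
  haveI : Finite κ := (Set.finite_range χ').to_subtype
  let Φ : B →ₐ[R] (κ → R) := AlgHom.pi (fun k : κ => k.1)
  have hΦinj : Function.Injective Φ := by
    rw [injective_iff_map_eq_zero]
    intro b hb
    apply hinj b
    intro i
    have := congrFun hb ⟨χ' i, i, rfl⟩
    rw [← hχ']
    have h0 : χ' i b = 0 := this
    rw [h0, map_zero]
  have hΦsurj : Function.Surjective Φ :=
    pi_surjective (fun k : κ => k.1) Subtype.val_injective
  exact ⟨κ, inferInstance, ⟨AlgEquiv.ofBijective Φ ⟨hΦinj, hΦsurj⟩⟩⟩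

end Main

end Groth.Agent.H68.PthRoot
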