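import Mathlib

/-!
# (AG) for helper79 / S2907: gluing the local quotients along a locally directed family of opens
-/

set_option autoImplicit false
universe u
open CategoryTheory CategoryTheory.Limits AlgebraicGeometry

namespace Groth.Agent.H68.QuotGlue_AG

section Cover

variable {X : Scheme.{u}} (ℬ : Set X.Opens) (hcov : ∀ x : X, ∃ V ∈ ℬ, x ∈ V)

/-- the open cover of `X` by the members of `ℬ` -/
noncomputable def cov : X.OpenCover where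
  I₀ := ↥ℬ
  X V := V.1
  f V := V.1.ι
  mem₀ := by
    rw [Scheme.presieve₀_mem_precoverage_iff]
    refine ⟨fun x => ?_, inferInstance⟩
    obtain ⟨V, hV, hx⟩ := hcov x
    exact ⟨⟨V, hV⟩, ⟨x, hx⟩, rfl⟩

instance : Preorder (cov ℬ hcov).I₀ := inferInstanceAs <| Preorder ↥ℬ

variable (hdir : ∀ V ∈ ℬ, ∀ V' ∈ ℬ, ∀ x : X, x ∈ V → x ∈ V' →
  ∃ V'' ∈ ℬ, x ∈ V'' ∧ V'' ≤ V ∧ V'' ≤ V')

set_option backward.isDefEq.respectTransparency.types false in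
include hdir in
/-- the cover is locally directed -/
@[instance_reducible]
noncomputable def covLD : (cov ℬ hcov).LocallyDirected where
  trans {i j} hij := X.homOfLE (show i.1 ≤ j.1 from leOfHom hij)
  trans_id i := X.homOfLE_rfl _
  trans_comp hij hjk := (X.homOfLE_homOfLE _ _).symm
  w hij := X.homOfLE_ι _
  directed {i j} x := by
    set xX : X := (pullback.fst ((cov ℬ hcov).f i) ((cov ℬ hcov).f j) ≫ (cov ℬ hcov).f i) x
      with hxX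
    have hxi : xX ∈ i.1 := by
      rw [hxX, Scheme.Hom.comp_apply]
      exact (pullback.fst ((cov ℬ hcov).f i) ((cov ℬ hcov).f j) x).2
    have hxj : xX ∈ j.1 := by
      rw [hxX, pullback.condition, Scheme.Hom.comp_apply]
      exact (pullback.snd ((cov ℬ hcov).f i) ((cov ℬ hcov).f j) x).2
    obtain ⟨k, hk, hxk, hki, hkj⟩ := hdir i.1 i.2 j.1 j.2 xX hxi hxj
    refine ⟨⟨k, hk⟩, homOfLE hki, homOfLE hkj, ⟨xX, hxk⟩, ?_⟩
    apply (pullback.fst ((cov ℬ hcov).f i) ((cov ℬ hcov).f j) ≫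
      (cov ℬ hcov).f i).isOpenEmbedding.injective
    rw [← Scheme.Hom.comp_apply, pullback.lift_fst_assoc]
    show (X.homOfLE hki ≫ i.1.ι) ⟨xX, hxk⟩ = xX
    rw [X.homOfLE_ι]
    rfl
  property_trans hij := by
    show IsOpenImmersion (X.homOfLE _)
    infer_instance

end Cover

theorem exists_glued {X : Scheme.{u}} (ℬ : Set X.Opens) (hcov : ∀ x : X, ∃ V ∈ ℬ, x ∈ V)
    (hdir : ∀ V ∈ ℬ, ∀ V' ∈ ℬ, ∀ x : X, x ∈ V → x ∈ V' →
      ∃ V'' ∈ ℬ, x ∈ V'' ∧ V'' ≤ V ∧ V'' ≤ V')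
    (Y : ℬ → Scheme.{u}) (q : ∀ V : ℬ, V.1.toScheme ⟶ Y V)
    (hsurj : ∀ V : ℬ, Function.Surjective (q V).base)
    (m : ∀ (V V' : ℬ), V.1 ≤ V'.1 → (Y V ⟶ Y V'))
    (hm_open : ∀ (V V' : ℬ) (h : V.1 ≤ V'.1), IsOpenImmersion (m V V' h))
    (hm_id : ∀ V : ℬ, m V V le_rfl = 𝟙 _)
    (hm_comp : ∀ (V V' V'' : ℬ) (h : V.1 ≤ V'.1) (h' : V'.1 ≤ V''.1),
      m V V' h ≫ m V' V'' h' = m V V'' (h.trans h'))
    (hqm : ∀ (V V' : ℬ) (h : V.1 ≤ V'.1), q V ≫ m V V' h = X.homOfLE h ≫ q V')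
    (hsat : ∀ (V V' : ℬ) (h : V.1 ≤ V'.1) (x : V'.1.toScheme),
      (q V').base x ∈ Set.range (m V V' h).base → V'.1.ι.base x ∈ V.1) :
    ∃ (Z : Scheme.{u}) (p : X ⟶ Z) (ι : ∀ V : ℬ, Y V ⟶ Z),
      (∀ V, IsOpenImmersion (ι V)) ∧ (∀ V : ℬ, V.1.ι ≫ p = q V ≫ ι V) ∧
      (∀ (V : ℬ) (x : X), p.base x ∈ Set.range (ι V).base ↔ x ∈ V.1) ∧
      (∀ z : Z, ∃ (V : ℬ) (y : Y V), (ι V).base y = z) := by
  -- the diagram
  let F : ↥ℬ ⥤ Scheme.{u} :=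
    { obj := Y
      map := fun {V V'} f => m V V' (leOfHom f)
      map_id := fun V => hm_id V
      map_comp := fun {V V' V''} f g => (hm_comp V V' V'' (leOfHom f) (leOfHom g)).symm }
  haveI hFo : ∀ {i j : ↥ℬ} (f : i ⟶ j), IsOpenImmersion (F.map f) :=
    fun {i j} f => hm_open i j (leOfHom f)
  -- pointwise form of `hqm`
  have hqm' : ∀ (V V' : ℬ) (h : V.1 ≤ V'.1) (a : V.1.toScheme),
      (m V V' h) ((q V) a) = (q V') ((X.homOfLE h) a) := by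
    intro V V' h a
    rw [← Scheme.Hom.comp_apply, ← Scheme.Hom.comp_apply, hqm]
  haveI hLD : (F ⋙ Scheme.forget).IsLocallyDirected := by
    constructor
    intro i j k fi fj xi xj hx
    obtain ⟨ai, rfl⟩ := hsurj i xi
    obtain ⟨aj, rfl⟩ := hsurj j xj
    have hik : i.1 ≤ k.1 := leOfHom fi
    have hjk : j.1 ≤ k.1 := leOfHom fj
    have hx' : (m i k hik) ((q i) ai) = (m j k hjk) ((q j) aj) := hx
    -- `aj` lies in `i`
    have hmem : k.1.ι.base ((X.homOfLE hjk) aj) ∈ i.1 := by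
      apply hsat i k hik
      refine ⟨(q i) ai, ?_⟩
      show (m i k hik) ((q i) ai) = (q k) ((X.homOfLE hjk) aj)
      rw [hx', hqm']
    have hpt : k.1.ι.base ((X.homOfLE hjk) aj) = aj.1 := by
      show (X.homOfLE hjk ≫ k.1.ι) aj = aj.1
      rw [X.homOfLE_ι]
      rfl
    rw [hpt] at hmem
    obtain ⟨l, hl, hal, hli, hlj⟩ := hdir i.1 i.2 j.1 j.2 aj.1 hmem aj.2
    let al : (⟨l, hl⟩ : ℬ).1.toScheme := ⟨aj.1, hal⟩
    have e1 : (X.homOfLE hlj) al = aj := Subtype.ext (X.homOfLE_apply hlj al)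
    refine ⟨⟨l, hl⟩, homOfLE hli, homOfLE hlj, (q ⟨l, hl⟩) al, ?_, ?_⟩
    · show (m ⟨l, hl⟩ i hli) ((q ⟨l, hl⟩) al) = (q i) ai
      haveI := hm_open i k hik
      apply (m i k hik).isOpenEmbedding.injective
      show (m i k hik) ((m ⟨l, hl⟩ i hli) ((q ⟨l, hl⟩) al)) = (m i k hik) ((q i) ai)
      rw [hx', hqm' ⟨l, hl⟩ i hli, hqm' i k hik, hqm' j k hjk]
      congr 1
      apply Subtype.ext
      rw [X.homOfLE_apply, X.homOfLE_apply, X.homOfLE_apply]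
    · show (m ⟨l, hl⟩ j hlj) ((q ⟨l, hl⟩) al) = (q j) aj
      rw [hqm', e1]
  -- the cover of `X`
  let 𝒰 := cov ℬ hcov
  letI : 𝒰.LocallyDirected := covLD ℬ hcov hdir
  let g : ∀ V : 𝒰.I₀, 𝒰.X V ⟶ colimit F := fun V => q V ≫ colimit.ι F V
  have hg : ∀ {i j : 𝒰.I₀} (hij : i ⟶ j), 𝒰.trans hij ≫ g j = g i := by
    intro i j hij
    show X.homOfLE (show i.1 ≤ j.1 from leOfHom hij) ≫ q j ≫ colimit.ι F j = q i ≫ colimit.ι F i
    rw [← Category.assoc, ← hqm i j (leOfHom hij), Category.assoc]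
    congr 1
    exact colimit.w F hij
  let p : X ⟶ colimit F := 𝒰.glueMorphismsOfLocallyDirected g hg
  have hp : ∀ V : ℬ, V.1.ι ≫ p = q V ≫ colimit.ι F V := fun V =>
    𝒰.map_glueMorphismsOfLocallyDirected g hg V
  refine ⟨colimit F, p, fun V => colimit.ι F V, fun V => inferInstance, hp, ?_, ?_⟩
  · intro V x
    constructor
    · rintro ⟨y, hy⟩
      obtain ⟨V', hV', hxV'⟩ := hcov x
      have h1 : p.base x = (colimit.ι F ⟨V', hV'⟩) ((q ⟨V', hV'⟩) ⟨x, hxV'⟩) := by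
        show p x = (q ⟨V', hV'⟩ ≫ colimit.ι F ⟨V', hV'⟩) ⟨x, hxV'⟩
        rw [← hp ⟨V', hV'⟩]
        rfl
      have h2 : (colimit.ι F ⟨V', hV'⟩) ((q ⟨V', hV'⟩) ⟨x, hxV'⟩) = (colimit.ι F V) y := by
        rw [← h1]; exact hy.symm
      obtain ⟨k, fi, fj, z, hz1, hz2⟩ := (Scheme.IsLocallyDirected.ι_eq_ι_iff (F := F)).mp h2
      have hk : V'.ι.base ⟨x, hxV'⟩ ∈ k.1 :=
        hsat k ⟨V', hV'⟩ (leOfHom fi) ⟨x, hxV'⟩ ⟨z, hz1⟩
      exact (leOfHom fj : k.1 ≤ V.1) hk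
    · intro hx
      refine ⟨(q V) ⟨x, hx⟩, ?_⟩
      show (q V ≫ colimit.ι F V) ⟨x, hx⟩ = p x
      rw [← hp V]
      rfl
  · intro z
    obtain ⟨V, y, hy⟩ := Scheme.IsLocallyDirected.ι_jointly_surjective F z
    exact ⟨V, y, hy⟩

end Groth.Agent.H68.QuotGlue_AG
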