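import Mathlib
set_option autoImplicit false
universe u
open CategoryTheory CategoryTheory.Limits AlgebraicGeometry

namespace Groth.Agent.H68.RR_KPT

theorem exists_kpoint {k : Type u} [Field k] [Infinite k] (n : ℕ)
    (V : (Spec (CommRingCat.of (MvPolynomial (Fin n) k))).Opens) (hV : (V : Set (Spec (CommRingCat.of (MvPolynomial (Fin n) k)))).Nonempty) :
    ∃ p : Spec (CommRingCat.of k) ⟶ (V : Scheme.{u}),
      p ≫ V.ι ≫ Spec.map (CommRingCat.ofHom (algebraMap k (MvPolynomial (Fin n) k))) = 𝟙 _ := by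
  obtain ⟨x, hx⟩ := hV
  obtain ⟨g, hxg, hgV⟩ : ∃ g : MvPolynomial (Fin n) k,
      x ∈ (PrimeSpectrum.basicOpen g : Set (PrimeSpectrum (MvPolynomial (Fin n) k))) ∧
      (PrimeSpectrum.basicOpen g : Set (PrimeSpectrum (MvPolynomial (Fin n) k))) ⊆
        (V : Set (Spec (CommRingCat.of (MvPolynomial (Fin n) k)))) := by
    obtain ⟨_, ⟨g, rfl⟩, hxU, hUV⟩ :=
      (PrimeSpectrum.isTopologicalBasis_basic_opens (R := MvPolynomial (Fin n) k)).exists_subset_of_mem_open
        hx V.2
    exact ⟨g, hxU, hUV⟩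
  have hg0 : g ≠ 0 := by
    rintro rfl
    simp at hxg
    exact hxg
  obtain ⟨c, hc⟩ : ∃ c : Fin n → k, MvPolynomial.eval c g ≠ 0 := by
    by_contra hcon
    push Not at hcon
    exact hg0 (MvPolynomial.funext (fun c => by simpa using hcon c))
  let φ : MvPolynomial (Fin n) k →+* k := MvPolynomial.eval c
  let q : Spec (CommRingCat.of k) ⟶ Spec (CommRingCat.of (MvPolynomial (Fin n) k)) :=
    Spec.map (CommRingCat.ofHom φ)
  have hq : Set.range q.base ⊆ Set.range V.ι.base := by
    rintro _ ⟨y, rfl⟩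
    rw [Scheme.Opens.range_ι]
    apply hgV
    show g ∉ (PrimeSpectrum.comap φ y).asIdeal
    intro hmem
    have h1 : φ g ∈ y.asIdeal := hmem
    have h2 : y.asIdeal = ⊥ := by
      have := Ideal.eq_bot_or_top y.asIdeal
      rcases this with h | h
      · exact h
      · exact absurd h y.isPrime.ne_top
    rw [h2] at h1
    exact hc (by simpa using h1)
  refine ⟨IsOpenImmersion.lift V.ι q hq, ?_⟩
  rw [← Category.assoc, IsOpenImmersion.lift_fac, ← Spec.map_comp, ← CommRingCat.ofHom_comp]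
  have : φ.comp (algebraMap k (MvPolynomial (Fin n) k)) = RingHom.id k := by
    ext a
    simp [φ]
  rw [this]
  exact Spec.map_id _

end Groth.Agent.H68.RR_KPT
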