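import Groth.Agent.H65.DescLoc
import Groth.Agent.H51.DescAssemble
import Groth.Agent.S1133

/-!
# Descent of arbitrary schemes along flat, surjective, quasi-compact, universally injective morphisms
(helper68, for S2912)

If `p : X ⟶ S` is universally injective, the gluing bijections of a descent datum relative to `p`
do not move points, so every open of the underlying scheme carries a restricted descent datum.
Solutions on the affine opens glue (locally directed colimit) to a solution.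
-/

set_option autoImplicit false
set_option backward.isDefEq.respectTransparency false
set_option backward.isDefEq.respectTransparency.types false
universe u

open CategoryTheory CategoryTheory.Limits AlgebraicGeometry Desc

namespace Groth.Agent.H68.RadDesc

open Groth.Agent.H51.DescCrit Groth.Agent.H65.DescLoc

variable {X S : Scheme.{u}} {p : X ⟶ S}

/-- Two field-valued points of `X` with the same image under a universally injective `p` agree. -/
theorem field_point_ext [UniversallyInjective p] {T : Scheme.{u}} (τ : T) (x₀ x₁ : T ⟶ X)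
    (h : x₀ ≫ p = x₁ ≫ p) :
    T.fromSpecResidueField τ ≫ x₀ = T.fromSpecResidueField τ ≫ x₁ := by
  have H := ((tfae_universallyInjective p).out 0 1).mp ‹UniversallyInjective p›
  have H2 : Function.Injective (fun g : Spec (T.residueField τ) ⟶ X => g ≫ p) :=
    H (T.residueField τ)
  exact H2 (by
    show (T.fromSpecResidueField τ ≫ x₀) ≫ p = (T.fromSpecResidueField τ ≫ x₁) ≫ p
    rw [Category.assoc, Category.assoc, h])

section One

variable (D : SchDDFam (fun _ : PUnit.{u + 1} => p))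

/-- The gluing bijection of a one-member datum, with the indices made explicit. -/
abbrev Φ {T : Scheme.{u}} (x₀ x₁ : T ⟶ X) (h : x₀ ≫ p = x₁ ≫ p) :
    Lifts (D.obj PUnit.unit) x₀ ≃ Lifts (D.obj PUnit.unit) x₁ :=
  D.φ (i := PUnit.unit) (j := PUnit.unit) x₀ x₁ h

theorem Φ_natural {T T' : Scheme.{u}} (g : T' ⟶ T) (x₀ x₁ : T ⟶ X) (h : x₀ ≫ p = x₁ ≫ p)
    (h' : (g ≫ x₀) ≫ p = (g ≫ x₁) ≫ p) (v : Lifts (D.obj PUnit.unit) x₀)
    (v' : Lifts (D.obj PUnit.unit) (g ≫ x₀)) (hv : v'.1 = g ≫ v.1) :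
    (Φ D (g ≫ x₀) (g ≫ x₁) h' v').1 = g ≫ (Φ D x₀ x₁ h v).1 :=
  D.φ_natural g (i := PUnit.unit) (j := PUnit.unit) x₀ x₁ h (g ≫ x₀) (g ≫ x₁) rfl rfl h' v v' hv

theorem Φ_self {T : Scheme.{u}} (x : T ⟶ X) (v : Lifts (D.obj PUnit.unit) x) :
    Φ D x x rfl v = v := D.φ_self (i := PUnit.unit) x v

theorem Φ_comp {T : Scheme.{u}} (x₀ x₁ x₂ : T ⟶ X) (h₀₁ : x₀ ≫ p = x₁ ≫ p)
    (h₁₂ : x₁ ≫ p = x₂ ≫ p) (v : Lifts (D.obj PUnit.unit) x₀) :
    Φ D x₁ x₂ h₁₂ (Φ D x₀ x₁ h₀₁ v) = Φ D x₀ x₂ (h₀₁.trans h₁₂) v :=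
  D.φ_comp (i := PUnit.unit) (j := PUnit.unit) (k := PUnit.unit) x₀ x₁ x₂ h₀₁ h₁₂ v

theorem Φ_congr {T : Scheme.{u}} {x₀ x₀' x₁ x₁' : T ⟶ X} (h : x₀ ≫ p = x₁ ≫ p)
    (h' : x₀' ≫ p = x₁' ≫ p) (e₀ : x₀ = x₀') (e₁ : x₁ = x₁') (v : Lifts (D.obj PUnit.unit) x₀)
    (v' : Lifts (D.obj PUnit.unit) x₀') (hv : v.1 = v'.1) :
    (Φ D x₀ x₁ h v).1 = (Φ D x₀' x₁' h' v').1 := by
  subst e₀ e₁
  have : v = v' := Subtype.ext hv
  subst this
  rfl

/-- For a universally injective `p`, the gluing bijections of a descent datum do not move points. -/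
theorem Φ_base_eq [UniversallyInjective p] {T : Scheme.{u}} (x₀ x₁ : T ⟶ X) (h : x₀ ≫ p = x₁ ≫ p)
    (v : Lifts (D.obj PUnit.unit) x₀) (τ : T) :
    (Φ D x₀ x₁ h v).1.base τ = v.1.base τ := by
  let g := T.fromSpecResidueField τ
  have hg : g ≫ x₀ = g ≫ x₁ := field_point_ext τ x₀ x₁ h
  have h' : (g ≫ x₀) ≫ p = (g ≫ x₁) ≫ p := by rw [hg]
  let v' : Lifts (D.obj PUnit.unit) (g ≫ x₀) := ⟨g ≫ v.1, by rw [Category.assoc, v.2]⟩
  have e1 : (Φ D (g ≫ x₀) (g ≫ x₁) h' v').1 = g ≫ (Φ D x₀ x₁ h v).1 :=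
    Φ_natural D g x₀ x₁ h h' v v' rfl
  have e2 : (Φ D (g ≫ x₀) (g ≫ x₁) h' v').1 = (Φ D (g ≫ x₀) (g ≫ x₀) rfl v').1 :=
    Φ_congr D h' rfl rfl hg.symm v' v' rfl
  rw [Φ_self] at e2
  have e3 : g ≫ (Φ D x₀ x₁ h v).1 = g ≫ v.1 := e1.symm.trans e2
  have e4 := congrArg (fun f => f.base (IsLocalRing.closedPoint (T.residueField τ))) e3
  simpa [g, Scheme.fromSpecResidueField_apply] using e4

end One

section Restr

variable [UniversallyInjective p] (D : SchDDFam (fun _ : PUnit.{u + 1} => p))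
  (𝒪 : (D.obj PUnit.unit).left.Opens)

/-- The open subscheme `𝒪` as a scheme over `X`. -/
abbrev robj : Over X := Over.mk (𝒪.ι ≫ (D.obj PUnit.unit).hom)

/-- A point of the open subscheme as a point of the whole scheme. -/
def up {T : Scheme.{u}} {x : T ⟶ X} (v : Lifts (robj D 𝒪) x) : Lifts (D.obj PUnit.unit) x :=
  ⟨v.1 ≫ 𝒪.ι, by rw [Category.assoc]; exact v.2⟩

theorem up_val {T : Scheme.{u}} {x : T ⟶ X} (v : Lifts (robj D 𝒪) x) :
    (up D 𝒪 v).1 = v.1 ≫ 𝒪.ι := rfl

theorem up_injective {T : Scheme.{u}} {x : T ⟶ X} (v v' : Lifts (robj D 𝒪) x)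
    (h : up D 𝒪 v = up D 𝒪 v') : v = v' := by
  apply Subtype.ext
  have h1 : v.1 ≫ 𝒪.ι = v'.1 ≫ 𝒪.ι := congrArg Subtype.val h
  exact (cancel_mono 𝒪.ι).1 h1

theorem range_Φ_up {T : Scheme.{u}} (x₀ x₁ : T ⟶ X) (h : x₀ ≫ p = x₁ ≫ p)
    (v : Lifts (robj D 𝒪) x₀) :
    Set.range (Φ D x₀ x₁ h (up D 𝒪 v)).1.base ⊆ Set.range 𝒪.ι.base := by
  rintro _ ⟨τ, rfl⟩
  rw [Φ_base_eq]
  exact ⟨v.1.base τ, rfl⟩

/-- The restricted gluing map. -/
noncomputable def rφ {T : Scheme.{u}} (x₀ x₁ : T ⟶ X) (h : x₀ ≫ p = x₁ ≫ p)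
    (v : Lifts (robj D 𝒪) x₀) : Lifts (robj D 𝒪) x₁ :=
  ⟨IsOpenImmersion.lift 𝒪.ι (Φ D x₀ x₁ h (up D 𝒪 v)).1 (range_Φ_up D 𝒪 x₀ x₁ h v), by
    show IsOpenImmersion.lift 𝒪.ι _ _ ≫ 𝒪.ι ≫ (D.obj PUnit.unit).hom = x₁
    rw [← Category.assoc, IsOpenImmersion.lift_fac]
    exact (Φ D x₀ x₁ h (up D 𝒪 v)).2⟩

theorem up_rφ {T : Scheme.{u}} (x₀ x₁ : T ⟶ X) (h : x₀ ≫ p = x₁ ≫ p)
    (v : Lifts (robj D 𝒪) x₀) : up D 𝒪 (rφ D 𝒪 x₀ x₁ h v) = Φ D x₀ x₁ h (up D 𝒪 v) :=
  Subtype.ext (IsOpenImmersion.lift_fac _ _ _)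

theorem rφ_self {T : Scheme.{u}} (x : T ⟶ X) (v : Lifts (robj D 𝒪) x) :
    rφ D 𝒪 x x rfl v = v :=
  up_injective D 𝒪 _ _ (by rw [up_rφ, Φ_self])

theorem rφ_comp {T : Scheme.{u}} (x₀ x₁ x₂ : T ⟶ X) (h₀₁ : x₀ ≫ p = x₁ ≫ p)
    (h₁₂ : x₁ ≫ p = x₂ ≫ p) (v : Lifts (robj D 𝒪) x₀) :
    rφ D 𝒪 x₁ x₂ h₁₂ (rφ D 𝒪 x₀ x₁ h₀₁ v) = rφ D 𝒪 x₀ x₂ (h₀₁.trans h₁₂) v :=
  up_injective D 𝒪 _ _ (by rw [up_rφ, up_rφ, up_rφ, Φ_comp])

/-- The restriction of a descent datum relative to a universally injective morphism to an open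
subscheme of its underlying scheme. -/
noncomputable def restr : SchDDFam (fun _ : PUnit.{u + 1} => p) where
  obj _ := robj D 𝒪
  φ T _ _ x₀ x₁ h :=
    { toFun := rφ D 𝒪 x₀ x₁ h
      invFun := rφ D 𝒪 x₁ x₀ h.symm
      left_inv := fun v => (rφ_comp D 𝒪 x₀ x₁ x₀ h h.symm v).trans (rφ_self D 𝒪 x₀ v)
      right_inv := fun v => (rφ_comp D 𝒪 x₁ x₀ x₁ h.symm h v).trans (rφ_self D 𝒪 x₁ v) }
  φ_natural T T' g _ _ x₀ x₁ h y₀ y₁ hy₀ hy₁ h' v v' hv' := by
    subst hy₀ hy₁
    show (rφ D 𝒪 (g ≫ x₀) (g ≫ x₁) h' v').1 = g ≫ (rφ D 𝒪 x₀ x₁ h v).1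
    rw [← cancel_mono 𝒪.ι, Category.assoc]
    have e1 : (rφ D 𝒪 (g ≫ x₀) (g ≫ x₁) h' v').1 ≫ 𝒪.ι =
        (Φ D (g ≫ x₀) (g ≫ x₁) h' (up D 𝒪 v')).1 := congrArg Subtype.val (up_rφ D 𝒪 _ _ h' v')
    have e2 : (rφ D 𝒪 x₀ x₁ h v).1 ≫ 𝒪.ι = (Φ D x₀ x₁ h (up D 𝒪 v)).1 :=
      congrArg Subtype.val (up_rφ D 𝒪 _ _ h v)
    rw [e1, e2]
    exact Φ_natural D g x₀ x₁ h h' (up D 𝒪 v) (up D 𝒪 v') (by
      rw [up_val, up_val, hv', Category.assoc])
  φ_self T _ x v := rφ_self D 𝒪 x v
  φ_comp T _ _ _ x₀ x₁ x₂ h₀₁ h₁₂ v := rφ_comp D 𝒪 x₀ x₁ x₂ h₀₁ h₁₂ v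

theorem restr_φ_ι {T : Scheme.{u}} (x₀ x₁ : T ⟶ X) (h : x₀ ≫ p = x₁ ≫ p)
    (v : Lifts ((restr D 𝒪).obj PUnit.unit) x₀) :
    ((restr D 𝒪).φ (i := PUnit.unit) (j := PUnit.unit) x₀ x₁ h v).1 ≫ 𝒪.ι =
      (Φ D x₀ x₁ h (up D 𝒪 v)).1 :=
  congrArg Subtype.val (up_rφ D 𝒪 x₀ x₁ h v)

end Restr

/-- A base change of a surjective universally injective morphism is bijective on points. -/
theorem bijective_of_isPullback [Surjective p] [UniversallyInjective p] {V W : Scheme.{u}}
    {k : V ⟶ W} {q : V ⟶ X} {w : W ⟶ S} (h : IsPullback k q w p) : Function.Bijective k.base := by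
  haveI : Surjective k := MorphismProperty.of_isPullback h.flip ‹Surjective p›
  haveI : UniversallyInjective k := MorphismProperty.of_isPullback h.flip ‹UniversallyInjective p›
  exact ⟨k.injective, k.surjective⟩

section Glue

/-- The open subscheme attached to an index of the directed affine cover. -/
abbrev opn (D : SchDDFam (fun _ : PUnit.{u + 1} => p))
    (a : (D.obj PUnit.unit).left.directedAffineCover.I₀) : (D.obj PUnit.unit).left.Opens :=
  Subtype.val (p := fun U => U ∈ (D.obj PUnit.unit).left.affineOpens) a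

variable [Surjective p] [Flat p] [QuasiCompact p] [UniversallyInjective p]
  (hf : Presieve.ofArrows (fun _ : PUnit.{u + 1} => X) (fun _ => p) ∈ Scheme.fpqcPrecoverage S)
  (D : SchDDFam (fun _ : PUnit.{u + 1} => p))
  (W : ∀ _ : (D.obj PUnit.unit).left.directedAffineCover.I₀, Over S)
  (k : ∀ a : (D.obj PUnit.unit).left.directedAffineCover.I₀,
    (opn D a : Scheme.{u}) ⟶ (W a).left)
  (hs : ∀ a, IsSol (restr D (opn D a)) (W a) (fun _ => k a))

/-- The transition map of the directed affine cover of the underlying scheme. -/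
noncomputable abbrev tr {a b : (D.obj PUnit.unit).left.directedAffineCover.I₀} (hab : a ⟶ b) :
    (opn D a : Scheme.{u}) ⟶ (opn D b : Scheme.{u}) :=
  (D.obj PUnit.unit).left.directedAffineCover.trans hab

theorem tr_ι {a b : (D.obj PUnit.unit).left.directedAffineCover.I₀} (hab : a ⟶ b) :
    tr D hab ≫ (opn D b).ι = (opn D a).ι :=
  (D.obj PUnit.unit).left.directedAffineCover.trans_map hab

include hs in
theorem k_hom (a : (D.obj PUnit.unit).left.directedAffineCover.I₀) :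
    k a ≫ (W a).hom = ((opn D a).ι ≫ (D.obj PUnit.unit).hom) ≫ p := ((hs a).sq PUnit.unit).w

include hs in
theorem inv_tr {a b : (D.obj PUnit.unit).left.directedAffineCover.I₀} (hab : a ⟶ b)
    ⦃T : Scheme.{u}⦄ ⦃i j : PUnit.{u + 1}⦄ (x₀ : T ⟶ X) (x₁ : T ⟶ X) (h : x₀ ≫ p = x₁ ≫ p)
    (v : Lifts ((restr D (opn D a)).obj i) x₀) :
    ((restr D (opn D a)).φ (i := i) (j := j) x₀ x₁ h v).1 ≫ tr D hab ≫ k b = v.1 ≫ tr D hab ≫ k b := by
  let vb : Lifts ((restr D (opn D b)).obj PUnit.unit) x₀ := ⟨v.1 ≫ tr D hab, by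
    show (v.1 ≫ tr D hab) ≫ (opn D b).ι ≫ (D.obj PUnit.unit).hom = x₀
    rw [Category.assoc, ← Category.assoc (tr D hab), tr_ι]
    exact v.2⟩
  have hup : up D (opn D b) vb = up D (opn D a) v := by
    apply Subtype.ext
    show (v.1 ≫ tr D hab) ≫ (opn D b).ι = v.1 ≫ (opn D a).ι
    rw [Category.assoc, tr_ι]
  have e1 : ((restr D (opn D a)).φ (i := i) (j := j) x₀ x₁ h v).1 ≫ tr D hab =
      ((restr D (opn D b)).φ (i := PUnit.unit) (j := PUnit.unit) x₀ x₁ h vb).1 := by
    apply (cancel_mono (opn D b).ι).1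
    rw [Category.assoc, tr_ι]
    have ea := restr_φ_ι D (opn D a) x₀ x₁ h v
    have eb := restr_φ_ι D (opn D b) x₀ x₁ h vb
    rw [hup] at eb
    exact ea.trans eb.symm
  have e2 := (hs b).inv (i := PUnit.unit) (j := PUnit.unit) x₀ x₁ h vb
  rw [← Category.assoc, e1, e2, Category.assoc]

include hf hs in
theorem exists_ρ {a b : (D.obj PUnit.unit).left.directedAffineCover.I₀} (hab : a ⟶ b) :
    ∃! t : (W a).left ⟶ (W b).left, ∀ _ : PUnit.{u + 1}, k a ≫ t = tr D hab ≫ k b :=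
  (hs a).existsUnique_desc hf (fun _ => tr D hab ≫ k b)
    (fun T i j x₀ x₁ h v => inv_tr D W k hs hab x₀ x₁ h v)

/-- The transition maps between the chosen local solutions. -/
noncomputable def ρ {a b : (D.obj PUnit.unit).left.directedAffineCover.I₀} (hab : a ⟶ b) :
    (W a).left ⟶ (W b).left :=
  (exists_ρ hf D W k hs hab).exists.choose

theorem k_ρ {a b : (D.obj PUnit.unit).left.directedAffineCover.I₀} (hab : a ⟶ b) :
    k a ≫ ρ hf D W k hs hab = tr D hab ≫ k b :=
  (exists_ρ hf D W k hs hab).exists.choose_spec PUnit.unit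

theorem ρ_id (a : (D.obj PUnit.unit).left.directedAffineCover.I₀) :
    ρ hf D W k hs (𝟙 a) = 𝟙 _ := by
  refine IsSol.hom_ext (hs a) hf _ _ (fun _ => ?_)
  rw [k_ρ, tr, Scheme.Cover.trans_id]
  exact (Category.id_comp (k a)).trans (Category.comp_id (k a)).symm

theorem ρ_comp {a b c : (D.obj PUnit.unit).left.directedAffineCover.I₀} (hab : a ⟶ b)
    (hbc : b ⟶ c) : ρ hf D W k hs (hab ≫ hbc) = ρ hf D W k hs hab ≫ ρ hf D W k hs hbc := by
  refine IsSol.hom_ext (hs a) hf _ _ (fun _ => ?_)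
  rw [k_ρ, tr, Scheme.Cover.trans_comp, Category.assoc, ← k_ρ hf D W k hs hbc, ← Category.assoc,
    ← k_ρ hf D W k hs hab, Category.assoc]

theorem ρ_hom {a b : (D.obj PUnit.unit).left.directedAffineCover.I₀} (hab : a ⟶ b) :
    ρ hf D W k hs hab ≫ (W b).hom = (W a).hom := by
  refine IsSol.hom_ext (hs a) hf _ _ (fun _ => ?_)
  rw [← Category.assoc, k_ρ, Category.assoc, k_hom D W k hs b, k_hom D W k hs a,
    ← Category.assoc, ← Category.assoc, tr_ι]

theorem isPullback_ρ {a b : (D.obj PUnit.unit).left.directedAffineCover.I₀} (hab : a ⟶ b) :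
    IsPullback (tr D hab) (k a) (k b) (ρ hf D W k hs hab) := by
  have big : IsPullback (tr D hab ≫ ((opn D b).ι ≫ (D.obj PUnit.unit).hom)) (k a) p
      (ρ hf D W k hs hab ≫ (W b).hom) := by
    rw [ρ_hom, ← Category.assoc, tr_ι]
    exact ((hs a).sq PUnit.unit).flip
  exact IsPullback.of_right big (k_ρ hf D W k hs hab).symm ((hs b).sq PUnit.unit).flip

include hs in
theorem fpqc_k (b : (D.obj PUnit.unit).left.directedAffineCover.I₀) :
    (@Surjective ⊓ @Flat ⊓ @QuasiCompact : MorphismProperty Scheme.{u}) (k b) := by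
  have h := ((hs b).sq PUnit.unit).flip
  exact ⟨⟨MorphismProperty.of_isPullback h ‹Surjective p›,
    MorphismProperty.of_isPullback h ‹Flat p›⟩, MorphismProperty.of_isPullback h ‹QuasiCompact p›⟩

theorem isOpenImmersion_ρ {a b : (D.obj PUnit.unit).left.directedAffineCover.I₀} (hab : a ⟶ b) :
    IsOpenImmersion (ρ hf D W k hs hab) :=
  MorphismProperty.of_isPullback_of_descendsAlong (P := @IsOpenImmersion)
    (Q := @Surjective ⊓ @Flat ⊓ @QuasiCompact) (isPullback_ρ hf D W k hs hab)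
    (fpqc_k D W k hs b) (inferInstanceAs (IsOpenImmersion (tr D hab)))

include hs in
theorem k_bijective (a : (D.obj PUnit.unit).left.directedAffineCover.I₀) :
    Function.Bijective (k a).base :=
  bijective_of_isPullback ((hs a).sq PUnit.unit)

/-- The diagram of the local solutions. -/
noncomputable def F : (D.obj PUnit.unit).left.directedAffineCover.I₀ ⥤ Scheme.{u} where
  obj a := (W a).left
  map hab := ρ hf D W k hs hab
  map_id a := ρ_id hf D W k hs a
  map_comp hab hbc := ρ_comp hf D W k hs hab hbc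

instance {a b : (D.obj PUnit.unit).left.directedAffineCover.I₀} (hab : a ⟶ b) :
    IsOpenImmersion ((F hf D W k hs).map hab) := isOpenImmersion_ρ hf D W k hs hab

theorem k_ρ_apply {a b : (D.obj PUnit.unit).left.directedAffineCover.I₀} (hab : a ⟶ b)
    (x : (opn D a : Scheme.{u})) :
    (ρ hf D W k hs hab).base ((k a).base x) = (k b).base ((tr D hab).base x) := by
  rw [← Scheme.Hom.comp_apply, ← Scheme.Hom.comp_apply, k_ρ]

instance : ((F hf D W k hs) ⋙ Scheme.forget).IsLocallyDirected where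
  cond {i j l} fi fj xi xj hxij := by
    obtain ⟨vi, rfl⟩ := (k_bijective D W k hs i).2 xi
    obtain ⟨vj, rfl⟩ := (k_bijective D W k hs j).2 xj
    have h1 : (ρ hf D W k hs fi).base ((k i).base vi) = (ρ hf D W k hs fj).base ((k j).base vj) :=
      hxij
    rw [k_ρ_apply, k_ρ_apply] at h1
    have h2 := (k_bijective D W k hs l).1 h1
    obtain ⟨m, gi, gj, y, hy1, hy2⟩ :=
      (D.obj PUnit.unit).left.directedAffineCover.exists_of_trans_eq_trans fi fj vi vj h2
    refine ⟨m, gi, gj, (k m).base y, ?_, ?_⟩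
    · show (ρ hf D W k hs gi).base ((k m).base y) = (k i).base vi
      rw [k_ρ_apply, ← hy1]
      rfl
    · show (ρ hf D W k hs gj).base ((k m).base y) = (k j).base vj
      rw [k_ρ_apply, ← hy2]
      rfl

/-- The glued scheme. -/
noncomputable abbrev WGs : Scheme.{u} := colimit (F hf D W k hs)

/-- The structure morphism of the glued scheme. -/
noncomputable def WGhom : WGs hf D W k hs ⟶ S :=
  colimit.desc (F hf D W k hs) ⟨S,
    { app := fun a => (W a).hom
      naturality := fun a b hab => by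
        show ρ hf D W k hs hab ≫ (W b).hom = (W a).hom ≫ 𝟙 S
        rw [ρ_hom, Category.comp_id] }⟩

theorem ι_WGhom (a : (D.obj PUnit.unit).left.directedAffineCover.I₀) :
    colimit.ι (F hf D W k hs) a ≫ WGhom hf D W k hs = (W a).hom :=
  colimit.ι_desc _ _

/-- The glued solution. -/
noncomputable abbrev WG : Over S := Over.mk (WGhom hf D W k hs)

theorem kG_aux {a b : (D.obj PUnit.unit).left.directedAffineCover.I₀} (hab : a ⟶ b) :
    tr D hab ≫ k b ≫ colimit.ι (F hf D W k hs) b = k a ≫ colimit.ι (F hf D W k hs) a := by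
  rw [← Category.assoc, ← k_ρ hf D W k hs hab, Category.assoc]
  congr 1
  exact colimit.w (F hf D W k hs) hab

/-- The glued map to the glued solution. -/
noncomputable def kG : (D.obj PUnit.unit).left ⟶ WGs hf D W k hs :=
  (D.obj PUnit.unit).left.directedAffineCover.glueMorphismsOfLocallyDirected
    (fun a => k a ≫ colimit.ι (F hf D W k hs) a) (fun hab => kG_aux hf D W k hs hab)

theorem ι_kG (a : (D.obj PUnit.unit).left.directedAffineCover.I₀) :
    (opn D a).ι ≫ kG hf D W k hs = k a ≫ colimit.ι (F hf D W k hs) a :=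
  (D.obj PUnit.unit).left.directedAffineCover.map_glueMorphismsOfLocallyDirected _ _ a

theorem kG_hom : kG hf D W k hs ≫ WGhom hf D W k hs = (D.obj PUnit.unit).hom ≫ p := by
  apply (D.obj PUnit.unit).left.directedAffineCover.hom_ext
  intro a
  show (opn D a).ι ≫ _ = (opn D a).ι ≫ _
  rw [← Category.assoc, ι_kG, Category.assoc, ι_WGhom, k_hom D W k hs a, Category.assoc]

theorem kG_preimage (a : (D.obj PUnit.unit).left.directedAffineCover.I₀) :
    kG hf D W k hs ⁻¹ᵁ (colimit.ι (F hf D W k hs) a).opensRange = (opn D a).ι.opensRange := by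
  ext v
  constructor
  · rintro ⟨xa, hxa⟩
    obtain ⟨b, vb, rfl⟩ := (D.obj PUnit.unit).left.directedAffineCover.exists_eq v
    have h1 : (kG hf D W k hs).base ((opn D b).ι.base vb) =
        (colimit.ι (F hf D W k hs) b).base ((k b).base vb) := by
      have h0 := congrArg (fun f => f.base vb) (ι_kG hf D W k hs b)
      simp only [Scheme.Hom.comp_apply] at h0
      exact h0
    have hxa' : (colimit.ι (F hf D W k hs) a).base xa =
        (colimit.ι (F hf D W k hs) b).base ((k b).base vb) := hxa.trans h1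
    obtain ⟨l, fa, fb, x, hx1, hx2⟩ :=
      (Scheme.IsLocallyDirected.ι_eq_ι_iff (F := F hf D W k hs)).1 hxa'
    obtain ⟨vl, rfl⟩ := (k_bijective D W k hs l).2 x
    have h2 : (ρ hf D W k hs fb).base ((k l).base vl) = (k b).base vb := hx2
    rw [k_ρ_apply] at h2
    have h3 := (k_bijective D W k hs b).1 h2
    refine ⟨(tr D fa).base vl, ?_⟩
    show (opn D a).ι.base ((tr D fa).base vl) = (opn D b).ι.base vb
    rw [← h3]
    have ha := congrArg (fun f => f.base vl) (tr_ι D fa)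
    have hb := congrArg (fun f => f.base vl) (tr_ι D fb)
    simp only [Scheme.Hom.comp_apply] at ha hb
    exact ha.trans hb.symm
  · rintro ⟨va, rfl⟩
    refine ⟨(k a).base va, ?_⟩
    show (colimit.ι (F hf D W k hs) a).base ((k a).base va) =
      (kG hf D W k hs).base ((opn D a).ι.base va)
    have h0 := congrArg (fun f => f.base va) (ι_kG hf D W k hs a)
    simp only [Scheme.Hom.comp_apply] at h0
    exact h0.symm

theorem isPullback_kG_local (a : (D.obj PUnit.unit).left.directedAffineCover.I₀) :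
    IsPullback (k a) (opn D a).ι (colimit.ι (F hf D W k hs) a) (kG hf D W k hs) :=
  IsOpenImmersion.isPullback (k a) (opn D a).ι (colimit.ι (F hf D W k hs) a) (kG hf D W k hs)
    (ι_kG hf D W k hs a) (kG_preimage hf D W k hs a)

theorem isPullback_kG :
    IsPullback (kG hf D W k hs) (D.obj PUnit.unit).hom (WGhom hf D W k hs) p := by
  refine Scheme.isPullback_of_openCover _ _ _ _
    (Scheme.IsLocallyDirected.openCover (F hf D W k hs)) (fun a => ?_)
  have h1 : IsPullback (k a) ((opn D a).ι ≫ (D.obj PUnit.unit).hom)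
      (colimit.ι (F hf D W k hs) a ≫ WGhom hf D W k hs) p := by
    rw [ι_WGhom]
    exact (hs a).sq PUnit.unit
  let e := (isPullback_kG_local hf D W k hs a).flip.isoPullback
  refine IsPullback.of_iso h1 e (Iso.refl _) (Iso.refl _) (Iso.refl _) ?_ ?_ (by simp) (by simp)
  · simp only [Iso.refl_hom, Category.comp_id]
    exact ((isPullback_kG_local hf D W k hs a).flip.isoPullback_hom_snd).symm
  · simp only [Iso.refl_hom, Category.comp_id]
    rw [← Category.assoc]
    congr 1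
    exact ((isPullback_kG_local hf D W k hs a).flip.isoPullback_hom_fst).symm

theorem kG_inv ⦃T : Scheme.{u}⦄ ⦃i j : PUnit.{u + 1}⦄ (x₀ : T ⟶ X) (x₁ : T ⟶ X)
    (h : x₀ ≫ p = x₁ ≫ p) (v : Lifts (D.obj i) x₀) :
    (D.φ (i := i) (j := j) x₀ x₁ h v).1 ≫ kG hf D W k hs = v.1 ≫ kG hf D W k hs := by
  cases i
  cases j
  refine Scheme.Cover.hom_ext ((D.obj PUnit.unit).left.directedAffineCover.pullback₁ v.1) _ _
    (fun a => ?_)
  let g := pullback.fst v.1 (opn D a).ι
  have hva : pullback.snd v.1 (opn D a).ι ≫ (opn D a).ι ≫ (D.obj PUnit.unit).hom = g ≫ x₀ := by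
    rw [← Category.assoc, ← pullback.condition, Category.assoc, v.2]
  let va : Lifts ((restr D (opn D a)).obj PUnit.unit) (g ≫ x₀) :=
    ⟨pullback.snd v.1 (opn D a).ι, hva⟩
  have h' : (g ≫ x₀) ≫ p = (g ≫ x₁) ≫ p := by rw [Category.assoc, Category.assoc, h]
  have e1 : (Φ D (g ≫ x₀) (g ≫ x₁) h' (up D (opn D a) va)).1 = g ≫ (Φ D x₀ x₁ h v).1 :=
    Φ_natural D g x₀ x₁ h h' v (up D (opn D a) va) pullback.condition.symm
  have e2 := restr_φ_ι D (opn D a) (g ≫ x₀) (g ≫ x₁) h' va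
  have key := (hs a).inv (i := PUnit.unit) (j := PUnit.unit) (g ≫ x₀) (g ≫ x₁) h' va
  show g ≫ (Φ D x₀ x₁ h v).1 ≫ _ = g ≫ v.1 ≫ _
  rw [← Category.assoc, ← e1, ← e2, Category.assoc, ι_kG, ← Category.assoc, key, Category.assoc,
    ← ι_kG, ← Category.assoc, ← Category.assoc]
  congr 1
  exact pullback.condition.symm

theorem isSol_glue : IsSol D (WG hf D W k hs) (fun _ => kG hf D W k hs) :=
  ⟨fun _ => isPullback_kG hf D W k hs, fun _ _ _ x₀ x₁ h v => kG_inv hf D W k hs x₀ x₁ h v⟩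

end Glue

/-- A flat, surjective, quasi-compact and universally injective morphism is a homeomorphism, hence
affine. -/
theorem isAffineHom_of_radicial_fpqc (p : X ⟶ S) [Flat p] [Surjective p] [QuasiCompact p]
    [UniversallyInjective p] : IsAffineHom p := by
  have hq : Topology.IsQuotientMap p.base := Flat.isQuotientMap_of_surjective p
  have hinj : Function.Injective p.base := p.injective
  have hopen : IsOpenMap p.base := by
    intro U hU
    rw [← hq.isOpen_preimage, Set.preimage_image_eq _ hinj]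
    exact hU
  have hemb : Topology.IsOpenEmbedding p.base :=
    .of_continuous_injective_isOpenMap p.continuous hinj hopen
  apply isAffineHom_of_isInducing p hemb.isInducing
  rw [Set.range_eq_univ.2 p.surjective]
  exact isClosed_univ

/-- Over an affine source, every descent datum relative to a flat, surjective, quasi-compact,
universally injective morphism is effective. -/
theorem isEffective_of_affine [IsAffine X] (p : X ⟶ S) [Flat p] [Surjective p] [QuasiCompact p]
    [UniversallyInjective p] (D : SchDDFam (fun _ : PUnit.{u + 1} => p)) : D.IsEffective := by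
  have hf := Groth.Agent.H51.DescAssemble.mem_fpqc_single p
  have hsol : ∀ a : (D.obj PUnit.unit).left.directedAffineCover.I₀,
      ∃ (Wa : Over S) (ka : ∀ i, ((restr D (opn D a)).obj i).left ⟶ Wa.left),
        IsSol (restr D (opn D a)) Wa ka := fun a => by
    apply exists_isSol_of_isEffective
    apply Groth.Agent.H51.DescAssemble.isEffective_of_toSchDD
    haveI : IsAffine (opn D a : Scheme.{u}) := a.2
    haveI : IsAffineHom ((SchDDFam.toSchDD.{u} p).obj (restr D (opn D a))).obj.hom :=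
      (inferInstance : IsAffineHom ((opn D a).ι ≫ (D.obj PUnit.unit).hom))
    exact Groth.Agent.S1133.result p _
  choose W k hs using hsol
  exact (isSol_glue hf D W (fun a => k a PUnit.unit) (fun a => hs a)).isEffective

/-- Every descent datum relative to a flat, surjective, quasi-compact and universally injective
morphism is effective. -/
theorem main {S' S : Scheme.{u}} (g : S' ⟶ S) [Flat g] [Surjective g] [QuasiCompact g]
    [UniversallyInjective g] (D : SchDD g) : ∃ U : Over S, Nonempty ((toDD g).obj U ≅ D) := by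
  rw [Groth.Agent.H51.AffEff.eff_iff]
  refine Groth.Agent.H65.DescLoc.isEffective_of_affineOpens (fun _ : PUnit.{u + 1} => g)
    (Groth.Agent.H51.DescAssemble.mem_fpqc_single g) _ (fun a => ?_)
  haveI : IsAffine (a.1 : Scheme.{u}) := a.2
  haveI : QuasiCompact (pullback.snd g a.1.ι) := MorphismProperty.pullback_snd _ _ inferInstance
  haveI : Flat (pullback.snd g a.1.ι) := MorphismProperty.pullback_snd _ _ inferInstance
  haveI : Surjective (pullback.snd g a.1.ι) := MorphismProperty.pullback_snd _ _ inferInstance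
  haveI : UniversallyInjective (pullback.snd g a.1.ι) :=
    MorphismProperty.pullback_snd _ _ inferInstance
  haveI : IsAffineHom (pullback.snd g a.1.ι) := isAffineHom_of_radicial_fpqc _
  haveI : IsAffine (pullback g a.1.ι) := isAffine_of_isAffineHom (pullback.snd g a.1.ι)
  exact isEffective_of_affine (pullback.snd g a.1.ι) _

end Groth.Agent.H68.RadDesc
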