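import Mathlib
import Groth.Agent.H68.TopInv
import Groth.Agent.S2912
import Groth.Agent.S0415

/-!
Helper library (helper68) for S5115: descent of étale schemes along a faithfully flat,
quasi-compact, radicial morphism `g : S' ⟶ S`.

* `isIntegralHom` : such a `g` is a universal homeomorphism, hence integral.
* `Rel` : two points `v, w : T ⟶ X'` of an `S'`-scheme are related if they agree after
  restriction along some surjective morphism `E ⟶ T`.  For `X'` étale over `S'` and
  `x₀ ≫ g = x₁ ≫ g`, every point over `x₀` is related to exactly one point over `x₁`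
  (topological invariance of étale morphisms along the thickening `Eq(x₀, x₁) ⟶ T`); this is
  a descent datum `dd g X'` on ANY étale `X'`.
* `exists_descent` : every étale `S'`-scheme is the base change of an étale `S`-scheme.
-/

set_option autoImplicit false
universe u
open CategoryTheory CategoryTheory.Limits AlgebraicGeometry Desc

namespace Groth.Agent.H68.RadEt

variable {S S' : Scheme.{u}} (g : S' ⟶ S)

theorem isUnivHomeo [Flat g] [Surjective g] [QuasiCompact g] [UniversallyInjective g] :
    FlatMor.IsUnivHomeo g := by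
  intro X' Y' i₁ i₂ g' hpb
  haveI : Flat g' := MorphismProperty.of_isPullback (P := @Flat) hpb.flip inferInstance
  haveI : Surjective g' := MorphismProperty.of_isPullback (P := @Surjective) hpb.flip inferInstance
  haveI : QuasiCompact g' :=
    MorphismProperty.of_isPullback (P := @QuasiCompact) hpb.flip inferInstance
  haveI : UniversallyInjective g' :=
    MorphismProperty.of_isPullback (P := @UniversallyInjective) hpb.flip inferInstance
  change IsHomeomorph g'
  rw [isHomeomorph_iff_isQuotientMap_injective]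
  exact ⟨Flat.isQuotientMap_of_surjective g', g'.injective⟩

theorem isIntegralHom [Flat g] [Surjective g] [QuasiCompact g] [UniversallyInjective g] :
    IsIntegralHom g :=
  ((Groth.Agent.S0415.result g).mp (isUnivHomeo g)).1

section Rel

variable {X' : Over S'} {T : Scheme.{u}}

/-- Two `T`-points of `X'` agree after restriction along a surjective morphism. -/
def Rel {x₀ x₁ : T ⟶ S'} (v : Lifts X' x₀) (w : Lifts X' x₁) : Prop :=
  ∃ (E : Scheme.{u}) (i : E ⟶ T), Surjective i ∧ i ≫ v.1 = i ≫ w.1

theorem Rel.refl {x₀ : T ⟶ S'} (v : Lifts X' x₀) : Rel v v :=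
  ⟨T, 𝟙 T, inferInstance, rfl⟩

theorem Rel.symm {x₀ x₁ : T ⟶ S'} {v : Lifts X' x₀} {w : Lifts X' x₁} (h : Rel v w) : Rel w v := by
  obtain ⟨E, i, hi, h⟩ := h
  exact ⟨E, i, hi, h.symm⟩

theorem Rel.trans {x₀ x₁ x₂ : T ⟶ S'} {v : Lifts X' x₀} {w : Lifts X' x₁} {z : Lifts X' x₂}
    (h : Rel v w) (h' : Rel w z) : Rel v z := by
  obtain ⟨E, i, hi, h⟩ := h
  obtain ⟨E', i', hi', h'⟩ := h'
  haveI := hi
  haveI := hi'
  refine ⟨pullback i i', pullback.fst i i' ≫ i, inferInstance, ?_⟩
  rw [Category.assoc, h, ← Category.assoc, pullback.condition, Category.assoc, h',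
    ← Category.assoc, ← pullback.condition, Category.assoc]

theorem Rel.pre {T' : Scheme.{u}} (a : T' ⟶ T) {x₀ x₁ : T ⟶ S'} {v : Lifts X' x₀}
    {w : Lifts X' x₁} (h : Rel v w) {v' : Lifts X' (a ≫ x₀)} {w' : Lifts X' (a ≫ x₁)}
    (hv : v'.1 = a ≫ v.1) (hw : w'.1 = a ≫ w.1) : Rel v' w' := by
  obtain ⟨E, i, hi, h⟩ := h
  haveI := hi
  refine ⟨pullback i a, pullback.snd i a, inferInstance, ?_⟩
  rw [hv, hw, ← Category.assoc, ← pullback.condition, Category.assoc, h, ← Category.assoc,
    pullback.condition, Category.assoc]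

theorem Rel.unique [IsOpenImmersion (pullback.diagonal X'.hom)] {x₀ x₁ : T ⟶ S'}
    {v : Lifts X' x₀} {w w' : Lifts X' x₁} (h : Rel v w) (h' : Rel v w') : w = w' := by
  obtain ⟨E, i, hi, hE⟩ := h.symm.trans h'
  haveI := hi
  exact Subtype.ext (Groth.Agent.H68.TopInv.inj X'.hom i w.1 w'.1 (w.2.trans w'.2.symm) hE)

end Rel

section DD

variable [Flat g] [Surjective g] [QuasiCompact g] [UniversallyInjective g]
variable (X' : Over S') [Etale X'.hom]

theorem Rel.exists {T : Scheme.{u}} (x₀ x₁ : T ⟶ S') (h : x₀ ≫ g = x₁ ≫ g) (v : Lifts X' x₀) :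
    ∃ w : Lifts X' x₁, Rel v w := by
  haveI : IsIntegralHom g := isIntegralHom g
  haveI : Surjective (pullback.diagonal g) := (UniversallyInjective.iff_diagonal g).mp inferInstance
  let i : pullback (pullback.diagonal g) (pullback.lift x₀ x₁ h) ⟶ T := pullback.snd _ _
  have hi0 : i ≫ x₀ = pullback.fst (pullback.diagonal g) (pullback.lift x₀ x₁ h) := by
    have := pullback.condition (f := pullback.diagonal g) (g := pullback.lift x₀ x₁ h)
    have h2 := congrArg (· ≫ pullback.fst g g) this
    simp only [Category.assoc, pullback.diagonal_fst, pullback.lift_fst, Category.comp_id] at h2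
    exact h2.symm
  have hi1 : i ≫ x₁ = pullback.fst (pullback.diagonal g) (pullback.lift x₀ x₁ h) := by
    have := pullback.condition (f := pullback.diagonal g) (g := pullback.lift x₀ x₁ h)
    have h2 := congrArg (· ≫ pullback.snd g g) this
    simp only [Category.assoc, pullback.diagonal_snd, pullback.lift_snd, Category.comp_id] at h2
    exact h2.symm
  obtain ⟨φ, h1, h2⟩ := Groth.Agent.H68.TopInv.surj X'.hom x₁ i (i ≫ v.1) (by
    rw [Category.assoc, v.2, hi0, hi1])
  exact ⟨⟨φ, h1⟩, _, i, inferInstance, h2.symm⟩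

instance : IsOpenImmersion (pullback.diagonal X'.hom) := inferInstance

/-- The (unique) descent datum on an étale `S'`-scheme relative to a faithfully flat,
quasi-compact, radicial `g : S' ⟶ S`. -/
noncomputable def dd : SchDD g where
  obj := X'
  φ T x₀ x₁ h :=
    { toFun := fun v => (Rel.exists g X' x₀ x₁ h v).choose
      invFun := fun w => (Rel.exists g X' x₁ x₀ h.symm w).choose
      left_inv := fun v =>
        Rel.unique (v := v) (((Rel.exists g X' x₀ x₁ h v).choose_spec).trans
          (Rel.exists g X' x₁ x₀ h.symm _).choose_spec) (Rel.refl v)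
      right_inv := fun w =>
        Rel.unique (v := w) (((Rel.exists g X' x₁ x₀ h.symm w).choose_spec).trans
          (Rel.exists g X' x₀ x₁ h _).choose_spec) (Rel.refl w) }
  φ_natural T T' a x₀ x₁ h h' v v' hv := by
    have r1 := (Rel.exists g X' (a ≫ x₀) (a ≫ x₁) h' v').choose_spec
    have r2 : Rel v' (⟨a ≫ (Rel.exists g X' x₀ x₁ h v).choose.1, by
        rw [Category.assoc, (Rel.exists g X' x₀ x₁ h v).choose.2]⟩ : Lifts X' (a ≫ x₁)) :=
      Rel.pre a (Rel.exists g X' x₀ x₁ h v).choose_spec hv rfl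
    exact congrArg Subtype.val (Rel.unique r1 r2)
  φ_self T x v := Rel.unique (v := v) (Rel.exists g X' x x rfl v).choose_spec (Rel.refl v)
  φ_comp T x₀ x₁ x₂ h₀₁ h₁₂ v :=
    Rel.unique (v := v) (((Rel.exists g X' x₀ x₁ h₀₁ v).choose_spec).trans
      (Rel.exists g X' x₁ x₂ h₁₂ _).choose_spec)
      (Rel.exists g X' x₀ x₂ (h₀₁.trans h₁₂) v).choose_spec

/-- Every étale `S'`-scheme descends to an étale `S`-scheme. -/
theorem exists_descent : ∃ (U : Over S), Etale U.hom ∧
    Nonempty (Over.mk (pullback.snd U.hom g) ≅ X') := by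
  obtain ⟨U, ⟨e⟩⟩ := Groth.Agent.S2912.result g (dd g X')
  have e1 : e.hom.hom ≫ e.inv.hom = 𝟙 _ := by
    rw [← SchDD.comp_hom, e.hom_inv_id]; rfl
  have e2 : e.inv.hom ≫ e.hom.hom = 𝟙 _ := by
    rw [← SchDD.comp_hom, e.inv_hom_id]; rfl
  let eo : Over.mk (pullback.fst g U.hom) ≅ X' := ⟨e.hom.hom, e.inv.hom, e1, e2⟩
  have hw : pullback.fst g U.hom = eo.hom.left ≫ X'.hom := (Over.w eo.hom).symm
  haveI : IsIso eo.hom.left := ⟨⟨eo.inv.left, by rw [← Over.comp_left, eo.hom_inv_id]; rfl,
    by rw [← Over.comp_left, eo.inv_hom_id]; rfl⟩⟩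
  have het : Etale (pullback.fst g U.hom) := by
    rw [hw]; infer_instance
  have hU : Etale U.hom :=
    MorphismProperty.of_pullback_fst_of_descendsAlong (P := @Etale)
      (Q := @Surjective ⊓ @Flat ⊓ @QuasiCompact) (f := g) (g := U.hom)
      ⟨⟨inferInstance, inferInstance⟩, inferInstance⟩ het
  refine ⟨U, hU, ⟨?_ ≪≫ eo⟩⟩
  exact Over.isoMk (pullbackSymmetry U.hom g) (by simp)

end DD

end Groth.Agent.H68.RadEt
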