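import Mathlib

/-!
# Connected components of spectral spaces

For a compact quasi-separated space with a basis of compact opens (e.g. a qcqs scheme):
* `cc_eq_iInter_isClopen`: the connected component of a point is the intersection of its clopen
  neighbourhoods (Stacks 04PL);
* `t2_connectedComponents`: `ConnectedComponents X` is Hausdorff;
* `isHomeomorph_connectedComponentsMap`: a continuous map inducing a bijection on clopen subsets
  induces a homeomorphism on `π₀`.
-/

set_option autoImplicit false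

open Set Topology Function

namespace Groth.Agent.H68.SpecPi0

variable {X : Type*} [TopologicalSpace X]

/-- in a prespectral space a compact set inside an open set lies in a compact open subset of it -/
lemma exists_compact_open_between [PrespectralSpace X] {K u : Set X} (hK : IsCompact K)
    (hu : IsOpen u) (hKu : K ⊆ u) :
    ∃ U, IsOpen U ∧ IsCompact U ∧ K ⊆ U ∧ U ⊆ u := by
  have hB := PrespectralSpace.isTopologicalBasis (X := X)
  choose! c hc using fun x (hx : x ∈ K) => hB.exists_subset_of_mem_open (hKu hx) hu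
  obtain ⟨b', hb'K, hb'fin, hcov⟩ := hK.elim_finite_subcover_image (b := K) (c := c)
    (fun x hx => (hc x hx).1.1) (fun x hx => mem_iUnion₂.2 ⟨x, hx, (hc x hx).2.1⟩)
  exact ⟨⋃ i ∈ b', c i, isOpen_biUnion fun i hi => (hc i (hb'K hi)).1.1,
    hb'fin.isCompact_biUnion fun i hi => (hc i (hb'K hi)).1.2, hcov,
    iUnion₂_subset fun i hi => (hc i (hb'K hi)).2.2⟩

/-- Stacks 04PL: in a spectral space the connected component of a point is the intersection of
its clopen neighbourhoods. -/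
theorem cc_eq_iInter_isClopen [CompactSpace X] [QuasiSeparatedSpace X] [PrespectralSpace X]
    (x : X) :
    connectedComponent x = ⋂ s : { s : Set X // IsClopen s ∧ x ∈ s }, (s : Set X) := by
  apply Subset.antisymm connectedComponent_subset_iInter_isClopen
  refine IsPreconnected.subset_connectedComponent ?_ (mem_iInter.2 fun s => s.2.2)
  have hS : IsClosed (⋂ s : { s : Set X // IsClopen s ∧ x ∈ s }, (s : Set X)) :=
    isClosed_iInter fun s => s.2.1.1
  have hxS : x ∈ ⋂ s : { s : Set X // IsClopen s ∧ x ∈ s }, (s : Set X) :=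
    mem_iInter.2 fun s => s.2.2
  rw [isPreconnected_iff_subset_of_fully_disjoint_closed hS]
  generalize hSdef : (⋂ s : { s : Set X // IsClopen s ∧ x ∈ s }, (s : Set X)) = S at hS hxS ⊢
  intro a b ha hb hab ab_disj
  have hdisj : ∀ y, y ∈ a → y ∈ b → False := fun y hya hyb => Set.disjoint_left.1 ab_disj hya hyb
  have hBu : S ∩ a ⊆ bᶜ := fun y hy hyb => hdisj y hy.2 hyb
  have hCv : S ∩ b ⊆ aᶜ := fun y hy hya => hdisj y hya hy.2
  obtain ⟨U, hUo, hUc, hBU, hUu⟩ :=
    exists_compact_open_between (hS.inter ha).isCompact hb.isOpen_compl hBu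
  obtain ⟨V, hVo, hVc, hCV, hVv⟩ :=
    exists_compact_open_between (hS.inter hb).isCompact ha.isOpen_compl hCv
  have hSUV : S ⊆ U ∪ V := fun y hy =>
    (hab hy).imp (fun h => hBU ⟨hy, h⟩) (fun h => hCV ⟨hy, h⟩)
  have hUVS : U ∩ V ∩ S = ∅ := by
    rw [Set.eq_empty_iff_forall_notMem]
    rintro y ⟨⟨hyU, hyV⟩, hyS⟩
    rcases hab hyS with h | h
    · exact hVv hyV h
    · exact hUu hyU h
  have hUVc : IsCompact (U ∩ V) := QuasiSeparatedSpace.inter_isCompact U V hUo hUc hVo hVc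
  obtain ⟨F₁, hF₁⟩ := hUVc.elim_finite_subfamily_closed
    (fun s : { s : Set X // IsClopen s ∧ x ∈ s } => (s : Set X)) (fun s => s.2.1.1)
    (by rw [hSdef]; exact hUVS)
  have hcompl : IsCompact (U ∪ V)ᶜ := (hUo.union hVo).isClosed_compl.isCompact
  have hcomplS : (U ∪ V)ᶜ ∩ S = ∅ := by
    rw [Set.eq_empty_iff_forall_notMem]
    rintro y ⟨hy, hyS⟩
    exact hy (hSUV hyS)
  obtain ⟨F₂, hF₂⟩ := hcompl.elim_finite_subfamily_closed
    (fun s : { s : Set X // IsClopen s ∧ x ∈ s } => (s : Set X)) (fun s => s.2.1.1)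
    (by rw [hSdef]; exact hcomplS)
  have hZ₁ : IsClopen (⋂ i ∈ F₁, ((i : { s : Set X // IsClopen s ∧ x ∈ s }) : Set X)) :=
    isClopen_biInter_finset fun i _ => i.2.1
  have hZ₂ : IsClopen (⋂ i ∈ F₂, ((i : { s : Set X // IsClopen s ∧ x ∈ s }) : Set X)) :=
    isClopen_biInter_finset fun i _ => i.2.1
  have hx₁ : x ∈ ⋂ i ∈ F₁, ((i : { s : Set X // IsClopen s ∧ x ∈ s }) : Set X) :=
    mem_iInter₂.2 fun i _ => i.2.2
  have hx₂ : x ∈ ⋂ i ∈ F₂, ((i : { s : Set X // IsClopen s ∧ x ∈ s }) : Set X) :=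
    mem_iInter₂.2 fun i _ => i.2.2
  generalize (⋂ i ∈ F₁, ((i : { s : Set X // IsClopen s ∧ x ∈ s }) : Set X)) = Z₁
    at hF₁ hZ₁ hx₁
  generalize (⋂ i ∈ F₂, ((i : { s : Set X // IsClopen s ∧ x ∈ s }) : Set X)) = Z₂
    at hF₂ hZ₂ hx₂
  have hZ : IsClopen (Z₁ ∩ Z₂) := hZ₁.inter hZ₂
  have hxZ : x ∈ Z₁ ∩ Z₂ := ⟨hx₁, hx₂⟩
  have hZUV : Z₁ ∩ Z₂ ⊆ U ∪ V := by
    intro y hy
    by_contra hn
    have : y ∈ (U ∪ V)ᶜ ∩ Z₂ := ⟨hn, hy.2⟩
    rw [hF₂] at this
    exact this
  have hZdisj : ∀ y ∈ Z₁ ∩ Z₂, y ∈ U → y ∈ V → False := by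
    intro y hy hyU hyV
    have : y ∈ U ∩ V ∩ Z₁ := ⟨⟨hyU, hyV⟩, hy.1⟩
    rw [hF₁] at this
    exact this
  have hZU : IsClopen (Z₁ ∩ Z₂ ∩ U) := by
    refine ⟨?_, hZ.2.inter hUo⟩
    have : Z₁ ∩ Z₂ ∩ U = Z₁ ∩ Z₂ ∩ Vᶜ := by
      ext y
      constructor
      · rintro ⟨hyZ, hyU⟩
        exact ⟨hyZ, fun hyV => hZdisj y hyZ hyU hyV⟩
      · rintro ⟨hyZ, hyV⟩
        exact ⟨hyZ, (hZUV hyZ).resolve_right hyV⟩
    rw [this]
    exact hZ.1.inter hVo.isClosed_compl
  have hZV : IsClopen (Z₁ ∩ Z₂ ∩ V) := by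
    refine ⟨?_, hZ.2.inter hVo⟩
    have : Z₁ ∩ Z₂ ∩ V = Z₁ ∩ Z₂ ∩ Uᶜ := by
      ext y
      constructor
      · rintro ⟨hyZ, hyV⟩
        exact ⟨hyZ, fun hyU => hZdisj y hyZ hyU hyV⟩
      · rintro ⟨hyZ, hyU⟩
        exact ⟨hyZ, (hZUV hyZ).resolve_left hyU⟩
    rw [this]
    exact hZ.1.inter hUo.isClosed_compl
  have hSZ : ∀ W : Set X, IsClopen W → x ∈ W → S ⊆ W := by
    intro W hW hxW
    rw [← hSdef]
    exact iInter_subset (fun s : { s : Set X // IsClopen s ∧ x ∈ s } => (s : Set X))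
      ⟨W, hW, hxW⟩
  rcases hSUV hxS with hxU | hxV
  · left
    have hSU : S ⊆ Z₁ ∩ Z₂ ∩ U := hSZ _ hZU ⟨hxZ, hxU⟩
    intro y hy
    rcases hab hy with h | h
    · exact h
    · exact (hZdisj y (hSU hy).1 (hSU hy).2 (hCV ⟨hy, h⟩)).elim
  · right
    have hSV : S ⊆ Z₁ ∩ Z₂ ∩ V := hSZ _ hZV ⟨hxZ, hxV⟩
    intro y hy
    rcases hab hy with h | h
    · exact (hZdisj y (hSV hy).1 (hBU ⟨hy, h⟩) (hSV hy).2).elim
    · exact h

/-- `π₀` of a spectral space is Hausdorff -/
theorem t2_connectedComponents [CompactSpace X] [QuasiSeparatedSpace X] [PrespectralSpace X] :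
    T2Space (ConnectedComponents X) := by
  refine ⟨ConnectedComponents.surjective_coe.forall₂.2 fun a b ne => ?_⟩
  rw [ConnectedComponents.coe_ne_coe] at ne
  have h := connectedComponent_disjoint ne
  rw [cc_eq_iInter_isClopen b, disjoint_iff_inter_eq_empty] at h
  obtain ⟨U, V, hU, ha, hb, rfl⟩ : ∃ (U : Set X) (V : Set (ConnectedComponents X)),
      IsClopen U ∧ connectedComponent a ∩ U = ∅ ∧ connectedComponent b ⊆ U ∧ (↑) ⁻¹' V = U := by
    have h :=
      (isClosed_connectedComponent (α := X)).isCompact.elim_finite_subfamily_closed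
        _ (fun s : { s : Set X // IsClopen s ∧ b ∈ s } => s.2.1.1) h
    obtain ⟨fin_a, ha⟩ := h
    set U : Set X := ⋂ (i : { s // IsClopen s ∧ b ∈ s }) (_ : i ∈ fin_a), i
    have hU : IsClopen U := isClopen_biInter_finset fun i _ => i.2.1
    exact ⟨U, (↑) '' U, hU, ha, subset_iInter₂ fun s _ => s.2.1.connectedComponent_subset s.2.2,
      (connectedComponents_preimage_image U).symm ▸ hU.biUnion_connectedComponent_eq⟩
  rw [ConnectedComponents.isQuotientMap_coe.isClopen_preimage] at hU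
  refine ⟨Vᶜ, V, hU.compl.isOpen, hU.isOpen, ?_, hb mem_connectedComponent, disjoint_compl_left⟩
  exact fun h => flip Set.Nonempty.ne_empty ha ⟨a, mem_connectedComponent, h⟩

/-- A continuous map of spectral spaces which induces a bijection on clopen subsets induces a
homeomorphism on spaces of connected components. -/
theorem isHomeomorph_connectedComponentsMap {X Y : Type*} [TopologicalSpace X]
    [TopologicalSpace Y] [CompactSpace X] [QuasiSeparatedSpace X] [PrespectralSpace X]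
    [CompactSpace Y] [QuasiSeparatedSpace Y] [PrespectralSpace Y]
    {f : X → Y} (hf : Continuous f)
    (hsurj : ∀ V : Set X, IsClopen V → ∃ U : Set Y, IsClopen U ∧ f ⁻¹' U = V)
    (hinj : ∀ U : Set Y, IsClopen U → f ⁻¹' U = ∅ → U = ∅) :
    IsHomeomorph hf.connectedComponentsMap := by
  haveI : T2Space (ConnectedComponents Y) := t2_connectedComponents
  rw [isHomeomorph_iff_continuous_bijective]
  refine ⟨hf.connectedComponentsMap_continuous, ?_, ?_⟩
  · intro a b hab
    obtain ⟨a, rfl⟩ := ConnectedComponents.surjective_coe a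
    obtain ⟨b, rfl⟩ := ConnectedComponents.surjective_coe b
    rw [Continuous.connectedComponentsMap_mk, Continuous.connectedComponentsMap_mk,
      ConnectedComponents.coe_eq_coe'] at hab
    rw [ConnectedComponents.coe_eq_coe', cc_eq_iInter_isClopen b, mem_iInter]
    rintro ⟨V, hV, hbV⟩
    obtain ⟨U, hU, rfl⟩ := hsurj V hV
    have hsub : connectedComponent (f b) ⊆ U := hU.connectedComponent_subset hbV
    exact hsub hab
  · intro c
    obtain ⟨y, rfl⟩ := ConnectedComponents.surjective_coe c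
    have key : (univ ∩ ⋂ s : { s : Set Y // IsClopen s ∧ y ∈ s }, f ⁻¹' (s : Set Y)).Nonempty := by
      refine isCompact_univ.inter_iInter_nonempty _ (fun s => s.2.1.1.preimage hf) ?_
      intro F
      have hW : IsClopen (⋂ i ∈ F, ((i : { s : Set Y // IsClopen s ∧ y ∈ s }) : Set Y)) :=
        isClopen_biInter_finset fun i _ => i.2.1
      have hyW : y ∈ ⋂ i ∈ F, ((i : { s : Set Y // IsClopen s ∧ y ∈ s }) : Set Y) :=
        mem_iInter₂.2 fun i _ => i.2.2
      by_contra hne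
      rw [not_nonempty_iff_eq_empty, univ_inter] at hne
      have h0 : f ⁻¹' (⋂ i ∈ F, ((i : { s : Set Y // IsClopen s ∧ y ∈ s }) : Set Y)) = ∅ := by
        rw [preimage_iInter₂]
        exact hne
      have h1 := hinj _ hW h0
      rw [h1] at hyW
      exact hyW
    obtain ⟨x, -, hx⟩ := key
    refine ⟨ConnectedComponents.mk x, ?_⟩
    rw [Continuous.connectedComponentsMap_mk, ConnectedComponents.coe_eq_coe',
      cc_eq_iInter_isClopen y]
    rw [mem_iInter] at hx ⊢
    exact hx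

end Groth.Agent.H68.SpecPi0
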