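import Mathlib

set_option autoImplicit false
universe u
open CategoryTheory CategoryTheory.Limits AlgebraicGeometry TopologicalSpace

namespace Groth.Agent.H68.SplitEtale

/-- decomposition as a coproduct of opens of the target from a disjoint open cover of the source
on whose pieces the map is an open immersion. -/
theorem decomp_of_cover {V Z : Scheme.{u}} (φ : V ⟶ Z) {ι : Type u} (T : ι → V.Opens)
    (hcov : ⨆ i, T i = ⊤) (hdisj : Pairwise (Function.onFun Disjoint T))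
    (hT : ∀ i, IsOpenImmersion ((T i).ι ≫ φ)) :
    ∃ (W : ι → Z.Opens) (e : (∐ fun i => (W i : Scheme.{u})) ≅ V),
      ∀ i, Sigma.ι (fun i => (W i : Scheme.{u})) i ≫ e.hom ≫ φ = (W i).ι := by
  let W : ι → Z.Opens := fun i => ((T i).ι ≫ φ).opensRange
  let f : ∀ i, (W i).toScheme ⟶ V := fun i => ((T i).ι ≫ φ).isoOpensRange.inv ≫ (T i).ι
  have hf : ∀ i, f i ≫ φ = (W i).ι := fun i => by
    simp only [f, Category.assoc]
    exact Scheme.Hom.isoOpensRange_inv_comp _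
  have hr : ∀ i, (f i).opensRange = T i := fun i => by
    simp only [f]
    rw [Scheme.Hom.opensRange_comp_of_isIso, Scheme.Opens.opensRange_ι]
  obtain ⟨hc⟩ := nonempty_isColimit_cofanMk_of f (by simpa only [hr] using hcov)
    (by
      intro i j hij
      simp only [Function.onFun, hr]
      exact hdisj hij)
  let e : (∐ fun i => ((W i).toScheme)) ≅ V :=
    (coproductIsCoproduct _).coconePointUniqueUpToIso hc
  have he : ∀ i, Sigma.ι (fun i => ((W i).toScheme)) i ≫ e.hom = f i := fun i =>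
    (coproductIsCoproduct _).comp_coconePointUniqueUpToIso_hom hc ⟨i⟩
  refine ⟨W, e, fun i => ?_⟩
  rw [← Category.assoc, he, hf]

/-- two maps from an integral scheme to a separated scheme over `X` which agree over `X` and both
land at some point in an open piece mapping monomorphically to `X` are equal. -/
theorem eq_of_agree {U X T V₀ : Scheme.{u}} (g : U ⟶ X) [IsSeparated g] [IsIntegral T]
    (s₀ : V₀ ⟶ U) [IsOpenImmersion s₀] [Mono (s₀ ≫ g)]
    (a b : T ⟶ U) (hab : a ≫ g = b ≫ g) (t : T) (hat : a t ∈ Set.range s₀)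
    (hbt : b t ∈ Set.range s₀) : a = b := by
  let M : T.Opens := a ⁻¹ᵁ s₀.opensRange ⊓ b ⁻¹ᵁ s₀.opensRange
  have htM : t ∈ M := ⟨hat, hbt⟩
  have hra : Set.range (M.ι ≫ a) ⊆ Set.range s₀ := by
    rintro _ ⟨m, rfl⟩
    exact m.2.1
  have hrb : Set.range (M.ι ≫ b) ⊆ Set.range s₀ := by
    rintro _ ⟨m, rfl⟩
    exact m.2.2
  have h1 : IsOpenImmersion.lift s₀ (M.ι ≫ a) hra = IsOpenImmersion.lift s₀ (M.ι ≫ b) hrb := by
    rw [← cancel_mono (s₀ ≫ g), ← Category.assoc, ← Category.assoc, IsOpenImmersion.lift_fac,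
      IsOpenImmersion.lift_fac, Category.assoc, Category.assoc, hab]
  have hM : M.ι ≫ a = M.ι ≫ b := by
    rw [← IsOpenImmersion.lift_fac s₀ (M.ι ≫ a) hra, ← IsOpenImmersion.lift_fac s₀ (M.ι ≫ b) hrb,
      h1]
  haveI : IsDominant M.ι := by
    refine ⟨?_⟩
    rw [DenseRange, Scheme.Opens.range_ι]
    exact IsOpen.dense M.2 ⟨t, htM⟩
  exact ext_of_isDominant_of_isSeparated g hab M.ι hM

variable {U X : Scheme.{u}} (g : U ⟶ X)

/-- a local section of `g` -/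
structure Sec where
  V : X.Opens
  s : V.toScheme ⟶ U
  hs : s ≫ g = V.ι

namespace Sec
variable {g}

theorem g_apply (σ : Sec g) (p : σ.V) : g (σ.s p) = p.1 := by
  rw [← Scheme.Hom.comp_apply, σ.hs]
  rfl

theorem s_g_apply (σ : Sec g) {u : U} (hu : u ∈ Set.range σ.s) :
    ∃ h : g u ∈ σ.V, σ.s ⟨g u, h⟩ = u := by
  obtain ⟨p, rfl⟩ := hu
  have h := σ.g_apply p
  refine ⟨h ▸ p.2, ?_⟩
  congr 1
  exact Subtype.ext h

instance (σ : Sec g) : Mono (σ.s ≫ g) := by rw [σ.hs]; infer_instance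

instance (σ : Sec g) : IsOpenImmersion (σ.s ≫ g) := by rw [σ.hs]; infer_instance

instance [Etale g] (σ : Sec g) : IsOpenImmersion σ.s := by
  haveI : Etale (σ.s ≫ g) := by rw [σ.hs]; infer_instance
  haveI : Etale σ.s := Etale.of_comp (f := σ.s) g
  haveI : Mono σ.s := mono_of_mono_fac σ.hs
  exact IsOpenImmersion.of_flat_of_mono σ.s

theorem isIso_stalkMap [Etale g] (σ : Sec g) {u : U} (hu : u ∈ Set.range σ.s) :
    IsIso (g.stalkMap u) := by
  obtain ⟨p, rfl⟩ := hu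
  have h := Scheme.Hom.stalkMap_comp σ.s g p
  haveI : IsOpenImmersion (σ.s ≫ g) := by rw [σ.hs]; infer_instance
  have h2 : IsIso (g.stalkMap (σ.s p) ≫ σ.s.stalkMap p) := by
    have h3 : IsIso ((σ.s ≫ g).stalkMap p) := inferInstance
    rw [h] at h3
    exact h3
  exact (isIso_comp_right_iff (g.stalkMap (σ.s p)) (σ.s.stalkMap p)).mp h2

theorem agree [Etale g] [IsSeparated g] [IsIntegral X] (σ σ' : Sec g) (x : X) (hx : x ∈ σ.V)
    (hx' : x ∈ σ'.V) (h : σ'.s ⟨x, hx'⟩ ∈ Set.range σ.s) (y : X) (hy : y ∈ σ.V) (hy' : y ∈ σ'.V) :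
    σ.s ⟨y, hy⟩ = σ'.s ⟨y, hy'⟩ := by
  haveI : Nonempty (σ.V ⊓ σ'.V : X.Opens) := ⟨⟨x, hx, hx'⟩⟩
  haveI : IsIntegral (σ.V ⊓ σ'.V : X.Opens).toScheme :=
    isIntegral_of_isOpenImmersion (σ.V ⊓ σ'.V : X.Opens).ι
  let a : (σ.V ⊓ σ'.V : X.Opens).toScheme ⟶ U := X.homOfLE inf_le_left ≫ σ.s
  let b : (σ.V ⊓ σ'.V : X.Opens).toScheme ⟶ U := X.homOfLE inf_le_right ≫ σ'.s
  have hab : a ≫ g = b ≫ g := by
    simp only [a, b, Category.assoc, σ.hs, σ'.hs, Scheme.homOfLE_ι]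
  have key : a = b := by
    refine eq_of_agree g σ.s a b hab ⟨x, hx, hx'⟩ ?_ ?_
    · refine ⟨⟨x, hx⟩, ?_⟩
      simp only [a, Scheme.Hom.comp_apply]
      rw [Scheme.homOfLE_apply']
    · simp only [b, Scheme.Hom.comp_apply]
      rw [Scheme.homOfLE_apply']
      exact h
  have := congr($key ⟨y, hy, hy'⟩)
  simp only [a, b, Scheme.Hom.comp_apply] at this
  rw [Scheme.homOfLE_apply', Scheme.homOfLE_apply'] at this
  exact this

end Sec

/-- the open piece attached to a point `ξ` -/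
def T [Etale g] (ξ : U) : U.Opens := ⨆ σ : {σ : Sec g // ξ ∈ Set.range σ.s}, σ.1.s.opensRange

theorem mem_T [Etale g] {ξ u : U} : u ∈ T g ξ ↔ ∃ σ : Sec g, ξ ∈ Set.range σ.s ∧ u ∈ Set.range σ.s := by
  simp only [T, Opens.mem_iSup, Subtype.exists]
  constructor
  · rintro ⟨σ, h1, h2⟩
    exact ⟨σ, h1, h2⟩
  · rintro ⟨σ, h1, h2⟩
    exact ⟨σ, h1, h2⟩

theorem split_cover [IsIntegral X] [Etale g] [IsSeparated g]
    (hsec : ∀ u : U, ∃ (V : X.Opens) (s : V.toScheme ⟶ U), s ≫ g = V.ι ∧ u ∈ Set.range s) :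
    ∃ (I : Type u) (T : I → U.Opens), (⨆ i, T i = ⊤) ∧ Pairwise (Function.onFun Disjoint T) ∧
      ∀ i, IsOpenImmersion ((T i).ι ≫ g) := by
  let η := genericPoint X
  have hη : ∀ (W : X.Opens) (x : X), x ∈ W → η ∈ W := fun W x hx =>
    ((genericPoint_spec X).mem_open_set_iff W.2).mpr ⟨x, trivial, hx⟩
  let I : Type u := {ξ : U // g ξ = η}
  -- cover
  have hcover : ∀ u : U, ∃ ξ : I, u ∈ T g ξ.1 := by
    intro u
    obtain ⟨V, s, hs, hu⟩ := hsec u
    let σ : Sec g := ⟨V, s, hs⟩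
    obtain ⟨hgu, -⟩ := σ.s_g_apply hu
    have hηV : η ∈ σ.V := hη _ _ hgu
    refine ⟨⟨σ.s ⟨η, hηV⟩, σ.g_apply _⟩, (mem_T g).mpr ⟨σ, ⟨_, rfl⟩, hu⟩⟩
  -- disjointness
  have hdisj : ∀ (ξ ξ' : I) (u : U), u ∈ T g ξ.1 → u ∈ T g ξ'.1 → ξ = ξ' := by
    intro ξ ξ' u h1 h2
    obtain ⟨σ, hξ, hu⟩ := (mem_T g).mp h1
    obtain ⟨σ', hξ', hu'⟩ := (mem_T g).mp h2
    obtain ⟨hx, e1⟩ := σ.s_g_apply hu
    obtain ⟨hx', e2⟩ := σ'.s_g_apply hu'
    obtain ⟨hy, e3⟩ := σ.s_g_apply hξ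
    obtain ⟨hy', e4⟩ := σ'.s_g_apply hξ'
    have hag := Sec.agree σ σ' (g u) hx hx' (by rw [e2]; exact hu)
    apply Subtype.ext
    rw [← e3, ← e4]
    have h5 : g ξ.1 = g ξ'.1 := ξ.2.trans ξ'.2.symm
    have := hag (g ξ.1) hy (h5 ▸ hy')
    rw [this]
    congr 1
    exact Subtype.ext h5
  -- injectivity
  have hinj : ∀ (ξ : I) (u u' : U), u ∈ T g ξ.1 → u' ∈ T g ξ.1 → g u = g u' → u = u' := by
    intro ξ u u' h1 h2 huu
    obtain ⟨σ, hξ, hu⟩ := (mem_T g).mp h1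
    obtain ⟨σ', hξ', hu'⟩ := (mem_T g).mp h2
    obtain ⟨hx, e1⟩ := σ.s_g_apply hu
    obtain ⟨hx', e2⟩ := σ'.s_g_apply hu'
    obtain ⟨hy, e3⟩ := σ.s_g_apply hξ
    obtain ⟨hy', e4⟩ := σ'.s_g_apply hξ'
    have hag := Sec.agree σ σ' (g ξ.1) hy hy' (by rw [e4]; exact hξ)
    rw [← e1, ← e2]
    have := hag (g u) hx (huu ▸ hx')
    rw [this]
    congr 1
    exact Subtype.ext huu
  have hOI : ∀ ξ : I, IsOpenImmersion ((T g ξ.1).ι ≫ g) := by
    intro ξ
    haveI : ∀ p : (T g ξ.1).toScheme, IsIso (((T g ξ.1).ι ≫ g).stalkMap p) := by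
      intro p
      obtain ⟨σ, -, hu⟩ := (mem_T g).mp p.2
      have h1 : IsIso (g.stalkMap ((T g ξ.1).ι p)) := σ.isIso_stalkMap hu
      rw [Scheme.Hom.stalkMap_comp]
      exact IsIso.comp_isIso' h1 inferInstance
    refine IsOpenImmersion.of_isIso_stalkMap _ ?_
    refine Topology.IsOpenEmbedding.of_continuous_injective_isOpenMap
      ((T g ξ.1).ι ≫ g).continuous ?_ ((T g ξ.1).ι ≫ g).isOpenMap
    intro p q hpq
    simp only [Scheme.Hom.comp_apply] at hpq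
    exact Subtype.ext (hinj ξ p.1 q.1 p.2 q.2 hpq)
  refine ⟨I, fun ξ : I => T g ξ.1, ?_, ?_, hOI⟩
  · exact eq_top_iff.mpr fun u _ => by
      obtain ⟨ξ, hξ⟩ := hcover u
      exact Opens.mem_iSup.mpr ⟨ξ, hξ⟩
  · intro ξ ξ' hne
    simp only [Function.onFun]
    rw [disjoint_iff_inf_le]
    intro u hu
    exact (hne (hdisj ξ ξ' u hu.1 hu.2)).elim

theorem split [IsIntegral X] [Etale g] [IsSeparated g]
    (hsec : ∀ u : U, ∃ (V : X.Opens) (s : V.toScheme ⟶ U), s ≫ g = V.ι ∧ u ∈ Set.range s) :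
    ∃ (ι : Type u) (V : ι → X.Opens) (e : (∐ fun i => (V i : Scheme.{u})) ≅ U),
      ∀ i, Sigma.ι (fun i => (V i : Scheme.{u})) i ≫ e.hom ≫ g = (V i).ι := by
  obtain ⟨I, T, hcov, hdisj, hOI⟩ := split_cover g hsec
  obtain ⟨W, e, he⟩ := decomp_of_cover g T hcov hdisj hOI
  exact ⟨I, W, e, he⟩

/-- pull back a disjoint open cover by open-immersion pieces along a cartesian square, keeping
only the nonempty pieces; finitely many if the source is quasi-compact. -/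
theorem pullback_cover {V Z U X : Scheme.{u}} {φ : V ⟶ Z} {j : V ⟶ U} {i : Z ⟶ X} {g : U ⟶ X}
    (hpb : IsPullback φ j i g) [CompactSpace V] {I : Type u} (T : I → U.Opens)
    (hcov : ⨆ k, T k = ⊤) (hdisj : Pairwise (Function.onFun Disjoint T))
    (hOI : ∀ k, IsOpenImmersion ((T k).ι ≫ g)) :
    ∃ (ι : Type u) (_ : Finite ι) (W : ι → Z.Opens) (e : (∐ fun k => (W k : Scheme.{u})) ≅ V),
      ∀ k, Sigma.ι (fun k => (W k : Scheme.{u})) k ≫ e.hom ≫ φ = (W k).ι := by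
  let T' : I → V.Opens := fun k => j ⁻¹ᵁ (T k)
  have hmem : ∀ v : V, ∃ k, v ∈ T' k := by
    intro v
    have : j v ∈ ⨆ k, T k := by rw [hcov]; trivial
    obtain ⟨k, hk⟩ := Opens.mem_iSup.mp this
    exact ⟨k, hk⟩
  have huniq : ∀ (v : V) (k k' : I), v ∈ T' k → v ∈ T' k' → k = k' := by
    intro v k k' h1 h2
    by_contra hne
    have := hdisj hne
    simp only [Function.onFun] at this
    rw [disjoint_iff_inf_le] at this
    exact this ⟨h1, h2⟩
  have hOI' : ∀ k, IsOpenImmersion ((T' k).ι ≫ φ) := by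
    intro k
    have h1 := (isPullback_morphismRestrict j (T k)).paste_vert hpb.flip
    exact MorphismProperty.of_isPullback (P := @IsOpenImmersion) h1 (hOI k)
  let ι := {k : I // ∃ v : V, v ∈ T' k}
  have hfin : Finite ι := by
    obtain ⟨F, hF⟩ := isCompact_univ.elim_finite_subcover (fun k => (T' k : Set V))
      (fun k => (T' k).2) (fun v _ => by
        obtain ⟨k, hk⟩ := hmem v
        exact Set.mem_iUnion.mpr ⟨k, hk⟩)
    have : ∀ k : ι, k.1 ∈ F := by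
      rintro ⟨k, v, hv⟩
      obtain ⟨k', hk', hv'⟩ := Set.mem_iUnion₂.mp (hF (Set.mem_univ v))
      have hkk := huniq v k k' hv hv'
      show k ∈ F
      rw [hkk]
      exact hk'
    exact Finite.of_injective (fun k : ι => (⟨k.1, this k⟩ : F))
      (fun a b hab => Subtype.ext (congrArg (fun x : F => x.1) hab))
  obtain ⟨W, e, he⟩ := decomp_of_cover φ (fun k : ι => T' k.1)
    (eq_top_iff.mpr fun v _ => by
      obtain ⟨k, hk⟩ := hmem v
      exact Opens.mem_iSup.mpr ⟨⟨k, v, hk⟩, hk⟩)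
    (by
      intro k k' hne
      simp only [Function.onFun]
      rw [disjoint_iff_inf_le]
      intro v hv
      exact (hne (Subtype.ext (huniq v k.1 k'.1 hv.1 hv.2))).elim)
    (fun k => hOI' k.1)
  exact ⟨ι, hfin, W, e, he⟩

end Groth.Agent.H68.SplitEtale
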