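import Groth.Agent.H68.RadDesc

/-!
# Gluing solutions of a descent datum along stable opens (helper68, for S9866)

A descent datum relative to an fpqc morphism `p : X ⟶ S` whose underlying scheme is covered by
stable opens on which the restricted datum is effective is effective.
-/

set_option autoImplicit false
set_option backward.isDefEq.respectTransparency false
set_option backward.isDefEq.respectTransparency.types false
universe u

open CategoryTheory CategoryTheory.Limits AlgebraicGeometry Desc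

namespace Groth.Agent.H68.StableGlue

open Groth.Agent.H51.DescCrit Groth.Agent.H65.DescLoc Groth.Agent.H68.RadDesc

variable {X S : Scheme.{u}} {p : X ⟶ S}

section Restr

variable (D : SchDDFam (fun _ : PUnit.{u + 1} => p))

/-- An open of the underlying scheme of a descent datum is stable if the gluing bijections preserve
the points landing in it. -/
def Stable (𝒪 : (D.obj PUnit.unit).left.Opens) : Prop :=
  ∀ ⦃T : Scheme.{u}⦄ (x₀ x₁ : T ⟶ X) (h : x₀ ≫ p = x₁ ≫ p) (v : Lifts (D.obj PUnit.unit) x₀),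
    Set.range v.1.base ⊆ 𝒪 → Set.range (Φ D x₀ x₁ h v).1.base ⊆ 𝒪

variable {D}
variable {𝒪 : (D.obj PUnit.unit).left.Opens} (h𝒪 : Stable D 𝒪)

theorem up_val' {T : Scheme.{u}} {x : T ⟶ X} (v : Lifts (robj D 𝒪) x) :
    (up D 𝒪 v).1 = v.1 ≫ 𝒪.ι := rfl

theorem up_injective' {T : Scheme.{u}} {x : T ⟶ X} (v v' : Lifts (robj D 𝒪) x)
    (h : up D 𝒪 v = up D 𝒪 v') : v = v' := by
  apply Subtype.ext
  have h1 : v.1 ≫ 𝒪.ι = v'.1 ≫ 𝒪.ι := congrArg Subtype.val h
  exact (cancel_mono 𝒪.ι).1 h1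

theorem range_up {T : Scheme.{u}} {x : T ⟶ X} (v : Lifts (robj D 𝒪) x) :
    Set.range (up D 𝒪 v).1.base ⊆ 𝒪 := by
  rintro _ ⟨τ, rfl⟩
  exact (v.1.base τ).2

include h𝒪 in
theorem range_Φ_up {T : Scheme.{u}} (x₀ x₁ : T ⟶ X) (h : x₀ ≫ p = x₁ ≫ p)
    (v : Lifts (robj D 𝒪) x₀) :
    Set.range (Φ D x₀ x₁ h (up D 𝒪 v)).1.base ⊆ Set.range 𝒪.ι.base := by
  have h1 := h𝒪 x₀ x₁ h (up D 𝒪 v) (range_up v)
  intro y hy
  have h2 : y ∈ 𝒪 := h1 hy
  exact ⟨⟨y, h2⟩, rfl⟩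

/-- The restricted gluing map. -/
noncomputable def rφ {T : Scheme.{u}} (x₀ x₁ : T ⟶ X) (h : x₀ ≫ p = x₁ ≫ p)
    (v : Lifts (robj D 𝒪) x₀) : Lifts (robj D 𝒪) x₁ :=
  ⟨IsOpenImmersion.lift 𝒪.ι (Φ D x₀ x₁ h (up D 𝒪 v)).1 (range_Φ_up h𝒪 x₀ x₁ h v), by
    show IsOpenImmersion.lift 𝒪.ι _ _ ≫ 𝒪.ι ≫ (D.obj PUnit.unit).hom = x₁
    rw [← Category.assoc, IsOpenImmersion.lift_fac]
    exact (Φ D x₀ x₁ h (up D 𝒪 v)).2⟩

theorem up_rφ {T : Scheme.{u}} (x₀ x₁ : T ⟶ X) (h : x₀ ≫ p = x₁ ≫ p)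
    (v : Lifts (robj D 𝒪) x₀) : up D 𝒪 (rφ h𝒪 x₀ x₁ h v) = Φ D x₀ x₁ h (up D 𝒪 v) :=
  Subtype.ext (IsOpenImmersion.lift_fac _ _ _)

theorem rφ_self {T : Scheme.{u}} (x : T ⟶ X) (v : Lifts (robj D 𝒪) x) :
    rφ h𝒪 x x rfl v = v :=
  up_injective' _ _ (by rw [up_rφ, Φ_self])

theorem rφ_comp {T : Scheme.{u}} (x₀ x₁ x₂ : T ⟶ X) (h₀₁ : x₀ ≫ p = x₁ ≫ p)
    (h₁₂ : x₁ ≫ p = x₂ ≫ p) (v : Lifts (robj D 𝒪) x₀) :
    rφ h𝒪 x₁ x₂ h₁₂ (rφ h𝒪 x₀ x₁ h₀₁ v) = rφ h𝒪 x₀ x₂ (h₀₁.trans h₁₂) v :=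
  up_injective' _ _ (by rw [up_rφ, up_rφ, up_rφ, Φ_comp])

/-- The restriction of a descent datum to a stable open of its underlying scheme. -/
noncomputable def restrS : SchDDFam (fun _ : PUnit.{u + 1} => p) where
  obj _ := robj D 𝒪
  φ T _ _ x₀ x₁ h :=
    { toFun := rφ h𝒪 x₀ x₁ h
      invFun := rφ h𝒪 x₁ x₀ h.symm
      left_inv := fun v => (rφ_comp h𝒪 x₀ x₁ x₀ h h.symm v).trans (rφ_self h𝒪 x₀ v)
      right_inv := fun v => (rφ_comp h𝒪 x₁ x₀ x₁ h.symm h v).trans (rφ_self h𝒪 x₁ v) }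
  φ_natural T T' g _ _ x₀ x₁ h y₀ y₁ hy₀ hy₁ h' v v' hv' := by
    subst hy₀ hy₁
    show (rφ h𝒪 (g ≫ x₀) (g ≫ x₁) h' v').1 = g ≫ (rφ h𝒪 x₀ x₁ h v).1
    rw [← cancel_mono 𝒪.ι, Category.assoc]
    have e1 : (rφ h𝒪 (g ≫ x₀) (g ≫ x₁) h' v').1 ≫ 𝒪.ι =
        (Φ D (g ≫ x₀) (g ≫ x₁) h' (up D 𝒪 v')).1 := congrArg Subtype.val (up_rφ h𝒪 _ _ h' v')
    have e2 : (rφ h𝒪 x₀ x₁ h v).1 ≫ 𝒪.ι = (Φ D x₀ x₁ h (up D 𝒪 v)).1 :=
      congrArg Subtype.val (up_rφ h𝒪 _ _ h v)
    rw [e1, e2]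
    exact Φ_natural D g x₀ x₁ h h' (up D 𝒪 v) (up D 𝒪 v') (by
      rw [up_val', up_val', hv', Category.assoc])
  φ_self T _ x v := rφ_self h𝒪 x v
  φ_comp T _ _ _ x₀ x₁ x₂ h₀₁ h₁₂ v := rφ_comp h𝒪 x₀ x₁ x₂ h₀₁ h₁₂ v

theorem restrS_φ_ι {T : Scheme.{u}} (x₀ x₁ : T ⟶ X) (h : x₀ ≫ p = x₁ ≫ p)
    (v : Lifts ((restrS h𝒪).obj PUnit.unit) x₀) :
    ((restrS h𝒪).φ (i := PUnit.unit) (j := PUnit.unit) x₀ x₁ h v).1 ≫ 𝒪.ι =
      (Φ D x₀ x₁ h (up D 𝒪 v)).1 :=
  congrArg Subtype.val (up_rφ h𝒪 x₀ x₁ h v)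

end Restr

section Rel

variable {E : SchDDFam (fun _ : PUnit.{u + 1} => p)} {W : Over S}
  {k : (E.obj PUnit.unit).left ⟶ W.left}

/-- Two points of the underlying scheme with the same image in a solution are related by the
gluing bijections on a field-valued point. -/
theorem rel_of_eq (hs : IsSol E W (fun _ => k)) (a b : (E.obj PUnit.unit).left)
    (h : k.base a = k.base b) :
    ∃ (T : Scheme.{u}) (g₁ g₂ : T ⟶ (E.obj PUnit.unit).left)
      (hh : (g₁ ≫ (E.obj PUnit.unit).hom) ≫ p = (g₂ ≫ (E.obj PUnit.unit).hom) ≫ p),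
      Nonempty T ∧ (∀ τ, g₁.base τ = a) ∧ (∀ τ, g₂.base τ = b) ∧
      (Φ E (g₁ ≫ (E.obj PUnit.unit).hom) (g₂ ≫ (E.obj PUnit.unit).hom) hh ⟨g₁, rfl⟩).1 = g₂ := by
  obtain ⟨z, hz1, hz2⟩ := Scheme.Pullback.exists_preimage_pullback (f := k) (g := k) a b h
  let P := pullback k k
  let g := P.fromSpecResidueField z
  obtain ⟨hh0, e0⟩ := hs.eq_φ (i := PUnit.unit) (j := PUnit.unit) (pullback.fst k k)
    (pullback.snd k k) pullback.condition
  have hh : ((g ≫ pullback.fst k k) ≫ (E.obj PUnit.unit).hom) ≫ p =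
      ((g ≫ pullback.snd k k) ≫ (E.obj PUnit.unit).hom) ≫ p := by
    rw [Category.assoc, Category.assoc, Category.assoc, Category.assoc]
    rw [Category.assoc, Category.assoc] at hh0
    rw [hh0]
  refine ⟨Spec (P.residueField z), g ≫ pullback.fst k k, g ≫ pullback.snd k k, hh,
    ⟨IsLocalRing.closedPoint (P.residueField z)⟩, ?_, ?_, ?_⟩
  · intro τ
    rw [Scheme.Hom.comp_apply, Scheme.fromSpecResidueField_apply]
    exact hz1
  · intro τ
    rw [Scheme.Hom.comp_apply, Scheme.fromSpecResidueField_apply]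
    exact hz2
  · have h1 : (g ≫ (pullback.fst k k ≫ (E.obj PUnit.unit).hom)) ≫ p =
        (g ≫ (pullback.snd k k ≫ (E.obj PUnit.unit).hom)) ≫ p := by
      rw [← Category.assoc, ← Category.assoc]
      exact hh
    have e1 := Φ_natural E g (pullback.fst k k ≫ (E.obj PUnit.unit).hom)
      (pullback.snd k k ≫ (E.obj PUnit.unit).hom) hh0 h1 ⟨pullback.fst k k, rfl⟩
      ⟨g ≫ pullback.fst k k, Category.assoc _ _ _⟩ rfl
    rw [e0] at e1
    exact (Φ_congr E hh h1 (Category.assoc _ _ _) (Category.assoc _ _ _) _ _ rfl).trans e1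

end Rel

section Sub

variable {D : SchDDFam (fun _ : PUnit.{u + 1} => p)}
  {𝒪 𝒪' : (D.obj PUnit.unit).left.Opens} (h𝒪 : Stable D 𝒪) (h𝒪' : Stable D 𝒪') (hle : 𝒪' ≤ 𝒪)

/-- Compatibility of the restricted gluing maps for nested stable opens. -/
theorem restrS_compat {T : Scheme.{u}} (x₀ x₁ : T ⟶ X) (h : x₀ ≫ p = x₁ ≫ p)
    (v : Lifts ((restrS h𝒪').obj PUnit.unit) x₀)
    (v₂ : Lifts ((restrS h𝒪).obj PUnit.unit) x₀)
    (hv : v₂.1 = v.1 ≫ (D.obj PUnit.unit).left.homOfLE hle) :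
    ((restrS h𝒪').φ (i := PUnit.unit) (j := PUnit.unit) x₀ x₁ h v).1 ≫
        (D.obj PUnit.unit).left.homOfLE hle =
      ((restrS h𝒪).φ (i := PUnit.unit) (j := PUnit.unit) x₀ x₁ h v₂).1 := by
  apply (cancel_mono 𝒪.ι).1
  rw [Category.assoc, Scheme.homOfLE_ι]
  have ea := restrS_φ_ι h𝒪' x₀ x₁ h v
  have eb := restrS_φ_ι h𝒪 x₀ x₁ h v₂
  have hup : up D 𝒪 v₂ = up D 𝒪' v := by
    apply Subtype.ext
    show v₂.1 ≫ 𝒪.ι = v.1 ≫ 𝒪'.ι
    rw [hv, Category.assoc, Scheme.homOfLE_ι]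
  rw [hup] at eb
  exact ea.trans eb.symm

include h𝒪' in
/-- Saturation: points of `𝒪` with the same image in a solution of the datum restricted to `𝒪` lie
simultaneously in a stable open `𝒪'`. -/
theorem mem_of_eq {W : Over S} {k : (𝒪 : Scheme.{u}) ⟶ W.left}
    (hs : IsSol (restrS h𝒪) W (fun _ => k)) (a b : (𝒪 : Scheme.{u})) (h : k.base a = k.base b)
    (ha : 𝒪.ι.base a ∈ 𝒪') : 𝒪.ι.base b ∈ 𝒪' := by
  obtain ⟨T, g₁, g₂, hh, ⟨τ⟩, h1, h2, e⟩ := rel_of_eq hs a b h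
  have e' := restrS_φ_ι h𝒪 _ _ hh ⟨g₁, rfl⟩
  have e2 : g₂ ≫ 𝒪.ι = (Φ D _ _ hh (up D 𝒪 ⟨g₁, rfl⟩)).1 :=
    (congrArg (fun f => f ≫ 𝒪.ι) e.symm).trans e'
  have hst := h𝒪' _ _ hh (up D 𝒪 ⟨g₁, rfl⟩) (by
    rintro _ ⟨σ, rfl⟩
    show 𝒪.ι.base (g₁.base σ) ∈ 𝒪'
    rw [h1]
    exact ha)
  rw [← e2] at hst
  have h3 : (g₂ ≫ 𝒪.ι).base τ ∈ 𝒪' := hst ⟨τ, rfl⟩
  rw [Scheme.Hom.comp_apply, h2] at h3
  exact h3

include h𝒪' hle in
/-- A solution of the datum restricted to a stable open induces a solution of the datum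
restricted to any smaller stable open. -/
theorem exists_isSol_of_le [Surjective p] [Flat p] [QuasiCompact p] {W : Over S}
    {k : (𝒪 : Scheme.{u}) ⟶ W.left} (hs : IsSol (restrS h𝒪) W (fun _ => k)) :
    ∃ (W' : Over S) (k' : (𝒪' : Scheme.{u}) ⟶ W'.left), IsSol (restrS h𝒪') W' (fun _ => k') := by
  have hsq := (hs.sq PUnit.unit).flip
  haveI : Surjective k := MorphismProperty.of_isPullback hsq ‹Surjective p›
  haveI : Flat k := MorphismProperty.of_isPullback hsq ‹Flat p›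
  haveI : QuasiCompact k := MorphismProperty.of_isPullback hsq ‹QuasiCompact p›
  have hq : Topology.IsQuotientMap k.base := Flat.isQuotientMap_of_surjective k
  let hl : (𝒪' : Scheme.{u}) ⟶ (𝒪 : Scheme.{u}) := (D.obj PUnit.unit).left.homOfLE hle
  have hlι : hl ≫ 𝒪.ι = 𝒪'.ι := Scheme.homOfLE_ι _ _
  let 𝒬 : (𝒪 : Scheme.{u}).Opens := 𝒪.ι ⁻¹ᵁ 𝒪'
  have hsat : k.base ⁻¹' (k.base '' (𝒬 : Set (𝒪 : Scheme.{u}))) = 𝒬 := by
    ext a
    constructor
    · rintro ⟨b, hb, hab⟩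
      exact mem_of_eq h𝒪 h𝒪' hs b a hab hb
    · intro ha
      exact ⟨a, ha, rfl⟩
  have hopen : IsOpen (k.base '' (𝒬 : Set (𝒪 : Scheme.{u}))) := by
    rw [← hq.isOpen_preimage, hsat]
    exact 𝒬.isOpen
  let 𝒲 : W.left.Opens := ⟨k.base '' (𝒬 : Set (𝒪 : Scheme.{u})), hopen⟩
  have hmem : ∀ y : (𝒪' : Scheme.{u}), hl.base y ∈ 𝒬 := fun y => by
    show 𝒪.ι.base (hl.base y) ∈ 𝒪'
    rw [← Scheme.Hom.comp_apply, hlι]
    exact y.2
  have hrange : Set.range (hl ≫ k).base ⊆ Set.range 𝒲.ι.base := by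
    rintro _ ⟨y, rfl⟩
    have h1 : (hl ≫ k).base y ∈ 𝒲 := ⟨hl.base y, hmem y, (Scheme.Hom.comp_apply _ _ _).symm⟩
    exact ⟨⟨_, h1⟩, rfl⟩
  let k' : (𝒪' : Scheme.{u}) ⟶ (𝒲 : Scheme.{u}) := IsOpenImmersion.lift 𝒲.ι (hl ≫ k) hrange
  have hk' : k' ≫ 𝒲.ι = hl ≫ k := IsOpenImmersion.lift_fac _ _ _
  refine ⟨Over.mk (𝒲.ι ≫ W.hom), k', ⟨fun _ => ?_, ?_⟩⟩
  · have hpre : k ⁻¹ᵁ 𝒲.ι.opensRange = hl.opensRange := by
      rw [Scheme.Opens.opensRange_ι, Scheme.opensRange_homOfLE]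
      exact TopologicalSpace.Opens.ext hsat
    have A : IsPullback k' hl 𝒲.ι k := IsOpenImmersion.isPullback k' hl 𝒲.ι k hk'.symm hpre
    have B := A.paste_vert (hs.sq PUnit.unit)
    have h2 : hl ≫ 𝒪.ι ≫ (D.obj PUnit.unit).hom = 𝒪'.ι ≫ (D.obj PUnit.unit).hom := by
      rw [← Category.assoc, hlι]
    have B' : IsPullback k' (𝒪'.ι ≫ (D.obj PUnit.unit).hom) (𝒲.ι ≫ W.hom) p := by
      rw [← h2]
      exact B
    exact B'
  · intro T i j x₀ x₁ h v
    cases i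
    cases j
    apply (cancel_mono 𝒲.ι).1
    have hv₂ : (v.1 ≫ hl) ≫ 𝒪.ι ≫ (D.obj PUnit.unit).hom = x₀ := by
      rw [Category.assoc, ← Category.assoc hl, hlι]
      exact v.2
    let v₂ : Lifts ((restrS h𝒪).obj PUnit.unit) x₀ := ⟨v.1 ≫ hl, hv₂⟩
    have e1 := restrS_compat h𝒪 h𝒪' hle x₀ x₁ h v v₂ rfl
    have e2 := hs.inv (i := PUnit.unit) (j := PUnit.unit) x₀ x₁ h v₂
    show (((restrS h𝒪').φ (i := PUnit.unit) (j := PUnit.unit) x₀ x₁ h v).1 ≫ k') ≫ 𝒲.ι =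
      (v.1 ≫ k') ≫ 𝒲.ι
    rw [Category.assoc, Category.assoc, hk', ← Category.assoc, ← Category.assoc, e1, e2]

end Sub

section Index

variable (D : SchDDFam (fun _ : PUnit.{u + 1} => p))

theorem stable_inf {𝒪₁ 𝒪₂ : (D.obj PUnit.unit).left.Opens} (h1 : Stable D 𝒪₁) (h2 : Stable D 𝒪₂) :
    Stable D (𝒪₁ ⊓ 𝒪₂) := fun _ x₀ x₁ h v hv y hy =>
  ⟨h1 x₀ x₁ h v (fun z hz => (hv hz).1) hy, h2 x₀ x₁ h v (fun z hz => (hv hz).2) hy⟩

/-- A stable open on which the restricted datum has a solution. -/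
def IsGood (𝒪 : (D.obj PUnit.unit).left.Opens) : Prop :=
  ∃ (h𝒪 : Stable D 𝒪) (W : Over S) (k : (𝒪 : Scheme.{u}) ⟶ W.left),
    IsSol (restrS h𝒪) W (fun _ => k)

theorem isGood_inf [Surjective p] [Flat p] [QuasiCompact p]
    {𝒪₁ 𝒪₂ : (D.obj PUnit.unit).left.Opens} (h1 : IsGood D 𝒪₁) (h2 : IsGood D 𝒪₂) :
    IsGood D (𝒪₁ ⊓ 𝒪₂) := by
  obtain ⟨hs1, W1, k1, hsol1⟩ := h1
  obtain ⟨hs2, -, -, -⟩ := h2
  obtain ⟨W', k', h'⟩ := exists_isSol_of_le hs1 (stable_inf D hs1 hs2) inf_le_left hsol1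
  exact ⟨stable_inf D hs1 hs2, W', k', h'⟩

/-- The index type: good opens. -/
abbrev J : Type u := {𝒪 : (D.obj PUnit.unit).left.Opens // IsGood D 𝒪}

variable (hcov : ∀ v : (D.obj PUnit.unit).left, ∃ a : J D, v ∈ a.1)

/-- The cover of the underlying scheme by the good opens. -/
noncomputable def cov : (D.obj PUnit.unit).left.OpenCover where
  I₀ := J D
  X a := a.1
  f a := a.1.ι
  mem₀ := by
    rw [Scheme.presieve₀_mem_precoverage_iff]
    refine ⟨fun x => ?_, fun a => inferInstance⟩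
    obtain ⟨a, ha⟩ := hcov x
    exact ⟨a, ⟨x, ha⟩, rfl⟩

instance : Preorder (cov D hcov).I₀ := inferInstanceAs (Preorder (J D))

variable [Surjective p] [Flat p] [QuasiCompact p]

noncomputable instance : Scheme.Cover.LocallyDirected (cov D hcov) where
  trans {i j} hij := (D.obj PUnit.unit).left.homOfLE (show i.1 ≤ j.1 from leOfHom hij)
  trans_id i := Scheme.homOfLE_rfl _ _
  trans_comp hij hjk := (Scheme.homOfLE_homOfLE _ _ _).symm
  w hij := Scheme.homOfLE_ι _ _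
  directed {i j} x := by
    let v := (pullback.fst ((cov D hcov).f i) ((cov D hcov).f j) ≫ (cov D hcov).f i).base x
    have hvi : v ∈ i.1 :=
      ((pullback.fst ((cov D hcov).f i) ((cov D hcov).f j)).base x).2
    have hvj : v ∈ j.1 := by
      have e : v = (pullback.snd ((cov D hcov).f i) ((cov D hcov).f j) ≫ (cov D hcov).f j).base x := by
        show (pullback.fst ((cov D hcov).f i) ((cov D hcov).f j) ≫ (cov D hcov).f i).base x = _
        rw [pullback.condition]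
      rw [e]
      exact ((pullback.snd ((cov D hcov).f i) ((cov D hcov).f j)).base x).2
    let m : J D := ⟨i.1 ⊓ j.1, isGood_inf D i.2 j.2⟩
    refine ⟨m, homOfLE (show m.1 ≤ i.1 from inf_le_left), homOfLE (show m.1 ≤ j.1 from inf_le_right),
      ⟨v, hvi, hvj⟩, ?_⟩
    apply (pullback.fst ((cov D hcov).f i) ((cov D hcov).f j) ≫
      (cov D hcov).f i).isOpenEmbedding.injective
    rw [← Scheme.Hom.comp_apply, pullback.lift_fst_assoc]
    show ((D.obj PUnit.unit).left.homOfLE _ ≫ i.1.ι).base _ = v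
    rw [Scheme.homOfLE_ι]
    rfl

end Index

section Glue

variable [Surjective p] [Flat p] [QuasiCompact p]
  (hf : Presieve.ofArrows (fun _ : PUnit.{u + 1} => X) (fun _ => p) ∈ Scheme.fpqcPrecoverage S)
  (D : SchDDFam (fun _ : PUnit.{u + 1} => p))
  (hcov : ∀ v : (D.obj PUnit.unit).left, ∃ a : J D, v ∈ a.1)

/-- The open attached to an index. -/
abbrev opn' (a : (cov D hcov).I₀) : (D.obj PUnit.unit).left.Opens :=
  Subtype.val (p := IsGood D) a

variable (hst : ∀ a : (cov D hcov).I₀, Stable D (opn' D hcov a))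
  (W : ∀ _ : (cov D hcov).I₀, Over S)
  (k : ∀ a : (cov D hcov).I₀, (opn' D hcov a : Scheme.{u}) ⟶ (W a).left)
  (hs : ∀ a, IsSol (restrS (hst a)) (W a) (fun _ => k a))

/-- The transition map of the cover. -/
noncomputable abbrev tr' {a b : (cov D hcov).I₀} (hab : a ⟶ b) :
    (opn' D hcov a : Scheme.{u}) ⟶ (opn' D hcov b : Scheme.{u}) :=
  (cov D hcov).trans hab

theorem tr'_ι {a b : (cov D hcov).I₀} (hab : a ⟶ b) :
    tr' D hcov hab ≫ (opn' D hcov b).ι = (opn' D hcov a).ι :=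
  (cov D hcov).trans_map hab

include hs in
theorem k_hom' (a : (cov D hcov).I₀) :
    k a ≫ (W a).hom = ((opn' D hcov a).ι ≫ (D.obj PUnit.unit).hom) ≫ p :=
  ((hs a).sq PUnit.unit).w

include hs in
theorem inv_tr' {a b : (cov D hcov).I₀} (hab : a ⟶ b)
    ⦃T : Scheme.{u}⦄ ⦃i j : PUnit.{u + 1}⦄ (x₀ : T ⟶ X) (x₁ : T ⟶ X) (h : x₀ ≫ p = x₁ ≫ p)
    (v : Lifts ((restrS (hst a)).obj i) x₀) :
    ((restrS (hst a)).φ (i := i) (j := j) x₀ x₁ h v).1 ≫ tr' D hcov hab ≫ k b =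
      v.1 ≫ tr' D hcov hab ≫ k b := by
  cases i
  cases j
  have hle : opn' D hcov a ≤ opn' D hcov b := leOfHom hab
  have hvb : (v.1 ≫ tr' D hcov hab) ≫ (opn' D hcov b).ι ≫ (D.obj PUnit.unit).hom = x₀ := by
    rw [Category.assoc, ← Category.assoc (tr' D hcov hab), tr'_ι]
    exact v.2
  let vb : Lifts ((restrS (hst b)).obj PUnit.unit) x₀ := ⟨v.1 ≫ tr' D hcov hab, hvb⟩
  have e1 := restrS_compat (hst b) (hst a) hle x₀ x₁ h v vb rfl
  have e2 := (hs b).inv (i := PUnit.unit) (j := PUnit.unit) x₀ x₁ h vb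
  rw [← Category.assoc]
  exact (congrArg (fun f => f ≫ k b) e1).trans (e2.trans (Category.assoc _ _ _))

include hf hs in
theorem exists_ρ' {a b : (cov D hcov).I₀} (hab : a ⟶ b) :
    ∃! t : (W a).left ⟶ (W b).left, ∀ _ : PUnit.{u + 1}, k a ≫ t = tr' D hcov hab ≫ k b :=
  (hs a).existsUnique_desc hf (fun _ => tr' D hcov hab ≫ k b)
    (fun _ _ _ x₀ x₁ h v => inv_tr' D hcov hst W k hs hab x₀ x₁ h v)

/-- The transition maps between the chosen local solutions. -/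
noncomputable def ρ' {a b : (cov D hcov).I₀} (hab : a ⟶ b) : (W a).left ⟶ (W b).left :=
  (exists_ρ' hf D hcov hst W k hs hab).exists.choose

theorem k_ρ' {a b : (cov D hcov).I₀} (hab : a ⟶ b) :
    k a ≫ ρ' hf D hcov hst W k hs hab = tr' D hcov hab ≫ k b :=
  (exists_ρ' hf D hcov hst W k hs hab).exists.choose_spec PUnit.unit

theorem ρ'_id (a : (cov D hcov).I₀) : ρ' hf D hcov hst W k hs (𝟙 a) = 𝟙 _ := by
  refine IsSol.hom_ext (hs a) hf _ _ (fun _ => ?_)
  rw [k_ρ', tr', Scheme.Cover.trans_id]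
  exact (Category.id_comp (k a)).trans (Category.comp_id (k a)).symm

theorem ρ'_comp {a b c : (cov D hcov).I₀} (hab : a ⟶ b) (hbc : b ⟶ c) :
    ρ' hf D hcov hst W k hs (hab ≫ hbc) =
      ρ' hf D hcov hst W k hs hab ≫ ρ' hf D hcov hst W k hs hbc := by
  refine IsSol.hom_ext (hs a) hf _ _ (fun _ => ?_)
  rw [k_ρ', tr', Scheme.Cover.trans_comp, Category.assoc, ← k_ρ' hf D hcov hst W k hs hbc,
    ← Category.assoc, ← k_ρ' hf D hcov hst W k hs hab, Category.assoc]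

theorem ρ'_hom {a b : (cov D hcov).I₀} (hab : a ⟶ b) :
    ρ' hf D hcov hst W k hs hab ≫ (W b).hom = (W a).hom := by
  refine IsSol.hom_ext (hs a) hf _ _ (fun _ => ?_)
  rw [← Category.assoc, k_ρ', Category.assoc, k_hom' D hcov hst W k hs b,
    k_hom' D hcov hst W k hs a, ← Category.assoc, ← Category.assoc, tr'_ι]

theorem isPullback_ρ' {a b : (cov D hcov).I₀} (hab : a ⟶ b) :
    IsPullback (tr' D hcov hab) (k a) (k b) (ρ' hf D hcov hst W k hs hab) := by
  have big : IsPullback (tr' D hcov hab ≫ ((opn' D hcov b).ι ≫ (D.obj PUnit.unit).hom)) (k a) p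
      (ρ' hf D hcov hst W k hs hab ≫ (W b).hom) := by
    rw [ρ'_hom, ← Category.assoc, tr'_ι]
    exact ((hs a).sq PUnit.unit).flip
  exact IsPullback.of_right big (k_ρ' hf D hcov hst W k hs hab).symm ((hs b).sq PUnit.unit).flip

include hs in
theorem fpqc_k' (b : (cov D hcov).I₀) :
    (@Surjective ⊓ @Flat ⊓ @QuasiCompact : MorphismProperty Scheme.{u}) (k b) := by
  have h := ((hs b).sq PUnit.unit).flip
  exact ⟨⟨MorphismProperty.of_isPullback h ‹Surjective p›,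
    MorphismProperty.of_isPullback h ‹Flat p›⟩, MorphismProperty.of_isPullback h ‹QuasiCompact p›⟩

theorem isOpenImmersion_ρ' {a b : (cov D hcov).I₀} (hab : a ⟶ b) :
    IsOpenImmersion (ρ' hf D hcov hst W k hs hab) :=
  MorphismProperty.of_isPullback_of_descendsAlong (P := @IsOpenImmersion)
    (Q := @Surjective ⊓ @Flat ⊓ @QuasiCompact) (isPullback_ρ' hf D hcov hst W k hs hab)
    (fpqc_k' D hcov hst W k hs b) (inferInstanceAs (IsOpenImmersion (tr' D hcov hab)))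

include hs in
theorem k_surjective' (a : (cov D hcov).I₀) : Function.Surjective (k a).base := by
  haveI : Surjective (k a) := (fpqc_k' D hcov hst W k hs a).1.1
  exact (k a).surjective

/-- The diagram of the local solutions. -/
noncomputable def F' : (cov D hcov).I₀ ⥤ Scheme.{u} where
  obj a := (W a).left
  map hab := ρ' hf D hcov hst W k hs hab
  map_id a := ρ'_id hf D hcov hst W k hs a
  map_comp hab hbc := ρ'_comp hf D hcov hst W k hs hab hbc

instance {a b : (cov D hcov).I₀} (hab : a ⟶ b) :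
    IsOpenImmersion ((F' hf D hcov hst W k hs).map hab) := isOpenImmersion_ρ' hf D hcov hst W k hs hab

theorem k_ρ'_apply {a b : (cov D hcov).I₀} (hab : a ⟶ b) (x : (opn' D hcov a : Scheme.{u})) :
    (ρ' hf D hcov hst W k hs hab).base ((k a).base x) = (k b).base ((tr' D hcov hab).base x) := by
  rw [← Scheme.Hom.comp_apply, ← Scheme.Hom.comp_apply, k_ρ']

theorem tr'_ι_apply {a b : (cov D hcov).I₀} (hab : a ⟶ b) (x : (opn' D hcov a : Scheme.{u})) :
    (opn' D hcov b).ι.base ((tr' D hcov hab).base x) = (opn' D hcov a).ι.base x := by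
  have h0 := congrArg (fun f => f.base x) (tr'_ι D hcov hab)
  simp only [Scheme.Hom.comp_apply] at h0
  exact h0

theorem ρ'_injective {a b : (cov D hcov).I₀} (hab : a ⟶ b) :
    Function.Injective (ρ' hf D hcov hst W k hs hab).base :=
  haveI := isOpenImmersion_ρ' hf D hcov hst W k hs hab
  (ρ' hf D hcov hst W k hs hab).isOpenEmbedding.injective

instance : ((F' hf D hcov hst W k hs) ⋙ Scheme.forget).IsLocallyDirected where
  cond {i j l} fi fj xi xj hxij := by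
    obtain ⟨vi, rfl⟩ := k_surjective' D hcov hst W k hs i xi
    obtain ⟨vj, rfl⟩ := k_surjective' D hcov hst W k hs j xj
    have h1 : (ρ' hf D hcov hst W k hs fi).base ((k i).base vi) =
        (ρ' hf D hcov hst W k hs fj).base ((k j).base vj) := hxij
    have h1' := h1
    rw [k_ρ'_apply, k_ρ'_apply] at h1
    -- the point of `V`
    have hmj : (opn' D hcov l).ι.base ((tr' D hcov fi).base vi) ∈ opn' D hcov j := by
      refine mem_of_eq (hst l) (hst j) (hs l) ((tr' D hcov fj).base vj) ((tr' D hcov fi).base vi)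
        h1.symm ?_
      rw [tr'_ι_apply]
      exact vj.2
    rw [tr'_ι_apply] at hmj
    let m : (cov D hcov).I₀ := ⟨opn' D hcov i ⊓ opn' D hcov j, isGood_inf D i.2 j.2⟩
    let gi : m ⟶ i := homOfLE (show opn' D hcov m ≤ opn' D hcov i from inf_le_left)
    let gj : m ⟶ j := homOfLE (show opn' D hcov m ≤ opn' D hcov j from inf_le_right)
    let y : (opn' D hcov m : Scheme.{u}) := ⟨(opn' D hcov i).ι.base vi, vi.2, hmj⟩
    have hyi : (tr' D hcov gi).base y = vi := by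
      apply (opn' D hcov i).ι.isOpenEmbedding.injective
      rw [tr'_ι_apply]
      rfl
    refine ⟨m, gi, gj, (k m).base y, ?_, ?_⟩
    · show (ρ' hf D hcov hst W k hs gi).base ((k m).base y) = (k i).base vi
      rw [k_ρ'_apply, hyi]
    · show (ρ' hf D hcov hst W k hs gj).base ((k m).base y) = (k j).base vj
      rw [k_ρ'_apply]
      apply ρ'_injective hf D hcov hst W k hs fj
      rw [k_ρ'_apply, k_ρ'_apply, ← h1]
      congr 1
      apply (opn' D hcov l).ι.isOpenEmbedding.injective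
      rw [tr'_ι_apply, tr'_ι_apply, tr'_ι_apply]
      rfl

/-- The glued scheme. -/
noncomputable abbrev WGs' : Scheme.{u} := colimit (F' hf D hcov hst W k hs)

/-- The structure morphism of the glued scheme. -/
noncomputable def WGhom' : WGs' hf D hcov hst W k hs ⟶ S :=
  colimit.desc (F' hf D hcov hst W k hs) ⟨S,
    { app := fun a => (W a).hom
      naturality := fun a b hab => by
        show ρ' hf D hcov hst W k hs hab ≫ (W b).hom = (W a).hom ≫ 𝟙 S
        rw [ρ'_hom, Category.comp_id] }⟩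

theorem ι_WGhom' (a : (cov D hcov).I₀) :
    colimit.ι (F' hf D hcov hst W k hs) a ≫ WGhom' hf D hcov hst W k hs = (W a).hom :=
  colimit.ι_desc _ _

/-- The glued solution. -/
noncomputable abbrev WG' : Over S := Over.mk (WGhom' hf D hcov hst W k hs)

theorem kG_aux' {a b : (cov D hcov).I₀} (hab : a ⟶ b) :
    tr' D hcov hab ≫ k b ≫ colimit.ι (F' hf D hcov hst W k hs) b =
      k a ≫ colimit.ι (F' hf D hcov hst W k hs) a := by
  rw [← Category.assoc, ← k_ρ' hf D hcov hst W k hs hab, Category.assoc]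
  congr 1
  exact colimit.w (F' hf D hcov hst W k hs) hab

/-- The glued map to the glued solution. -/
noncomputable def kG' : (D.obj PUnit.unit).left ⟶ WGs' hf D hcov hst W k hs :=
  (cov D hcov).glueMorphismsOfLocallyDirected
    (fun a => k a ≫ colimit.ι (F' hf D hcov hst W k hs) a)
    (fun hab => kG_aux' hf D hcov hst W k hs hab)

theorem ι_kG' (a : (cov D hcov).I₀) :
    (opn' D hcov a).ι ≫ kG' hf D hcov hst W k hs =
      k a ≫ colimit.ι (F' hf D hcov hst W k hs) a :=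
  (cov D hcov).map_glueMorphismsOfLocallyDirected _ _ a

theorem kG_hom' :
    kG' hf D hcov hst W k hs ≫ WGhom' hf D hcov hst W k hs = (D.obj PUnit.unit).hom ≫ p := by
  apply (cov D hcov).hom_ext
  intro a
  show (opn' D hcov a).ι ≫ _ = (opn' D hcov a).ι ≫ _
  rw [← Category.assoc, ι_kG', Category.assoc, ι_WGhom', k_hom' D hcov hst W k hs a,
    Category.assoc]

theorem kG_preimage' (a : (cov D hcov).I₀) :
    kG' hf D hcov hst W k hs ⁻¹ᵁ (colimit.ι (F' hf D hcov hst W k hs) a).opensRange =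
      (opn' D hcov a).ι.opensRange := by
  ext v
  constructor
  · rintro ⟨xa, hxa⟩
    obtain ⟨b, vb, rfl⟩ := (cov D hcov).exists_eq v
    have h1 : (kG' hf D hcov hst W k hs).base ((opn' D hcov b).ι.base vb) =
        (colimit.ι (F' hf D hcov hst W k hs) b).base ((k b).base vb) := by
      have h0 := congrArg (fun f => f.base vb) (ι_kG' hf D hcov hst W k hs b)
      simp only [Scheme.Hom.comp_apply] at h0
      exact h0
    have hxa' : (colimit.ι (F' hf D hcov hst W k hs) a).base xa =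
        (colimit.ι (F' hf D hcov hst W k hs) b).base ((k b).base vb) := hxa.trans h1
    obtain ⟨l, fa, fb, x, hx1, hx2⟩ :=
      (Scheme.IsLocallyDirected.ι_eq_ι_iff (F := F' hf D hcov hst W k hs)).1 hxa'
    obtain ⟨vl, rfl⟩ := k_surjective' D hcov hst W k hs l x
    have h2 : (ρ' hf D hcov hst W k hs fb).base ((k l).base vl) = (k b).base vb := hx2
    rw [k_ρ'_apply] at h2
    have h3 : (opn' D hcov b).ι.base vb ∈ opn' D hcov l := by
      refine mem_of_eq (hst b) (hst l) (hs b) ((tr' D hcov fb).base vl) vb h2 ?_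
      rw [tr'_ι_apply]
      exact vl.2
    have hla : opn' D hcov l ≤ opn' D hcov a := leOfHom fa
    have h4 : (opn' D hcov b).ι.base vb ∈ opn' D hcov a := hla h3
    exact ⟨⟨_, h4⟩, rfl⟩
  · rintro ⟨va, rfl⟩
    refine ⟨(k a).base va, ?_⟩
    show (colimit.ι (F' hf D hcov hst W k hs) a).base ((k a).base va) =
      (kG' hf D hcov hst W k hs).base ((opn' D hcov a).ι.base va)
    have h0 := congrArg (fun f => f.base va) (ι_kG' hf D hcov hst W k hs a)
    simp only [Scheme.Hom.comp_apply] at h0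
    exact h0.symm

theorem isPullback_kG_local' (a : (cov D hcov).I₀) :
    IsPullback (k a) (opn' D hcov a).ι (colimit.ι (F' hf D hcov hst W k hs) a)
      (kG' hf D hcov hst W k hs) :=
  IsOpenImmersion.isPullback (k a) (opn' D hcov a).ι (colimit.ι (F' hf D hcov hst W k hs) a)
    (kG' hf D hcov hst W k hs) (ι_kG' hf D hcov hst W k hs a) (kG_preimage' hf D hcov hst W k hs a)

theorem isPullback_kG' :
    IsPullback (kG' hf D hcov hst W k hs) (D.obj PUnit.unit).hom (WGhom' hf D hcov hst W k hs) p := by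
  refine Scheme.isPullback_of_openCover _ _ _ _
    (Scheme.IsLocallyDirected.openCover (F' hf D hcov hst W k hs)) (fun a => ?_)
  have h1 : IsPullback (k a) ((opn' D hcov a).ι ≫ (D.obj PUnit.unit).hom)
      (colimit.ι (F' hf D hcov hst W k hs) a ≫ WGhom' hf D hcov hst W k hs) p := by
    rw [ι_WGhom']
    exact (hs a).sq PUnit.unit
  let e := (isPullback_kG_local' hf D hcov hst W k hs a).flip.isoPullback
  refine IsPullback.of_iso h1 e (Iso.refl _) (Iso.refl _) (Iso.refl _) ?_ ?_ (by simp) (by simp)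
  · simp only [Iso.refl_hom, Category.comp_id]
    exact ((isPullback_kG_local' hf D hcov hst W k hs a).flip.isoPullback_hom_snd).symm
  · simp only [Iso.refl_hom, Category.comp_id]
    rw [← Category.assoc]
    congr 1
    exact ((isPullback_kG_local' hf D hcov hst W k hs a).flip.isoPullback_hom_fst).symm

theorem kG_inv' ⦃T : Scheme.{u}⦄ ⦃i j : PUnit.{u + 1}⦄ (x₀ : T ⟶ X) (x₁ : T ⟶ X)
    (h : x₀ ≫ p = x₁ ≫ p) (v : Lifts (D.obj i) x₀) :
    (D.φ (i := i) (j := j) x₀ x₁ h v).1 ≫ kG' hf D hcov hst W k hs =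
      v.1 ≫ kG' hf D hcov hst W k hs := by
  cases i
  cases j
  refine Scheme.Cover.hom_ext ((cov D hcov).pullback₁ v.1) _ _ (fun a => ?_)
  let g := pullback.fst v.1 (opn' D hcov a).ι
  have hva : pullback.snd v.1 (opn' D hcov a).ι ≫ (opn' D hcov a).ι ≫ (D.obj PUnit.unit).hom =
      g ≫ x₀ := by
    rw [← Category.assoc, ← pullback.condition, Category.assoc, v.2]
  let va : Lifts ((restrS (hst a)).obj PUnit.unit) (g ≫ x₀) :=
    ⟨pullback.snd v.1 (opn' D hcov a).ι, hva⟩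
  have h' : (g ≫ x₀) ≫ p = (g ≫ x₁) ≫ p := by rw [Category.assoc, Category.assoc, h]
  have e1 : (Φ D (g ≫ x₀) (g ≫ x₁) h' (up D (opn' D hcov a) va)).1 = g ≫ (Φ D x₀ x₁ h v).1 :=
    Φ_natural D g x₀ x₁ h h' v (up D (opn' D hcov a) va) pullback.condition.symm
  have e2 := restrS_φ_ι (hst a) (g ≫ x₀) (g ≫ x₁) h' va
  have key := (hs a).inv (i := PUnit.unit) (j := PUnit.unit) (g ≫ x₀) (g ≫ x₁) h' va
  show g ≫ (Φ D x₀ x₁ h v).1 ≫ _ = g ≫ v.1 ≫ _
  rw [← Category.assoc, ← e1, ← e2, Category.assoc, ι_kG', ← Category.assoc, key, Category.assoc,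
    ← ι_kG', ← Category.assoc, ← Category.assoc]
  congr 1
  exact pullback.condition.symm

theorem isSol_glue' : IsSol D (WG' hf D hcov hst W k hs) (fun _ => kG' hf D hcov hst W k hs) :=
  ⟨fun _ => isPullback_kG' hf D hcov hst W k hs,
    fun _ _ _ x₀ x₁ h v => kG_inv' hf D hcov hst W k hs x₀ x₁ h v⟩

end Glue

section Main

variable [Surjective p] [Flat p] [QuasiCompact p]

/-- A descent datum whose underlying scheme is covered by good opens is effective. -/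
theorem isEffective_of_good_cover (D : SchDDFam (fun _ : PUnit.{u + 1} => p))
    (hcov : ∀ v : (D.obj PUnit.unit).left, ∃ a : J D, v ∈ a.1) : D.IsEffective := by
  have hf := Groth.Agent.H51.DescAssemble.mem_fpqc_single p
  have H : ∀ a : (cov D hcov).I₀, ∃ (h𝒪 : Stable D (opn' D hcov a)) (W : Over S)
      (k : (opn' D hcov a : Scheme.{u}) ⟶ W.left), IsSol (restrS h𝒪) W (fun _ => k) := fun a => a.2
  choose hst W k hs using H
  exact (isSol_glue' hf D hcov hst W k hs).isEffective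

omit [Surjective p] [Flat p] [QuasiCompact p] in
/-- The image of an open immersion of descent data with effective source is a good open. -/
theorem isGood_of_hom (D D' : SchDD p) (j : D' ⟶ D) [IsOpenImmersion j.hom.left]
    (hD' : ∃ U' : Over S, Nonempty ((toDD p).obj U' ≅ D')) :
    IsGood ((SchDDFam.ofSchDD.{u} p).obj D) j.hom.left.opensRange := by
  let E := (SchDDFam.ofSchDD.{u} p).obj D
  let jl : D'.obj.left ⟶ D.obj.left := j.hom.left
  have hjl : jl ≫ D.obj.hom = D'.obj.hom := Over.w j.hom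
  let 𝒪 : (E.obj PUnit.unit).left.Opens := jl.opensRange
  have hstab : Stable E 𝒪 := by
    intro T x₀ x₁ h v hv
    have hv' : Set.range v.1.base ⊆ Set.range jl.base := hv
    let v' : T ⟶ D'.obj.left := IsOpenImmersion.lift jl v.1 hv'
    have hv'f : v' ≫ jl = v.1 := IsOpenImmersion.lift_fac _ _ _
    have hv'' : v' ≫ D'.obj.hom = x₀ := by
      rw [← hjl, ← Category.assoc, hv'f]
      exact v.2
    have hc := j.comm x₀ x₁ h ⟨v', hv''⟩ v hv'f.symm
    rintro _ ⟨τ, rfl⟩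
    show (D.φ x₀ x₁ h v).1.base τ ∈ jl.opensRange
    rw [hc, Scheme.Hom.comp_apply]
    exact ⟨_, rfl⟩
  obtain ⟨W', k'', hs'⟩ := exists_isSol_of_isEffective
    ((Groth.Agent.H51.AffEff.eff_iff p D').1 hD')
  let k' : D'.obj.left ⟶ W'.left := k'' PUnit.unit
  let e : D'.obj.left ≅ (𝒪 : Scheme.{u}) := jl.isoOpensRange
  have heι : e.hom ≫ 𝒪.ι = jl := Scheme.Hom.isoOpensRange_hom_ι jl
  have heι' : e.inv ≫ jl = 𝒪.ι := by rw [← heι, Iso.inv_hom_id_assoc]
  refine ⟨hstab, W', e.inv ≫ k', ⟨fun _ => ?_, ?_⟩⟩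
  · have sq' : IsPullback k' D'.obj.hom W'.hom p := hs'.sq PUnit.unit
    refine IsPullback.of_iso sq' e (Iso.refl _) (Iso.refl _) (Iso.refl _) ?_ ?_ (by simp) (by simp)
    · simp only [Iso.refl_hom, Category.comp_id, Iso.hom_inv_id_assoc]
    · simp only [Iso.refl_hom, Category.comp_id]
      show D'.obj.hom = e.hom ≫ 𝒪.ι ≫ D.obj.hom
      rw [← Category.assoc, heι, hjl]
  · intro T i j₀ x₀ x₁ h v
    cases i
    cases j₀
    have hv' : (v.1 ≫ e.inv) ≫ D'.obj.hom = x₀ := by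
      rw [← hjl, Category.assoc, ← Category.assoc e.inv, heι']
      exact v.2
    let v' : Lifts D'.obj x₀ := ⟨v.1 ≫ e.inv, hv'⟩
    have hc := j.comm x₀ x₁ h v' (up E 𝒪 v) (by
      show v.1 ≫ 𝒪.ι = (v.1 ≫ e.inv) ≫ jl
      rw [Category.assoc, heι'])
    have e1 := restrS_φ_ι hstab x₀ x₁ h v
    have e2 : ((restrS hstab).φ (i := PUnit.unit) (j := PUnit.unit) x₀ x₁ h v).1 =
        (D'.φ x₀ x₁ h v').1 ≫ e.hom := by
      apply (cancel_mono 𝒪.ι).1
      rw [e1, Category.assoc, heι]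
      exact hc
    have e3 := hs'.inv (i := PUnit.unit) (j := PUnit.unit) x₀ x₁ h v'
    show ((restrS hstab).φ (i := PUnit.unit) (j := PUnit.unit) x₀ x₁ h v).1 ≫ e.inv ≫ k' =
      v.1 ≫ e.inv ≫ k'
    rw [e2, Category.assoc, Iso.hom_inv_id_assoc]
    exact e3.trans (Category.assoc _ _ _)

/-- A descent datum relative to an fpqc morphism which is covered by open sub-data with effective
source is effective. -/
theorem main (p : X ⟶ S) [Surjective p] [Flat p] [QuasiCompact p] (D : SchDD p)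
    (h : ∀ v : D.obj.left, ∃ (D' : SchDD p) (j : D' ⟶ D), IsOpenImmersion j.hom.left ∧
      v ∈ Set.range j.hom.left.base ∧ ∃ U' : Over S, Nonempty ((toDD p).obj U' ≅ D')) :
    ∃ U : Over S, Nonempty ((toDD p).obj U ≅ D) := by
  rw [Groth.Agent.H51.AffEff.eff_iff]
  apply isEffective_of_good_cover
  intro v
  obtain ⟨D', j, hj, hv, hD'⟩ := h v
  exact ⟨⟨j.hom.left.opensRange, isGood_of_hom D D' j hD'⟩, hv⟩

end Main

end Groth.Agent.H68.StableGlue
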