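import Mathlib
import Groth.Prelude.Def_SGA4b
import Groth.Prelude.Def_EtOpen

/-!
# (P5) for helper67 / S3896: a subterminal étale sheaf has nonempty sections exactly over the
étale `X`-schemes whose image lies in a fixed open `U`.
-/

set_option autoImplicit false
universe u
open CategoryTheory CategoryTheory.Limits AlgebraicGeometry Opposite

namespace Groth.Agent.H68.SubT_P5

variable {X : Scheme.{u}}

/-- local copy of (P1): sections of a subterminal sheaf are subsingletons -/
theorem subsingleton_sections (F : EtDesc.Sh X) (hF : Mono (terminal.from F)) (W : X.Etale) :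
    Subsingleton (F.obj.obj (op W)) := by
  let E : EtDesc.Sh X ⥤ Type (u + 1) :=
    sheafToPresheaf _ _ ⋙ (evaluation _ _).obj (op W)
  have hT : IsTerminal (E.obj (⊤_ EtDesc.Sh X)) := terminalIsTerminal.isTerminalObj E _
  have hmono : Mono (E.map (terminal.from F)) := inferInstance
  have hinj := (mono_iff_injective _).mp hmono
  have hall : ∀ x y : E.obj (⊤_ EtDesc.Sh X), x = y := by
    intro x y
    have := hT.hom_ext (TypeCat.ofHom (fun _ : PUnit.{u + 2} => x)) (TypeCat.ofHom (fun _ => y))
    exact ConcreteCategory.congr_hom this PUnit.unit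
  constructor
  intro a b
  exact hinj (hall _ _)

theorem exists_opens_nonempty_sections_iff (F : EtDesc.Sh X) (hF : Mono (terminal.from F)) :
    ∃ U : X.Opens, ∀ W : X.Etale,
      Nonempty (F.obj.obj (op W)) ↔ Set.range W.hom.base ⊆ (U : Set X) := by
  have hsub := subsingleton_sections F hF
  let S : Set X := ⋃ (W : X.Etale) (_ : Nonempty (F.obj.obj (op W))),
    (Set.range W.hom.base : Set X)
  have hS : IsOpen S := by
    refine isOpen_iUnion fun W => isOpen_iUnion fun _ => ?_
    exact W.hom.isOpenMap.isOpen_range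
  refine ⟨⟨S, hS⟩, fun W => ⟨fun h => ?_, fun h => ?_⟩⟩
  · exact Set.subset_iUnion₂
      (s := fun (W : X.Etale) (_ : Nonempty (F.obj.obj (op W))) =>
        (Set.range W.hom.base : Set X)) W h
  · have hpt : ∀ w : W.left, ∃ (W' : X.Etale) (_ : Nonempty (F.obj.obj (op W'))) (w' : W'.left),
        W'.hom.base w' = W.hom.base w := by
      intro w
      have : W.hom.base w ∈ S := h ⟨w, rfl⟩
      simp only [S, Set.mem_iUnion, Set.mem_range] at this
      obtain ⟨W', hW', w', hw'⟩ := this
      exact ⟨W', hW', w', hw'⟩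
    choose W' hW' w' hw' using hpt
    let Z : W.left → X.Etale := fun w =>
      Scheme.Etale.mk (pullback.fst W.hom (W' w).hom ≫ W.hom)
    let f : ∀ w, Z w ⟶ W := fun w =>
      MorphismProperty.Over.homMk (pullback.fst W.hom (W' w).hom) rfl trivial
    let g : ∀ w, Z w ⟶ W' w := fun w =>
      MorphismProperty.Over.homMk (pullback.snd W.hom (W' w).hom) (pullback.condition).symm trivial
    have hcov : Sieve.ofArrows Z f ∈ X.smallEtaleTopology W := by
      rw [Scheme.ofArrows_mem_smallEtaleTopology_iff]
      ext w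
      simp only [Set.mem_iUnion, Set.mem_univ, iff_true]
      obtain ⟨z, hz1, hz2⟩ := Scheme.Pullback.exists_preimage_pullback
        (f := W.hom) (g := (W' w).hom) w (w' w) (hw' w).symm
      exact ⟨w, z, hz1⟩
    have hsheaf : Presieve.IsSheaf X.smallEtaleTopology F.obj :=
      (isSheaf_iff_isSheaf_of_type _ _).mp F.property
    have hne : ∀ ⦃V : X.Etale⦄ (k : V ⟶ W), (Sieve.ofArrows Z f).arrows k →
        Nonempty (F.obj.obj (op V)) := by
      intro V k hk
      obtain ⟨T, a, b, ⟨w⟩, rfl⟩ := hk
      obtain ⟨s⟩ := hW' w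
      exact ⟨F.obj.map (a ≫ g w).op s⟩
    let x : Presieve.FamilyOfElements F.obj (Sieve.ofArrows Z f).arrows :=
      fun V k hk => (hne k hk).some
    have hx : x.Compatible := by
      intro Y₁ Y₂ T g₁ g₂ f₁ f₂ h₁ h₂ _
      exact (hsub T).elim _ _
    obtain ⟨t, -, -⟩ := hsheaf _ hcov x hx
    exact ⟨t⟩

end Groth.Agent.H68.SubT_P5
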